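import Cfsg.Agent.J2C.Act

set_option autoImplicit false
set_option Elab.async false
set_option maxRecDepth 100000
set_option linter.all false

namespace Cfsg.Agent.J2C
open Cfsg.Agent.CGT

theorem a_1_0 : (allLt 35 fun i => actB 1 (35 * 0 + i)) = true := by decide +kernel
theorem a_1_1 : (allLt 35 fun i => actB 1 (35 * 1 + i)) = true := by decide +kernel
theorem a_1_2 : (allLt 35 fun i => actB 1 (35 * 2 + i)) = true := by decide +kernel
theorem a_1_3 : (allLt 35 fun i => actB 1 (35 * 3 + i)) = true := by decide +kernel
theorem a_1_4 : (allLt 35 fun i => actB 1 (35 * 4 + i)) = true := by decide +kernel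
theorem a_1_5 : (allLt 35 fun i => actB 1 (35 * 5 + i)) = true := by decide +kernel
theorem a_1_6 : (allLt 35 fun i => actB 1 (35 * 6 + i)) = true := by decide +kernel
theorem a_1_7 : (allLt 35 fun i => actB 1 (35 * 7 + i)) = true := by decide +kernel
theorem a_1_8 : (allLt 35 fun i => actB 1 (35 * 8 + i)) = true := by decide +kernel

end Cfsg.Agent.J2C
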