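import Cfsg.Agent.J2C.Rel
import Cfsg.Agent.J2C.L0

set_option autoImplicit false
set_option Elab.async false
set_option maxRecDepth 100000
set_option linter.all false

namespace Cfsg.Agent.J2C
open Cfsg.Agent.CGT

noncomputable def l1_n0 : Net := Net.cons 32 0x80000000 <|
  Net.cons 16 0x800000001f40 <|
  Net.cons 8 0x8000e20048 <|
  Net.cons 4 0x808000408 <|
  Net.cons 2 0x202002 <|
  Net.cons 1 0x15404054 <|
  Net.cons 2 0x200222102 <|
  Net.cons 4 0x808000408 <|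
  Net.cons 8 0x8000e200c8 <|
  Net.cons 16 0x800000001f40 <|
  Net.cons 32 0x80000000 <|
  Net.nil
noncomputable def l1_n1 : Net := Net.cons 32 0x38000000 <|
  Net.cons 16 0x38000000a400 <|
  Net.cons 8 0x1800900060 <|
  Net.cons 4 0x80204000000 <|
  Net.cons 2 0x200000220 <|
  Net.cons 1 0x1100000110 <|
  Net.cons 2 0x200210001222 <|
  Net.cons 4 0x802060c0200 <|
  Net.cons 8 0x1800900060 <|
  Net.cons 16 0x38000000a400 <|
  Net.cons 32 0x38000000 <|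
  Net.nil
noncomputable def l1_n2 : Net := Net.cons 32 0x20000000 <|
  Net.cons 16 0x200000000200 <|
  Net.cons 8 0x200018003a <|
  Net.cons 4 0x802080406 <|
  Net.cons 2 0x202002 <|
  Net.cons 1 0x110104014 <|
  Net.cons 2 0x2000222202 <|
  Net.cons 4 0x80208050e <|
  Net.cons 8 0x200019003a <|
  Net.cons 16 0x200000000200 <|
  Net.cons 32 0x20000000 <|
  Net.nil
noncomputable def l1_n3 : Net := Net.cons 32 0x90000000 <|
  Net.cons 16 0x900000001200 <|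
  Net.cons 8 0x9000340000 <|
  Net.cons 4 0xc0408020a <|
  Net.cons 2 0x20002 <|
  Net.cons 1 0x540154 <|
  Net.cons 2 0x1201320002 <|
  Net.cons 4 0xc0608020a <|
  Net.cons 8 0x9000340080 <|
  Net.cons 16 0x900000001200 <|
  Net.cons 32 0x90000000 <|
  Net.nil
noncomputable def l1_n4 : Net := Net.cons 32 0x24000000 <|
  Net.cons 16 0x240000008388 <|
  Net.cons 8 0x400640020 <|
  Net.cons 4 0x40006080000 <|
  Net.cons 2 0x200002020000 <|
  Net.cons 1 0x400014010001 <|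
  Net.cons 2 0x200113022300 <|
  Net.cons 4 0x40001080a08 <|
  Net.cons 8 0x400640060 <|
  Net.cons 16 0x240000008388 <|
  Net.cons 32 0x24000000 <|
  Net.nil
noncomputable def l1_ns : List Net := [l1_n0, l1_n1, l1_n2, l1_n3, l1_n4, Net.nil]
noncomputable def l1_R : List (List ℕ) := [[0, 0], [2, 2], [4, 4], [6, 6], [8, 8], [0, 2, 0, 2, 0, 2], [2, 4, 2, 4], [0, 4, 0, 4, 0, 4], [0, 6, 0, 6], [4, 6, 4, 6, 4, 6], [0, 2, 0, 6, 2, 0, 6, 2, 6], [2, 4, 6, 2, 4, 6, 2, 4, 6], [0, 8, 0, 8, 0, 8], [2, 8, 2, 8, 2, 8], [4, 8, 4, 8, 4, 8], [6, 8, 6, 8, 6, 8], [0, 2, 0, 8, 0, 4, 0, 8]]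
noncomputable def l1_S0 : List (List ℕ) := [[0], [2], [4], [6]]
noncomputable def l1_E : Enum := ⟨l1_ns, l1_R, l1_S0, [], 0⟩
theorem l1_v : validAll (2 ^ 6) l1_ns = true := by decide +kernel
theorem l1_p0 : holdsB 6 l1_ns l1_R = true := by decide +kernel
theorem l1_p : Holds (lp l1_ns) l1_R := holdsB_sound l1_v l1_p0
theorem l1_f : allL l1_E.Sub (fixN l1_E.ns l1_E.b0) = true := by decide +kernel
theorem l1_r0 : l1_E.run [34, 16, 2, 0, 10, 4, 26, 12, 34, 16, 2, 0, 10, 4, 18, 8, 26, 12, 34, 16, 2, 0, 10, 4, 24, 32, 52, 3, 7, 11, 15, 4144, 4148, 60, 4156, 4128, 36, 48, 52, 4116, 4160, 20544, 20, 4132, 32, 4144, 52, 20544, 40, 0, 8236, 4116, 36, 4120, 28, 16448, 0, 28736, 4128, 4116, 48, 52, 4148, 56, 60, 4156, 4120, 20, 48, 4144, 52, 20, 16448, 0, 20544, 28, 4124, 4132, 4144, 4152, 60, 32, 4128, 4144, 60, 36, 4160, 12352, 16, 20, 60, 4128, 36, 4160, 4148, 20544, 4132, 40, 0, 44, 12352] (1 <<<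 0) (List.replicate 10 0) (Enum.done 36 [0, 2, 4, 6, 8]) = true := by decide +kernel
theorem l1_fin {G : Type*} [Group G] {γ : ℕ → G} (hR : Holds (ext γ) l1_R) {H : Subgroup G}
    (hS : ∀ u ∈ l1_S0, ev (ext γ) u ∈ H) : l1_E.Fin γ H 36 [0, 2, 4, 6, 8] :=
  have hy : l1_E.Hyp γ H := Enum.hyp_of l1_v hR l1_p hS l1_f
  (Enum.fin_of_done hy (Enum.inv_init 10) l1_r0)
noncomputable def l2_n0 : Net := Net.cons 4 0x4 <|
  Net.cons 1 0x4 <|
  Net.cons 2 0x10 <|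
  Net.cons 4 0x4 <|
  Net.nil
noncomputable def l2_n1 : Net := Net.cons 4 0x8 <|
  Net.cons 2 0x2 <|
  Net.cons 1 0x4 <|
  Net.cons 2 0x22 <|
  Net.cons 4 0x8 <|
  Net.nil
noncomputable def l2_n2 : Net := Net.cons 4 0x4 <|
  Net.cons 2 0x20 <|
  Net.cons 1 0x40 <|
  Net.cons 2 0x22 <|
  Net.cons 4 0x4 <|
  Net.nil
noncomputable def l2_n3 : Net := Net.cons 4 0x4 <|
  Net.cons 1 0x1 <|
  Net.cons 2 0x10 <|
  Net.cons 4 0x4 <|
  Net.nil
noncomputable def l2_ns : List Net := [l2_n0, l2_n1, l2_n2, l2_n3, Net.nil, Net.nil]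
noncomputable def l2_R : List (List ℕ) := [[0, 0], [2, 2], [4, 4], [6, 6], [0, 2, 0, 2, 0, 2], [2, 4, 2, 4], [0, 4, 0, 4, 0, 4], [0, 6, 0, 6], [4, 6, 4, 6, 4, 6], [0, 2, 0, 6, 2, 0, 6, 2, 6], [2, 4, 6, 2, 4, 6, 2, 4, 6]]
noncomputable def l2_S0 : List (List ℕ) := [[0], [2], [4]]
noncomputable def l2_E : Enum := ⟨l2_ns, l2_R, l2_S0, [], 0⟩
theorem l2_v : validAll (2 ^ 3) l2_ns = true := by decide +kernel
theorem l2_p0 : holdsB 3 l2_ns l2_R = true := by decide +kernel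
theorem l2_p : Holds (lp l2_ns) l2_R := holdsB_sound l2_v l2_p0
theorem l2_f : allL l2_E.Sub (fixN l2_E.ns l2_E.b0) = true := by decide +kernel
theorem l2_r0 : l2_E.run [26, 12, 10, 4, 18, 8, 26, 12, 2, 0, 20, 3, 7, 11, 28, 4120, 4128, 4124, 36, 0, 8232, 4112, 32, 24, 4112] (1 <<< 0) (List.replicate 8 0) (Enum.done 7 [0, 2, 4, 6]) = true := by decide +kernel
theorem l2_fin {G : Type*} [Group G] {γ : ℕ → G} (hR : Holds (ext γ) l2_R) {H : Subgroup G}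
    (hS : ∀ u ∈ l2_S0, ev (ext γ) u ∈ H) : l2_E.Fin γ H 7 [0, 2, 4, 6] :=
  have hy : l2_E.Hyp γ H := Enum.hyp_of l2_v hR l2_p hS l2_f
  (Enum.fin_of_done hy (Enum.inv_init 8) l2_r0)
noncomputable def l3_n0 : Net := Net.cons 2 0x2 <|
  Net.cons 1 0x4 <|
  Net.cons 2 0x2 <|
  Net.nil
noncomputable def l3_n1 : Net := Net.cons 1 0x4 <|
  Net.nil
noncomputable def l3_n2 : Net := Net.cons 1 0x1 <|
  Net.nil
noncomputable def l3_ns : List Net := [l3_n0, l3_n1, l3_n2, Net.nil, Net.nil, Net.nil]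
noncomputable def l3_R : List (List ℕ) := [[0, 0], [2, 2], [4, 4], [0, 2, 0, 2, 0, 2], [2, 4, 2, 4], [0, 4, 0, 4, 0, 4]]
noncomputable def l3_S0 : List (List ℕ) := [[0], [2]]
noncomputable def l3_E : Enum := ⟨l3_ns, l3_R, l3_S0, [], 0⟩
theorem l3_v : validAll (2 ^ 3) l3_ns = true := by decide +kernel
theorem l3_p0 : holdsB 3 l3_ns l3_R = true := by decide +kernel
theorem l3_p : Holds (lp l3_ns) l3_R := holdsB_sound l3_v l3_p0
theorem l3_f : allL l3_E.Sub (fixN l3_E.ns l3_E.b0) = true := by decide +kernel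
theorem l3_r0 : l3_E.run [18, 8, 2, 0, 10, 4, 3, 7, 16, 12, 4116, 4112] (1 <<< 0) (List.replicate 6 0) (Enum.done 4 [0, 2, 4]) = true := by decide +kernel
theorem l3_fin {G : Type*} [Group G] {γ : ℕ → G} (hR : Holds (ext γ) l3_R) {H : Subgroup G}
    (hS : ∀ u ∈ l3_S0, ev (ext γ) u ∈ H) : l3_E.Fin γ H 4 [0, 2, 4] :=
  have hy : l3_E.Hyp γ H := Enum.hyp_of l3_v hR l3_p hS l3_f
  (Enum.fin_of_done hy (Enum.inv_init 6) l3_r0)
noncomputable def l4_n0 : Net := Net.cons 2 0x2 <|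
  Net.cons 1 0x4 <|
  Net.cons 2 0x2 <|
  Net.nil
noncomputable def l4_n1 : Net := Net.cons 1 0x1 <|
  Net.nil
noncomputable def l4_ns : List Net := [l4_n0, l4_n1, Net.nil, Net.nil, Net.nil, Net.nil]
noncomputable def l4_R : List (List ℕ) := [[0, 0], [2, 2], [0, 2, 0, 2, 0, 2]]
noncomputable def l4_S0 : List (List ℕ) := [[0]]
noncomputable def l4_E : Enum := ⟨l4_ns, l4_R, l4_S0, [], 0⟩
theorem l4_v : validAll (2 ^ 3) l4_ns = true := by decide +kernel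
theorem l4_p0 : holdsB 3 l4_ns l4_R = true := by decide +kernel
theorem l4_p : Holds (lp l4_ns) l4_R := holdsB_sound l4_v l4_p0
theorem l4_f : allL l4_E.Sub (fixN l4_E.ns l4_E.b0) = true := by decide +kernel
theorem l4_r0 : l4_E.run [10, 4, 2, 0, 3, 4104] (1 <<< 0) (List.replicate 4 0) (Enum.done 3 [0, 2]) = true := by decide +kernel
theorem l4_fin {G : Type*} [Group G] {γ : ℕ → G} (hR : Holds (ext γ) l4_R) {H : Subgroup G}
    (hS : ∀ u ∈ l4_S0, ev (ext γ) u ∈ H) : l4_E.Fin γ H 3 [0, 2] :=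
  have hy : l4_E.Hyp γ H := Enum.hyp_of l4_v hR l4_p hS l4_f
  (Enum.fin_of_done hy (Enum.inv_init 4) l4_r0)
noncomputable def l5_n0 : Net := Net.cons 1 0x1 <|
  Net.nil
noncomputable def l5_ns : List Net := [l5_n0, Net.nil, Net.nil, Net.nil, Net.nil, Net.nil]
noncomputable def l5_R : List (List ℕ) := [[0, 0]]
noncomputable def l5_S0 : List (List ℕ) := []
noncomputable def l5_E : Enum := ⟨l5_ns, l5_R, l5_S0, [], 0⟩
theorem l5_v : validAll (2 ^ 3) l5_ns = true := by decide +kernel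
theorem l5_p0 : holdsB 3 l5_ns l5_R = true := by decide +kernel
theorem l5_p : Holds (lp l5_ns) l5_R := holdsB_sound l5_v l5_p0
theorem l5_f : allL l5_E.Sub (fixN l5_E.ns l5_E.b0) = true := by decide +kernel
theorem l5_r0 : l5_E.run [2, 0] (1 <<< 0) (List.replicate 2 0) (Enum.done 2 [0]) = true := by decide +kernel
theorem l5_fin {G : Type*} [Group G] {γ : ℕ → G} (hR : Holds (ext γ) l5_R) {H : Subgroup G}
    (hS : ∀ u ∈ l5_S0, ev (ext γ) u ∈ H) : l5_E.Fin γ H 2 [0] :=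
  have hy : l5_E.Hyp γ H := Enum.hyp_of l5_v hR l5_p hS l5_f
  (Enum.fin_of_done hy (Enum.inv_init 2) l5_r0)
theorem bd5 {G : Type*} [Group G] {γ : ℕ → G} (hR : Holds (ext γ) RR) : Bd (gp γ [0]) 2 :=
  Bd.step (l5_fin (hR.subR (by decide +kernel)) (wordsIn_sound γ (L := []) (by decide +kernel))) (Bd.gp_nil γ) (by norm_num)
theorem bd4 {G : Type*} [Group G] {γ : ℕ → G} (hR : Holds (ext γ) RR) : Bd (gp γ [0, 2]) 6 :=
  Bd.step (l4_fin (hR.subR (by decide +kernel)) (wordsIn_sound γ (L := [0]) (by decide +kernel))) (bd5 hR) (by norm_num)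
theorem bd3 {G : Type*} [Group G] {γ : ℕ → G} (hR : Holds (ext γ) RR) : Bd (gp γ [0, 2, 4]) 24 :=
  Bd.step (l3_fin (hR.subR (by decide +kernel)) (wordsIn_sound γ (L := [0, 2]) (by decide +kernel))) (bd4 hR) (by norm_num)
theorem bd2 {G : Type*} [Group G] {γ : ℕ → G} (hR : Holds (ext γ) RR) : Bd (gp γ [0, 2, 4, 6]) 168 :=
  Bd.step (l2_fin (hR.subR (by decide +kernel)) (wordsIn_sound γ (L := [0, 2, 4]) (by decide +kernel))) (bd3 hR) (by norm_num)
theorem bd1 {G : Type*} [Group G] {γ : ℕ → G} (hR : Holds (ext γ) RR) : Bd (gp γ [0, 2, 4, 6, 8]) 6048 :=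
  Bd.step (l1_fin (hR.subR (by decide +kernel)) (wordsIn_sound γ (L := [0, 2, 4, 6]) (by decide +kernel))) (bd2 hR) (by norm_num)
theorem bd0 {G : Type*} [Group G] {γ : ℕ → G} (hR : Holds (ext γ) RR) : Bd (gp γ [0, 2, 4, 6, 8, 10]) 604800 :=
  Bd.step (l0_fin (hR.subR (by decide +kernel)) (wordsIn_sound γ (L := [0, 2, 4, 6, 8]) (by decide +kernel))) (bd1 hR) (by norm_num)

end Cfsg.Agent.J2C
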