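import Cfsg.Agent.J2C.Act0
import Cfsg.Agent.J2C.Act1
import Cfsg.Agent.J2C.Act2
import Cfsg.Agent.J2C.Act3
import Cfsg.Agent.J2C.Act4
import Cfsg.Agent.J2C.Act5
import Cfsg.Agent.J2C.Bound

set_option autoImplicit false
set_option Elab.async false
set_option maxRecDepth 100000
set_option linter.all false

namespace Cfsg.Agent.J2C
open Cfsg.Agent.CGT

theorem act_ok (j i : ℕ) (hj : j < 6) (hi : i < 315) : actB j i = true := by
  have h : ∀ c < 9, (allLt 35 fun i => actB j (35 * c + i)) = true := fun c hc => by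
    interval_cases j <;> interval_cases c
    exacts [a_0_0, a_0_1, a_0_2, a_0_3, a_0_4, a_0_5, a_0_6, a_0_7, a_0_8, a_1_0, a_1_1, a_1_2, a_1_3, a_1_4, a_1_5, a_1_6, a_1_7, a_1_8, a_2_0, a_2_1, a_2_2, a_2_3, a_2_4, a_2_5, a_2_6, a_2_7, a_2_8, a_3_0, a_3_1, a_3_2, a_3_3, a_3_4, a_3_5, a_3_6, a_3_7, a_3_8, a_4_0, a_4_1, a_4_2, a_4_3, a_4_4, a_4_5, a_4_6, a_4_7, a_4_8, a_5_0, a_5_1, a_5_2, a_5_3, a_5_4, a_5_5, a_5_6, a_5_7, a_5_8]
  simpa only [Nat.div_add_mod] using allLt_iff.1 (h (i / 35) (by omega)) (i % 35) (by omega)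
theorem len : pts.length = 315 := by decide +kernel
open Cfsg.Spor
theorem mn (i : ℕ) (hi : i < 315) : Mn (vec (nth P0 pts i)) :=
  mn_iff.2 (of_decide_eq_true (allL_iff.1 mn_ok _ (FT.nth_mem _ (len ▸ hi))))
theorem key_nth (i : ℕ) (hi : i < 315) : nth [] ks i = key (nth P0 pts i) := by
  rw [← ks_eq, nth_eq, nth_eq, List.getD_eq_getElem _ _ (by simpa [len] using hi),
    List.getD_eq_getElem _ _ (len ▸ hi), List.getElem_map]
/-- the reflections -/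
noncomputable def t (i : ℕ) : twoJ2 := rf (vec (nth P0 pts i))
/-- the generators of the double cover -/
noncomputable def γ0 (j : ℕ) : twoJ2 := if j < 6 then t (nth 0 Hs j) else 1
/-- the generators -/
noncomputable def γ : ℕ → J2 := qg (Subgroup.center _) γ0
theorem t_inj (i j : ℕ) (hi : i < 315) (hj : j < 315) (h : t i = t j) : i = j := by
  have h1 := eqv_iff.1 (eqv_of_rf (mn i hi) (mn j hj) h)
  have hl : ks.length = 315 := by rw [← ks_eq, List.length_map, len]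
  rw [← key_nth i hi, ← key_nth j hj, nth_eq, nth_eq, List.getD_eq_getElem _ _ (hl ▸ hi),
    List.getD_eq_getElem _ _ (hl ▸ hj)] at h1
  exact ks_nd.getElem_inj_iff.1 h1
theorem t_act (j i : ℕ) (hi : i < 315) : γ0 j * t i * (γ0 j)⁻¹ = t (netPerm m_ns j i) := by
  unfold γ0
  split_ifs with hj
  · have h := (Nat.blt_eq.mp (allLt_iff.1 Hs_lt j hj))
    obtain ⟨P, h1, h2⟩ := rfl3_sound (act_ok j i hj hi)
    have h3 := bddPerm_lt (fixAbove_sound m_v m_f j) hi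
    rw [ap_eq m_v m_ts_ok _ (by omega), ev_singleton, CGT.lp, ext_two_mul, key_nth _ h3] at h1
    rw [t, t, t, rf_conj (mn _ h) (mn i hi), h2]
    exact (eqv_iff.2 (of_decide_eq_true h1)).rf (h2 ▸ (mn _ h).refl (mn i hi)) (mn _ h3)
  · rw [netPerm_of_le m_ns (show 6 ≤ j by omega)]; simp
theorem lets (a : ℕ) (ha : a ∈ [0, 2, 4, 6, 8, 10]) : ∃ j < 6, a = 2 * j :=
  ⟨a / 2, by simp at ha; omega⟩
theorem gen_top0 : gp γ0 [0, 2, 4, 6, 8, 10] = ⊤ := eq_top_of_closure fun f ⟨r, h1, h2⟩ => by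
  have h3 : ∀ i < 315, t i ∈ gp γ0 [0, 2, 4, 6, 8, 10] :=
    treeB_sound m_v m_ts_ok (by norm_num) tree (ext_mem_gp γ0 (a := 0) (by simp)) fun a ha i hi h => by
      have h4 := ext_mem_gp γ0 ha
      obtain ⟨j, -, rfl⟩ := lets a ha
      rw [ext_two_mul] at h4
      rw [CGT.lp, ext_two_mul, ← t_act j i hi]
      exact mul_mem (mul_mem h4 h) (inv_mem h4)
  have hr : Mn r := ⟨r.2, h1⟩
  obtain ⟨P, h4, h5⟩ := cls (allQ chkE) chk1 (by decide +kernel) hr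
  rw [← ks_eq] at h4
  obtain ⟨P', h6, h7⟩ := List.mem_map.1 h4
  obtain ⟨i, hi, rfl⟩ := List.getElem_of_mem h6
  have h8 : nth P0 pts i = pts[i] := by rw [nth_eq, List.getD_eq_getElem]
  have h9 := mn i (len ▸ hi)
  have : (⟨f, Subgroup.subset_closure ⟨r, h1, h2⟩⟩ : twoJ2) = t i := tj_ext fun x => by
    rw [t, rf_apply h9, h8, (eqv_iff.2 h7).qrefl, ← h5.qrefl]
    exact h2 x
  exact this ▸ h3 i (len ▸ hi)
theorem gen_top : gp γ [0, 2, 4, 6, 8, 10] = ⊤ := gp_qg _ gen_top0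
theorem gam1 (j : ℕ) (hj : 6 ≤ j) : γ j = 1 := by
  rw [γ, qg, γ0, if_neg (by omega), map_one]
theorem model : ∃ φ : J2 →* Equiv.Perm ℕ, Function.Injective φ ∧ Model φ γ 9 m_ns m_ts := by
  obtain ⟨φ, h1, h2⟩ := conj_model gen_top0 t_inj (fun a ha => by
    obtain ⟨j, hj, rfl⟩ := lets a ha
    exact ⟨_, (Nat.blt_eq.mp (allLt_iff.1 Hs_lt j hj)), by rw [ext_two_mul, γ0, if_pos hj]⟩) (fixAbove_sound m_v m_f) t_act
  exact ⟨φ, h1, m_v, h2, m_ts_ok⟩
theorem rels' : Holds (ext γ) RR := by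
  obtain ⟨φ, h, M⟩ := model
  exact holds_of_inj M h m_p
theorem cert : ∃ φ, Cert φ γ 9 m_ns m_ts [0, 2, 4, 6, 8, 10] c_ls := by
  obtain ⟨φ, -, M⟩ := model
  exact ⟨φ, Cert.of_bound M gen_top (c_sound M) ((bd0 rels').top gen_top) (by decide +kernel)⟩
theorem card_eq : Nat.card J2 = 604800 := by
  obtain ⟨φ, C⟩ := cert
  exact C.card.trans (by decide +kernel)

end Cfsg.Agent.J2C
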