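import Cfsg.Agent.J2C.Lat

set_option autoImplicit false

/-! The classification of minimal vectors. -/

namespace Cfsg.Agent.J2C

open Cfsg.Spor Quaternion Cfsg.Agent.CGT

/-- Triples of coordinates. -/
structure P3 where
  (x y z : Q)

noncomputable def vec (P : P3) : V := ![hf P.x, hf P.y, hf P.z]

def key (P : P3) : List Q := [P.x.cj.mul P.x, P.x.cj.mul P.y, P.x.cj.mul P.z, P.y.cj.mul P.x,
  P.y.cj.mul P.y, P.y.cj.mul P.z, P.z.cj.mul P.x, P.z.cj.mul P.y, P.z.cj.mul P.z]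

theorem prod_iff {X Y X' Y' : Q} :
    star (hf X) * hf Y = star (hf X') * hf Y' ↔ X.cj.mul Y = X'.cj.mul Y' := by
  rw [← hf_cj, ← hf_cj, hf_mul, hf_mul]
  exact ⟨fun h => ψ_inj (smul_right_injective _ (by norm_num : (1 / 4 : ℝ) ≠ 0) h), fun h => by rw [h]⟩

theorem eqv_iff {P P' : P3} : Eqv (vec P) (vec P') ↔ key P = key P' := by
  simp [Eqv, vec, key, Fin.forall_fin_succ, prod_iff, and_assoc]

/-- The test for minimal vectors. -/
def MnB (P : P3) : Prop := P.x.p + P.y.p + P.z.p = 16 ∧ P.x.q + P.y.q + P.z.q = 0 ∧ P.x.IC ∧ P.y.IC ∧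
  P.z.IC ∧ ID QH (P.x.sub P.y) ∧ ID QH (P.y.sub P.z) ∧ ID QH.cj ((P.x.add P.y).add P.z)

instance (P : P3) : Decidable (MnB P) := by unfold MnB; infer_instance

theorem hf_mem_iff {X : Q} : hf X ∈ icosians ↔ X.IC :=
  ⟨fun h => by obtain ⟨Y, h1, h2⟩ := ico_coord h; exact hf_inj h2 ▸ h1, hf_mem⟩

theorem sc_iff {m n m' : ℤ} {c : ℍ[ℝ]} (hc : hf (Q.sc m' 0) = c) :
    (1 / 4 : ℝ) • ψ (Q.sc m n) = c ↔ m = 2 * m' ∧ n = 0 := by
  have : c = (1 / 4 : ℝ) • ψ (Q.sc (2 * m') 0) := by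
    rw [← hc]
    ext <;> simp [hf, Q.sc]
    ring
  rw [this]
  refine ⟨fun h => ?_, fun h => by rw [h.1, h.2]⟩
  simpa [Q.sc] using ψ_inj (smul_right_injective _ (by norm_num : (1 / 4 : ℝ) ≠ 0) h)

theorem mn_iff {P : P3} : Mn (vec P) ↔ MnB P := by
  have h8 : hf (Q.sc 8 0) = 4 := by
    rw [show Q.sc 8 0 = (Q.sc 4 0).add (Q.sc 4 0) by decide, hf_add, hf_four]; norm_num
  have h1 : qip (vec P) (vec P) = (1 / 4 : ℝ) • ψ (Q.sc (P.x.p + P.y.p + P.z.p) (P.x.q + P.y.q + P.z.q)) := by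
    simp only [qip, vec, Fin.sum_univ_three, Matrix.cons_val, nrm_hf, ← smul_add, ← ψ_add]
    rfl
  unfold Mn MnB
  rw [h1, sc_iff h8, ← mem_H, ← mem_H, ← mem_H', hf_sub, hf_sub, hf_add, hf_add]
  simp only [icoLeech, vec, Set.mem_setOf_eq, Fin.forall_fin_succ, Matrix.cons_val, Matrix.cons_val_succ,
    hf_mem_iff, IsEmpty.forall_iff]
  norm_num
  tauto

theorem exists_vec {r : V} (h : r ∈ icoLeech) : ∃ P, vec P = r := by
  obtain ⟨X, -, h1⟩ := ico_coord (h.1 0)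
  obtain ⟨Y, -, h2⟩ := ico_coord (h.1 1)
  obtain ⟨Z, -, h3⟩ := ico_coord (h.1 2)
  exact ⟨⟨X, Y, Z⟩, funext fun t => by fin_cases t <;> assumption⟩

/-- All lists with small sum of squares. -/
def allSq : ℕ → ℕ → (List ℤ → Bool) → Bool
  | 0, _, f => f []
  | k + 1, n, f => allSq k n (fun l => f (0 :: l)) &&
    ((Nat.blt n 1 || (allSq k (n - 1) (fun l => f (1 :: l)) && allSq k (n - 1) (fun l => f (-1 :: l)))) &&
    (Nat.blt n 4 || (allSq k (n - 4) (fun l => f (2 :: l)) && allSq k (n - 4) (fun l => f (-2 :: l)))))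

theorem allSq_sound {k n : ℕ} {f : List ℤ → Bool} (h : allSq k n f = true) (hn : n < 9) (l : List ℤ)
    (hl : l.length = k) (hs : (l.map fun x : ℤ => x ^ 2).sum ≤ (n : ℤ)) : f l = true := by
  induction l generalizing k n f with
  | nil => subst hl; exact h
  | cons a l ih =>
    subst hl
    simp only [allSq, List.length_cons, Bool.and_eq_true, Bool.or_eq_true, Nat.blt_eq] at h
    have hn' : (n : ℤ) < 9 := by exact_mod_cast hn
    have h0 : 0 ≤ (l.map fun x : ℤ => x ^ 2).sum := List.sum_nonneg fun x hx => by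
      obtain ⟨y, -, rfl⟩ := List.mem_map.1 hx
      positivity
    rw [List.map_cons, List.sum_cons] at hs
    have h1 : -3 < a := by nlinarith
    have h2 : a < 3 := by nlinarith
    obtain ⟨h3, h4, h5⟩ := h
    interval_cases a
    · exact ih (h5.resolve_left (by omega)).2 (by omega) rfl (by omega)
    · exact ih (h4.resolve_left (by omega)).2 (by omega) rfl (by omega)
    · exact ih h3 hn rfl (by omega)
    · exact ih (h4.resolve_left (by omega)).1 (by omega) rfl (by omega)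
    · exact ih (h5.resolve_left (by omega)).1 (by omega) rfl (by omega)

theorem allSq_succ {k n : ℕ} {f : List ℤ → Bool} (h0 : allSq k n (fun l => f (0 :: l)) = true)
    (h1 : allSq k (n - 1) (fun l => f (1 :: l)) = true) (h2 : allSq k (n - 1) (fun l => f (-1 :: l)) = true)
    (h3 : allSq k (n - 4) (fun l => f (2 :: l)) = true) (h4 : allSq k (n - 4) (fun l => f (-2 :: l)) = true) :
    allSq (k + 1) n f = true := by
  simp [allSq, h0, h1, h2, h3, h4]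

def Q.ofL : List ℤ → Q
  | [a, b, c, d, a', b', c', d'] => ⟨a, b, c, d, a', b', c', d'⟩
  | _ => Q.sc 0 0

theorem allQ {f : Q → Prop} [DecidablePred f] (h : allSq 8 8 (fun l => decide (f (Q.ofL l))) = true)
    (X : Q) (hX : X.p ≤ 8) : f X :=
  of_decide_eq_true (allSq_sound h (by norm_num) [X.a, X.b, X.c, X.d, X.a', X.b', X.c', X.d'] rfl
    (by simpa [Q.p] using hX))

theorem p_nonneg (X : Q) : 0 ≤ X.p := by unfold Q.p; positivity

def ChkE (B : List Q) (ks : List (List Q)) (A : Q) : Prop := A.IC →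
  (A = Q.sc 0 0 ∨ A.p = 4 ∧ (A.q = 0 ∨ A.q = 4) ∨ A.p = 8 ∧ -4 ≤ A.q) ∧
  (ID QH ((Q.sc 2 0).sub A) → A ∈ B) ∧ (MnB ⟨QH, A, Q.sc 0 0⟩ → key ⟨QH, A, Q.sc 0 0⟩ ∈ ks ∧
    key ⟨QH, Q.sc 0 0, A⟩ ∈ ks ∧ key ⟨Q.sc 0 0, QH, A⟩ ∈ ks)

instance (B : List Q) (ks : List (List Q)) : DecidablePred (ChkE B ks) := fun _ => by
  unfold ChkE; infer_instance

def K3 (ks : List (List Q)) (Y Z : Q) : Prop := MnB ⟨Q.sc 2 0, Y, Z⟩ →
  key ⟨Q.sc 2 0, Y, Z⟩ ∈ ks ∧ key ⟨Y, Q.sc 2 0, Z⟩ ∈ ks ∧ key ⟨Y, Z, Q.sc 2 0⟩ ∈ ks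

instance (ks : List (List Q)) (Y Z : Q) : Decidable (K3 ks Y Z) := by unfold K3; infer_instance

def Chk2 (B : List Q) (ks : List (List Q)) (Y : Q) : Prop := ∀ Z ∈ B, K3 ks Y Z ∧ K3 ks Z Y

instance (B : List Q) (ks : List (List Q)) (Y : Q) : Decidable (Chk2 B ks Y) := by
  unfold Chk2; infer_instance

def Chk1 (B : List Q) (ks : List (List Q)) : Prop := ∀ Y ∈ B, Y.p = 4 → Chk2 B ks Y

theorem mn_swap {x y z : ℍ[ℝ]} (h : Mn ![x, y, z]) : Mn ![y, x, z] := by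
  obtain ⟨⟨h1, h2, h3, h4⟩, h5⟩ := h
  simp only [qip, Fin.sum_univ_three, Matrix.cons_val] at h2 h3 h4 h5
  refine ⟨⟨fun t => ?_, by simpa using id_neg h2, by simpa using id_sub h3 (id_neg h2),
    by simpa [add_comm x y] using h4⟩, by simpa [qip, Fin.sum_univ_three, add_comm (x * star x)] using h5⟩
  fin_cases t
  exacts [h1 1, h1 0, h1 2]

theorem mn_rot {x y z : ℍ[ℝ]} (h : Mn ![x, y, z]) : Mn ![y, z, x] := by
  obtain ⟨⟨h1, h2, h3, h4⟩, h5⟩ := h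
  simp only [qip, Fin.sum_univ_three, Matrix.cons_val] at h2 h3 h4 h5
  refine ⟨⟨fun t => ?_, h3, by simpa using id_sub (id_neg h3) h2,
    by rwa [add_rotate] at h4⟩, by rw [add_rotate] at h5; simpa [qip, Fin.sum_univ_three] using h5⟩
  fin_cases t
  exacts [h1 1, h1 2, h1 0]

/-- Known keys. -/
def Kn (ks : List (List Q)) (r : V) : Prop := ∃ P, key P ∈ ks ∧ Eqv r (vec P)

theorem Mn.mul {r : V} (h : Mn r) {u : ℍ[ℝ]} (hu : u ∈ icosians) (h1 : u * star u = 1) :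
    Mn fun t => u * r t := by
  refine ⟨lat_mul hu h.1, ?_⟩
  have : qip (fun t => u * r t) (fun t => u * r t) = u * qip r r * star u := by
    simp only [qip, Fin.sum_univ_three, star_mul]
    noncomm_ring
  rw [this, h.2, ← (Nat.cast_ofNat : ((4 : ℕ) : ℍ[ℝ]) = 4), ← Nat.cast_comm, mul_assoc, h1, mul_one]

section
variable {B : List Q} {ks : List (List Q)} (hE : ∀ A : Q, A.p ≤ 8 → ChkE B ks A) (h1 : Chk1 B ks)
  (h4 : key ⟨Q.sc 4 0, Q.sc 0 0, Q.sc 0 0⟩ ∈ ks ∧ key ⟨Q.sc 0 0, Q.sc 4 0, Q.sc 0 0⟩ ∈ ks ∧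
    key ⟨Q.sc 0 0, Q.sc 0 0, Q.sc 4 0⟩ ∈ ks)

theorem eqv_vec {u x y z : ℍ[ℝ]} (hu : star u * u = 1) {X Y Z : Q} (hx : hf X = u * x) (hy : hf Y = u * y)
    (hz : hf Z = u * z) : Eqv ![x, y, z] (vec ⟨X, Y, Z⟩) := by
  convert eqv_mul hu ![x, y, z] using 1
  funext t
  fin_cases t <;> assumption

include hE h1 in
theorem cls_one {x y z : ℍ[ℝ]} (h : Mn ![x, y, z]) (hx : x * star x = 1) :
    Kn ks ![x, y, z] ∧ Kn ks ![y, x, z] ∧ Kn ks ![y, z, x] := by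
  have hx' : star x * x = 1 := by rw [star_comm_self', hx]
  have h2 := h.mul (star_mem (h.1.1 0)) (by simpa using hx')
  obtain ⟨⟨X, Y, Z⟩, e⟩ := exists_vec h2.1
  have eX : hf X = star x * x := congrFun e 0
  have eY : hf Y = star x * y := congrFun e 1
  have eZ : hf Z = star x * z := congrFun e 2
  obtain rfl : X = Q.sc 2 0 := hf_inj (by rw [eX, hx', hf_two])
  rw [← e] at h2
  have h3 := mn_iff.1 h2
  have h5 := (mn_iff (P := ⟨Q.sc 2 0, Z, Y⟩)).1 (mn_rot (mn_swap (x := hf _) (y := hf Y) (z := hf Z) h2))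
  have hp : Y.p + Z.p = 12 := by have := h3.1; change (4 : ℤ) + Y.p + Z.p = 16 at this; omega
  have k : ∀ A : Q, A.IC → ID QH ((Q.sc 2 0).sub A) → A.p ≤ 8 → (A.p = 4 ∨ A.p = 8) ∧ A ∈ B := fun A a1 a2 a3 => by
    obtain ⟨a4, a5, -⟩ := hE A a3 a1
    refine ⟨?_, a5 a2⟩
    rcases a4 with rfl | a4 | a4
    · exact absurd a2 (by decide)
    · omega
    · omega
  have kY := k Y h3.2.2.2.1 h3.2.2.2.2.2.1
  have kZ := k Z h5.2.2.2.1 h5.2.2.2.2.2.1
  have kY' := kY (by by_contra hc; have := (kZ (by omega)).1; omega)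
  have kZ' := kZ (by by_contra hc; have := (kY (by omega)).1; omega)
  obtain ⟨k1, k2, k3⟩ := kY'.1.elim (fun e => (h1 Y kY'.2 e Z kZ'.2).1 h3)
    fun e => (h1 Z kZ'.2 (by omega) Y kY'.2).2 h3
  have hu : star (star x) * star x = 1 := by simpa using hx
  exact ⟨⟨_, k1, eqv_vec hu eX eY eZ⟩, ⟨_, k2, eqv_vec hu eY eX eZ⟩, ⟨_, k3, eqv_vec hu eY eZ eX⟩⟩

include h4 in
theorem cls_axis {x : ℍ[ℝ]} (h : Mn ![x, 0, 0]) :
    Kn ks ![x, 0, 0] ∧ Kn ks ![0, x, 0] ∧ Kn ks ![0, 0, x] := by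
  have h2 : star x * x = 2 * 2 := by
    rw [star_comm_self']
    have := h.2
    simp only [qip, Fin.sum_univ_three, Matrix.cons_val, zero_mul, add_zero] at this
    rw [this]; norm_num
  refine ⟨⟨_, h4.1, ?_⟩, ⟨_, h4.2.1, ?_⟩, ⟨_, h4.2.2, ?_⟩⟩ <;>
    simp [Eqv, vec, Fin.forall_fin_succ, hf_zero, hf_four, h2]

include hE h4 in
theorem cls_zero {x y : ℍ[ℝ]} (h : Mn ![x, y, 0]) :
    Kn ks ![x, y, 0] ∧ Kn ks ![x, 0, y] ∧ Kn ks ![0, x, y] := by
  by_cases hy : y = 0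
  · subst hy
    have := cls_axis h4 h
    exact ⟨this.1, this.1, this.2.1⟩
  by_cases hx : x = 0
  · subst hx
    have := cls_axis h4 (mn_swap h)
    exact ⟨this.2.1, this.2.2, this.2.2⟩
  obtain ⟨a, ha, rfl⟩ : x ∈ leftIdeal icoH := by simpa using (mn_swap h).1.2.2.1
  obtain ⟨b, hb, rfl⟩ : y ∈ leftIdeal icoH := by simpa using h.1.2.2.1
  obtain ⟨A, hA, rfl⟩ := ico_coord ha
  obtain ⟨C, hC, rfl⟩ := ico_coord hb
  have h2 : ∀ u : ℍ[ℝ], u * icoH * star (u * icoH) = u * star u + u * star u := fun u => by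
    rw [star_mul, mul_assoc, ← mul_assoc icoH, H_mul, two_mul, mul_add]
  have h3 : (1 / 4 : ℝ) • ψ (Q.sc (A.p + C.p + (A.p + C.p)) (A.q + C.q + (A.q + C.q))) = 4 := by
    have := h.2
    simp only [qip, Fin.sum_univ_three, Matrix.cons_val, zero_mul, add_zero, h2, nrm_hf, ← smul_add,
      ← ψ_add] at this
    rw [← this]
    congr 2
    ext <;> simp [Q.sc, Q.add] <;> ring
  rw [sc_iff (m' := 8) (by rw [show Q.sc 8 0 = (Q.sc 4 0).add (Q.sc 4 0) by decide, hf_add, hf_four]; norm_num)] at h3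
  have a1 := p_nonneg A
  have c1 := p_nonneg C
  have a2 := (hE A (by omega) hA).1.resolve_left fun e => hx (by rw [e, hf_zero, zero_mul])
  have c2 := (hE C (by omega) hC).1.resolve_left fun e => hy (by rw [e, hf_zero, zero_mul])
  have hu : hf A * star (hf A) = 1 := by rw [nrm_hf, sc_iff hf_two]; omega
  have hu' : star (hf A) * hf A = 1 := by rw [star_comm_self', hu]
  have h5 := h.mul (star_mem ha) (by simpa using hu')
  obtain ⟨⟨X, Y, Z⟩, e⟩ := exists_vec h5.1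
  have eX : hf X = star (hf A) * (hf A * icoH) := congrFun e 0
  have eY : hf Y = star (hf A) * (hf C * icoH) := congrFun e 1
  have eZ : hf Z = star (hf A) * 0 := congrFun e 2
  obtain rfl : X = QH := hf_inj (by rw [eX, ← mul_assoc, hu', one_mul, hf_H])
  obtain rfl : Z = Q.sc 0 0 := hf_inj (by rw [eZ, mul_zero, hf_zero])
  rw [← e] at h5
  have h6 := mn_iff.1 h5
  obtain ⟨k1, k2, k3⟩ := (hE Y (by have := h6.1; change (8 : ℤ) + Y.p + 0 = 16 at this; omega)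
    h6.2.2.2.1).2.2 h6
  have hw : star (star (hf A)) * star (hf A) = 1 := by simpa using hu
  exact ⟨⟨_, k1, eqv_vec hw eX eY eZ⟩, ⟨_, k2, eqv_vec hw eX eZ eY⟩, ⟨_, k3, eqv_vec hw eZ eX eY⟩⟩

include hE h1 h4 in
theorem cls {r : V} (h : Mn r) : Kn ks r := by
  obtain ⟨⟨X, Y, Z⟩, rfl⟩ := exists_vec h.1
  have hB := mn_iff.1 h
  obtain ⟨b1, b2, b3, b4, b5, -⟩ := hB
  unfold vec at h ⊢
  dsimp only at *
  by_cases z0 : Z = Q.sc 0 0
  · rw [z0, hf_zero] at h ⊢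
    exact (cls_zero hE h4 h).1
  by_cases y0 : Y = Q.sc 0 0
  · rw [y0, hf_zero] at h ⊢
    exact (cls_zero hE h4 (mn_rot (mn_swap h))).2.1
  by_cases x0 : X = Q.sc 0 0
  · rw [x0, hf_zero] at h ⊢
    exact (cls_zero hE h4 (mn_rot h)).2.2
  have kX := fun e => (hE X e b3).1.resolve_left x0
  have kY := fun e => (hE Y e b4).1.resolve_left y0
  have kZ := fun e => (hE Z e b5).1.resolve_left z0
  have pX := p_nonneg X
  have pY := p_nonneg Y
  have pZ := p_nonneg Z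
  have k : ∀ A : Q, A.p = 4 ∧ A.q = 0 → hf A * star (hf A) = 1 := fun A e => by
    rw [nrm_hf, sc_iff hf_two]; omega
  have : (X.p = 4 ∧ X.q = 0) ∨ (Y.p = 4 ∧ Y.q = 0) ∨ (Z.p = 4 ∧ Z.q = 0) := by omega
  rcases this with e | e | e
  · exact (cls_one hE h1 h (k _ e)).1
  · exact (cls_one hE h1 (mn_swap h) (k _ e)).2.1
  · exact (cls_one hE h1 (mn_rot (mn_rot h)) (k _ e)).2.2

end

/-- The reflected vector. -/
def rfl3 (R P : P3) (k : P3 → Bool) : Bool :=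
  (fun S : Q => (fun X Y Z : Q => decide (Q.sm 8 (Q.dv 8 X) = X ∧ Q.sm 8 (Q.dv 8 Y) = Y ∧ Q.sm 8 (Q.dv 8 Z) = Z) &&
    k ⟨P.x.sub (Q.dv 8 X), P.y.sub (Q.dv 8 Y), P.z.sub (Q.dv 8 Z)⟩) (S.mul R.x) (S.mul R.y) (S.mul R.z))
    (((P.x.mul R.x.cj).add (P.y.mul R.y.cj)).add (P.z.mul R.z.cj))

theorem rfl3_sound {R P : P3} {k : P3 → Bool} (h : rfl3 R P k = true) :
    ∃ P', k P' = true ∧ qrefl (vec R) (vec P) = vec P' := by
  simp only [rfl3, Bool.and_eq_true, decide_eq_true_eq] at h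
  refine ⟨_, h.2, ?_⟩
  have h1 : (1 / 2 : ℝ) • qip (vec P) (vec R) =
      (1 / 8 : ℝ) • ψ (((P.x.mul R.x.cj).add (P.y.mul R.y.cj)).add (P.z.mul R.z.cj)) := by
    simp only [qip, vec, Fin.sum_univ_three, Matrix.cons_val, ← hf_cj, hf_mul, ← smul_add, ← ψ_add, smul_smul]
    norm_num
  have h2 : ∀ S T : Q, Q.sm 8 (Q.dv 8 (S.mul T)) = S.mul T →
      (1 / 8 : ℝ) • ψ S * hf T = hf (Q.dv 8 (S.mul T)) := fun S T e => by
    rw [smul_mul_assoc, hf_mul', ← e, hf, ψ_sm, e, hf, smul_smul, smul_smul]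
    norm_num
  funext t
  rw [qrefl, h1]
  fin_cases t
  · exact (congrArg (hf P.x - ·) (h2 _ _ h.1.1)).trans (hf_sub _ _).symm
  · exact (congrArg (hf P.y - ·) (h2 _ _ h.1.2.1)).trans (hf_sub _ _).symm
  · exact (congrArg (hf P.z - ·) (h2 _ _ h.1.2.2)).trans (hf_sub _ _).symm

end Cfsg.Agent.J2C
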