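import Cfsg.Agent.CGT.Conj
import Cfsg.Prelude.Def_Spor_J2

set_option autoImplicit false

/-! Coordinates for icosians. -/

namespace Cfsg.Agent.J2C

open Cfsg.Spor Quaternion Cfsg.Agent.CGT

/-- Quaternions over `ℤ[τ]`. -/
@[ext] structure Q where
  (a b c d a' b' c' d' : ℤ)
deriving DecidableEq

namespace Q

def pr (m n m' n' : ℤ) : ℤ := m * m' + n * n'
def pt (m n m' n' : ℤ) : ℤ := m * n' + n * (m' + n')

def mul (x y : Q) : Q :=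
  ⟨pr x.a x.a' y.a y.a' - pr x.b x.b' y.b y.b' - pr x.c x.c' y.c y.c' - pr x.d x.d' y.d y.d',
   pr x.a x.a' y.b y.b' + pr x.b x.b' y.a y.a' + pr x.c x.c' y.d y.d' - pr x.d x.d' y.c y.c',
   pr x.a x.a' y.c y.c' - pr x.b x.b' y.d y.d' + pr x.c x.c' y.a y.a' + pr x.d x.d' y.b y.b',
   pr x.a x.a' y.d y.d' + pr x.b x.b' y.c y.c' - pr x.c x.c' y.b y.b' + pr x.d x.d' y.a y.a',
   pt x.a x.a' y.a y.a' - pt x.b x.b' y.b y.b' - pt x.c x.c' y.c y.c' - pt x.d x.d' y.d y.d',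
   pt x.a x.a' y.b y.b' + pt x.b x.b' y.a y.a' + pt x.c x.c' y.d y.d' - pt x.d x.d' y.c y.c',
   pt x.a x.a' y.c y.c' - pt x.b x.b' y.d y.d' + pt x.c x.c' y.a y.a' + pt x.d x.d' y.b y.b',
   pt x.a x.a' y.d y.d' + pt x.b x.b' y.c y.c' - pt x.c x.c' y.b y.b' + pt x.d x.d' y.a y.a'⟩
def add (x y : Q) : Q :=
  ⟨x.a + y.a, x.b + y.b, x.c + y.c, x.d + y.d, x.a' + y.a', x.b' + y.b', x.c' + y.c', x.d' + y.d'⟩
def sm (n : ℤ) (x : Q) : Q :=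
  ⟨n * x.a, n * x.b, n * x.c, n * x.d, n * x.a', n * x.b', n * x.c', n * x.d'⟩
def dv (n : ℤ) (x : Q) : Q :=
  ⟨x.a / n, x.b / n, x.c / n, x.d / n, x.a' / n, x.b' / n, x.c' / n, x.d' / n⟩
def sub (x y : Q) : Q := x.add (sm (-1) y)
def cj (x : Q) : Q := ⟨x.a, -x.b, -x.c, -x.d, x.a', -x.b', -x.c', -x.d'⟩
def sc (m n : ℤ) : Q := ⟨m, 0, 0, 0, n, 0, 0, 0⟩
def p (x : Q) : ℤ := x.a ^ 2 + (x.b ^ 2 + (x.c ^ 2 + (x.d ^ 2 + (x.a' ^ 2 + (x.b' ^ 2 + (x.c' ^ 2 + x.d' ^ 2))))))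
def q (x : Q) : ℤ := pt x.a x.a' x.a x.a' + pt x.b x.b' x.b x.b' + pt x.c x.c' x.c x.c' + pt x.d x.d' x.d x.d'

/-- Doubled coordinates of icosians. -/
def IC (X : Q) : Prop := (X.c + X.a' + X.b + X.b') % 2 = 0 ∧ (X.c' + X.a + X.a' + X.b) % 2 = 0 ∧
  (X.d + X.a + X.a' + X.b') % 2 = 0 ∧ (X.d' + X.a + X.b + X.b') % 2 = 0

instance (X : Q) : Decidable X.IC := by unfold IC; infer_instance

end Q

theorem tau_sq : tau * tau = tau + 1 := by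
  have := Real.mul_self_sqrt (show (0 : ℝ) ≤ 5 by norm_num)
  unfold tau
  linear_combination this / 4

theorem tau_ind {m n m' n' : ℤ} (h : (m : ℝ) + n * tau = m' + n' * tau) : m = m' ∧ n = n' := by
  have h5 : Irrational (Real.sqrt 5) := by simpa using Nat.Prime.irrational_sqrt (p := 5) (by norm_num)
  have hn : n = n' := by
    by_contra hc
    have h1 : ((n - n' : ℤ) : ℝ) ≠ 0 := by exact_mod_cast sub_ne_zero.2 hc
    refine h5 ⟨((2 * (m' - m) - (n - n') : ℤ) : ℚ) / ((n - n' : ℤ) : ℚ), ?_⟩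
    rw [Rat.cast_div, Rat.cast_intCast, Rat.cast_intCast, div_eq_iff h1]
    unfold tau at h
    push_cast
    linear_combination -2 * h
  subst hn
  exact ⟨by exact_mod_cast add_right_cancel h, rfl⟩

/-- The real quaternion with given coordinates. -/
noncomputable def ψ (X : Q) : ℍ[ℝ] := ⟨X.a + X.a' * tau, X.b + X.b' * tau, X.c + X.c' * tau, X.d + X.d' * tau⟩

@[simp] theorem ψ_re (X : Q) : (ψ X).re = X.a + X.a' * tau := rfl
@[simp] theorem ψ_imI (X : Q) : (ψ X).imI = X.b + X.b' * tau := rfl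
@[simp] theorem ψ_imJ (X : Q) : (ψ X).imJ = X.c + X.c' * tau := rfl
@[simp] theorem ψ_imK (X : Q) : (ψ X).imK = X.d + X.d' * tau := rfl

theorem ψ_inj {X Y : Q} (h : ψ X = ψ Y) : X = Y := by
  have h1 := tau_ind (congrArg QuaternionAlgebra.re h)
  have h2 := tau_ind (congrArg QuaternionAlgebra.imI h)
  have h3 := tau_ind (congrArg QuaternionAlgebra.imJ h)
  have h4 := tau_ind (congrArg QuaternionAlgebra.imK h)
  exact Q.ext h1.1 h2.1 h3.1 h4.1 h1.2 h2.2 h3.2 h4.2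

theorem ψ_mul (X Y : Q) : ψ (X.mul Y) = ψ X * ψ Y := by
  ext <;> simp only [ψ_re, ψ_imI, ψ_imJ, ψ_imK, Q.mul, Q.pr, Q.pt, re_mul, imI_mul, imJ_mul, imK_mul] <;> push_cast
  · linear_combination -(X.a' * Y.a' - X.b' * Y.b' - X.c' * Y.c' - X.d' * Y.d' : ℝ) * tau_sq
  · linear_combination -(X.a' * Y.b' + X.b' * Y.a' + X.c' * Y.d' - X.d' * Y.c' : ℝ) * tau_sq
  · linear_combination -(X.a' * Y.c' - X.b' * Y.d' + X.c' * Y.a' + X.d' * Y.b' : ℝ) * tau_sq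
  · linear_combination -(X.a' * Y.d' + X.b' * Y.c' - X.c' * Y.b' + X.d' * Y.a' : ℝ) * tau_sq

theorem ψ_add (X Y : Q) : ψ (X.add Y) = ψ X + ψ Y := by
  ext <;> simp [Q.add] <;> ring

theorem ψ_sm (n : ℤ) (X : Q) : ψ (Q.sm n X) = (n : ℝ) • ψ X := by
  ext <;> simp [Q.sm] <;> ring

theorem ψ_sub (X Y : Q) : ψ (X.sub Y) = ψ X - ψ Y := by
  rw [Q.sub, ψ_add, ψ_sm]; simp [sub_eq_add_neg]

theorem ψ_cj (X : Q) : ψ X.cj = star (ψ X) := by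
  ext <;> simp [Q.cj] <;> ring

theorem mul_cj (X : Q) : X.mul X.cj = Q.sc X.p X.q := by
  ext <;> simp only [Q.mul, Q.cj, Q.sc, Q.p, Q.q, Q.pr, Q.pt] <;> ring

/-- Half of `ψ`. -/
noncomputable def hf (X : Q) : ℍ[ℝ] := (1 / 2 : ℝ) • ψ X

theorem hf_inj {X Y : Q} (h : hf X = hf Y) : X = Y :=
  ψ_inj (smul_right_injective _ (by norm_num : (1 / 2 : ℝ) ≠ 0) h)

theorem hf_add (X Y : Q) : hf (X.add Y) = hf X + hf Y := by rw [hf, ψ_add, smul_add]; rfl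
theorem hf_sub (X Y : Q) : hf (X.sub Y) = hf X - hf Y := by rw [hf, ψ_sub, smul_sub]; rfl
theorem hf_cj (X : Q) : hf X.cj = star (hf X) := by rw [hf, ψ_cj, hf, Quaternion.star_smul]
theorem hf_mul (X Y : Q) : hf X * hf Y = (1 / 4 : ℝ) • ψ (X.mul Y) := by
  rw [hf, hf, ψ_mul, smul_mul_smul_comm]; norm_num
theorem hf_mul' (X Y : Q) : ψ X * hf Y = hf (X.mul Y) := by rw [hf, hf, ψ_mul, mul_smul_comm]
theorem hf_sm2 (X : Q) : hf (Q.sm 2 X) = ψ X := by rw [hf, ψ_sm, smul_smul]; norm_num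
theorem hf_zero : hf (Q.sc 0 0) = 0 := by ext <;> simp [hf, Q.sc]
theorem hf_two : hf (Q.sc 2 0) = 1 := by ext <;> simp [hf, Q.sc]
theorem hf_four : hf (Q.sc 4 0) = 2 := by
  rw [show Q.sc 4 0 = (Q.sc 2 0).add (Q.sc 2 0) by decide, hf_add, hf_two, one_add_one_eq_two]

def QI : Q := ⟨0, 1, 0, 0, 0, 0, 0, 0⟩
def QG : Q := ⟨1, 1, 0, 0, 0, -1, 0, 1⟩
def QH : Q := ⟨1, 1, 1, 1, -2, 0, 0, 0⟩

theorem ψ_I : ψ QI = qI := by ext <;> simp [QI, qI]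
theorem hf_G : hf QG = ⟨1 / 2, sig / 2, 0, tau / 2⟩ := by
  ext <;> simp [hf, QG, sig, tau] <;> ring
theorem hf_H : hf QH = icoH := by
  ext <;> simp [hf, QH, icoH, tau] <;> ring

theorem ico_coord {x : ℍ[ℝ]} (hx : x ∈ icosians) : ∃ X : Q, X.IC ∧ hf X = x := by
  have key : ∀ X : Q, X.IC → ∃ Y : Q, Y.IC ∧ hf Y = x * hf X := by
    induction hx using Subring.closure_induction with
    | mem x hx =>
      intro X hX
      rcases hx with rfl | rfl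
      · refine ⟨QI.mul X, ?_, by rw [← hf_mul', ψ_I]⟩
        simp only [Q.IC, Q.mul, Q.pr, Q.pt, QI] at hX ⊢
        omega
      · have h : QG.mul X = Q.sm 2 (Q.dv 2 (QG.mul X)) := by
          ext <;> simp only [Q.IC, Q.mul, Q.pr, Q.pt, QG, Q.sm, Q.dv] at hX ⊢ <;> omega
        refine ⟨Q.dv 2 (QG.mul X), ?_, ?_⟩
        · simp only [Q.IC, Q.mul, Q.pr, Q.pt, QG, Q.dv] at hX ⊢
          omega
        · rw [← hf_G, hf_mul, h, ψ_sm, smul_smul, ← h, hf]; norm_num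
    | zero => exact fun X _ => ⟨Q.sc 0 0, by decide, by rw [hf_zero, zero_mul]⟩
    | one => exact fun X hX => ⟨X, hX, by rw [one_mul]⟩
    | add x y _ _ hx hy =>
      intro X hX
      obtain ⟨Y, h1, h2⟩ := hx X hX
      obtain ⟨Z, h3, h4⟩ := hy X hX
      refine ⟨Y.add Z, ?_, by rw [hf_add, h2, h4, add_mul]⟩
      simp only [Q.IC, Q.add] at h1 h3 ⊢
      omega
    | neg x _ hx =>
      intro X hX
      obtain ⟨Y, h1, h2⟩ := hx X hX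
      refine ⟨(Q.sc 0 0).sub Y, ?_, by rw [hf_sub, h2, hf_zero, zero_sub, neg_mul]⟩
      simp only [Q.IC, Q.add, Q.sub, Q.sm, Q.sc] at h1 ⊢
      omega
    | mul x y _ _ hx hy =>
      intro X hX
      obtain ⟨Y, h1, h2⟩ := hy X hX
      obtain ⟨Z, h3, h4⟩ := hx Y h1
      exact ⟨Z, h3, by rw [h4, h2, mul_assoc]⟩
  simpa only [hf_two, mul_one] using key (Q.sc 2 0) (by decide)

theorem ψ_mem (X : Q) : ψ X ∈ icosians := by
  have hi : ψ QI ∈ icosians := ψ_I ▸ Subring.subset_closure (Or.inl rfl)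
  have hg : hf QG ∈ icosians := hf_G ▸ Subring.subset_closure (Or.inr rfl)
  have h1 : ψ (Q.sc 1 0) = 1 := by ext <;> simp [Q.sc]
  have ht : ψ (Q.sc 0 1) ∈ icosians := by
    have : ψ (Q.sc 0 1) = 1 - ψ QI + ψ QI * hf QG + hf QG * ψ QI := by
      ext <;> simp [hf, QI, QG, Q.sc] <;> ring
    rw [this]
    exact add_mem (add_mem (sub_mem (one_mem _) hi) (mul_mem hi hg)) (mul_mem hg hi)
  have hs : ∀ m n : ℤ, ψ (Q.sc m n) ∈ icosians := fun m n => by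
    have : ψ (Q.sc m n) = m + n * ψ (Q.sc 0 1) := by
      ext <;> simp [Q.sc]
    rw [this]
    exact add_mem (intCast_mem _ m) (mul_mem (intCast_mem _ n) ht)
  have hk : ψ ⟨0, 0, 0, 1, 0, 0, 0, 0⟩ ∈ icosians := by
    have : (⟨0, 0, 0, 1, 0, 0, 0, 0⟩ : Q) =
      (Q.sc (-1) 1).mul ((QG.sub (Q.sc 1 0)).sub ((Q.sc 1 (-1)).mul QI)) := by decide
    rw [this, ψ_mul, ψ_sub, ψ_sub, ψ_mul, ← hf_sm2 QG, show Q.sm 2 QG = QG.add QG by decide, hf_add]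
    exact mul_mem (hs _ _) (sub_mem (sub_mem (add_mem hg hg) (hs _ _)) (mul_mem (hs _ _) hi))
  have : X = (((Q.sc X.a X.a').add ((Q.sc X.b X.b').mul QI)).add
      ((Q.sc X.c X.c').mul (Q.mul ⟨0, 0, 0, 1, 0, 0, 0, 0⟩ QI))).add
      ((Q.sc X.d X.d').mul ⟨0, 0, 0, 1, 0, 0, 0, 0⟩) := by
    ext <;> simp [Q.sc, Q.add, Q.mul, QI, Q.pr, Q.pt]
  rw [this, ψ_add, ψ_add, ψ_add, ψ_mul, ψ_mul, ψ_mul, ψ_mul]
  exact add_mem (add_mem (add_mem (hs _ _) (mul_mem (hs _ _) hi)) (mul_mem (hs _ _) (mul_mem hk hi)))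
    (mul_mem (hs _ _) hk)

theorem hf_mem {X : Q} (hX : X.IC) : hf X ∈ icosians := by
  have hg : hf QG ∈ icosians := hf_G ▸ Subring.subset_closure (Or.inr rfl)
  obtain ⟨W, hW⟩ : ∃ W, X = (((Q.sc (X.a' + X.b) (X.a + X.a' + X.b')).mul QG).add
      (((Q.sc (X.a + X.b') (X.a' + X.b + X.b')).mul QI).mul QG)).add (Q.sm 2 W) := by
    refine ⟨Q.dv 2 (X.sub (((Q.sc (X.a' + X.b) (X.a + X.a' + X.b')).mul QG).add
      (((Q.sc (X.a + X.b') (X.a' + X.b + X.b')).mul QI).mul QG))), ?_⟩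
    ext <;> simp only [Q.IC, Q.mul, Q.pr, Q.pt, QG, QI, Q.sm, Q.dv, Q.sc, Q.add, Q.sub] at hX ⊢ <;> omega
  rw [hW, hf_add, hf_add, ← hf_mul', ← hf_mul', hf_sm2]
  exact add_mem (add_mem (mul_mem (ψ_mem _) hg) (mul_mem (ψ_mem _) hg)) (ψ_mem _)

theorem star_mem {x : ℍ[ℝ]} (hx : x ∈ icosians) : star x ∈ icosians := by
  obtain ⟨X, h, rfl⟩ := ico_coord hx
  rw [← hf_cj]
  refine hf_mem ?_
  simp only [Q.IC, Q.cj] at h ⊢
  omega

/-- The test for a left ideal. -/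
def ID (H D : Q) : Prop := (Q.dv 4 (D.mul H.cj)).IC ∧ (Q.dv 4 (D.mul H.cj)).mul H = Q.sm 2 D

instance (H D : Q) : Decidable (ID H D) := by unfold ID; infer_instance

theorem hf_eq_mul {A H D : Q} : hf D = hf A * hf H ↔ A.mul H = Q.sm 2 D := by
  rw [hf_mul, hf]
  constructor
  · intro h
    refine ψ_inj ?_
    rw [ψ_sm, ← one_smul ℝ (ψ (A.mul H)), show (1 : ℝ) = 4 * (1 / 4) by norm_num, mul_smul, ← h, smul_smul]
    norm_num
  · intro h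
    rw [h, ψ_sm, smul_smul]; norm_num

theorem mem_ideal {H D : Q} (hH : H.mul H.cj = Q.sc 8 0) : hf D ∈ leftIdeal (hf H) ↔ ID H D := by
  refine ⟨fun ⟨a, ha, e⟩ => ?_, fun h => ⟨_, hf_mem h.1, hf_eq_mul.2 h.2⟩⟩
  obtain ⟨A, h1, rfl⟩ := ico_coord ha
  have h2 : D.mul H.cj = Q.sm 4 A := ψ_inj (by
    have h3 : ψ (Q.sc 8 0) = (8 : ℝ) • 1 := by ext <;> simp [Q.sc]
    rw [ψ_mul, ← hf_sm2 D, ← hf_eq_mul.1 e, hf, ψ_mul, smul_mul_assoc, mul_assoc, ← ψ_mul H, hH, h3,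
      mul_smul_comm, smul_smul, mul_one, ψ_sm]
    norm_num)
  have h3 : Q.dv 4 (D.mul H.cj) = A := by
    rw [h2]
    ext <;> simp [Q.dv, Q.sm]
  exact ⟨h3 ▸ h1, by rw [h3]; exact hf_eq_mul.1 e⟩

theorem mem_H {D : Q} : hf D ∈ leftIdeal icoH ↔ ID QH D := hf_H ▸ mem_ideal (by decide)
theorem mem_H' {D : Q} : hf D ∈ leftIdeal (star icoH) ↔ ID QH.cj D := by
  rw [← hf_H, ← hf_cj]; exact mem_ideal (by decide)

theorem nrm_hf (X : Q) : hf X * star (hf X) = (1 / 4 : ℝ) • ψ (Q.sc X.p X.q) := by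
  rw [← hf_cj, hf_mul, mul_cj]

theorem H_mul : icoH * star icoH = 2 := by
  rw [← hf_H, nrm_hf, ← hf_four, hf, show Q.sc QH.p QH.q = Q.sm 2 (Q.sc 4 0) by decide, ψ_sm, smul_smul]
  norm_num

end Cfsg.Agent.J2C
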