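import Cfsg.Agent.J2C.Ico

set_option autoImplicit false

/-! The icosian Leech lattice and its reflections. -/

namespace Cfsg.Agent.J2C

open Cfsg.Spor Quaternion Cfsg.Agent.CGT

abbrev V := Fin 3 → ℍ[ℝ]

theorem id_mul {q a x : ℍ[ℝ]} (ha : a ∈ icosians) (hx : x ∈ leftIdeal q) : a * x ∈ leftIdeal q := by
  obtain ⟨b, hb, rfl⟩ := hx
  exact ⟨a * b, mul_mem ha hb, (mul_assoc _ _ _).symm⟩

theorem id_sub {q x y : ℍ[ℝ]} (hx : x ∈ leftIdeal q) (hy : y ∈ leftIdeal q) : x - y ∈ leftIdeal q := by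
  obtain ⟨a, ha, rfl⟩ := hx
  obtain ⟨b, hb, rfl⟩ := hy
  exact ⟨a - b, sub_mem ha hb, (sub_mul _ _ _).symm⟩

theorem id_neg {q x : ℍ[ℝ]} (hx : x ∈ leftIdeal q) : -x ∈ leftIdeal q := by
  simpa using id_mul (neg_mem (one_mem icosians)) hx

theorem lat_mul {a : ℍ[ℝ]} {r : V} (ha : a ∈ icosians) (hr : r ∈ icoLeech) :
    (fun t => a * r t) ∈ icoLeech :=
  ⟨fun t => mul_mem ha (hr.1 t), by simpa only [mul_sub] using id_mul ha hr.2.1,
    by simpa only [mul_sub] using id_mul ha hr.2.2.1, by simpa only [mul_add] using id_mul ha hr.2.2.2⟩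

theorem lat_sub {x r : V} (hx : x ∈ icoLeech) (hr : r ∈ icoLeech) :
    (fun t => x t - r t) ∈ icoLeech :=
  ⟨fun t => sub_mem (hx.1 t) (hr.1 t), by convert id_sub hx.2.1 hr.2.1 using 1; beta_reduce; abel,
    by convert id_sub hx.2.2.1 hr.2.2.1 using 1; beta_reduce; abel, by convert id_sub hx.2.2.2 hr.2.2.2 using 1; beta_reduce; abel⟩

theorem id_even {q x y : ℍ[ℝ]} (hq : q * star q = 2) (hx : x ∈ leftIdeal q) (hy : y ∈ leftIdeal q) :
    ∃ e ∈ icosians, x * star y = e + e := by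
  obtain ⟨a, ha, rfl⟩ := hx
  obtain ⟨b, hb, rfl⟩ := hy
  refine ⟨a * star b, mul_mem ha (star_mem hb), ?_⟩
  rw [star_mul, mul_assoc, ← mul_assoc q, hq, two_mul, mul_add]

theorem qip_even {x r : V} (hx : x ∈ icoLeech) (hr : r ∈ icoLeech) :
    (1 / 2 : ℝ) • qip x r ∈ icosians := by
  obtain ⟨e1, h1, k1⟩ := id_even (q := star icoH) (by rw [star_star, star_comm_self', H_mul]) hx.2.2.2 hr.2.2.2
  obtain ⟨e2, h2, k2⟩ := id_even H_mul hx.2.1 hr.2.2.1
  obtain ⟨e3, h3, k3⟩ := id_even H_mul hx.2.2.1 hr.2.1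
  have : qip x r = (2 : ℝ) • (e1 - e2 + e3 - (x 0 * star (r 2) + x 1 * star (r 0) + x 2 * star (r 1))) := by
    have h4 : qip x r = (e1 + e1) - (e2 + e2) + (e3 + e3) -
        2 * (x 0 * star (r 2) + x 1 * star (r 0) + x 2 * star (r 1)) := by
      rw [← k1, ← k2, ← k3, qip, Fin.sum_univ_three]
      simp only [star_add, star_sub]
      noncomm_ring
    rw [h4, two_smul, two_mul]
    abel
  rw [this, smul_smul, show (1 / 2 * 2 : ℝ) = 1 by norm_num, one_smul]
  exact sub_mem (add_mem (sub_mem h1 h2) h3) (add_mem (add_mem (mul_mem (hx.1 0) (star_mem (hr.1 2)))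
    (mul_mem (hx.1 1) (star_mem (hr.1 0)))) (mul_mem (hx.1 2) (star_mem (hr.1 1))))

theorem qip_sub (x y r : V) (a : ℍ[ℝ]) : qip (fun t => x t - a * y t) r = qip x r - a * qip y r := by
  simp only [qip, Fin.sum_univ_three]
  noncomm_ring

theorem qip_star (x y : V) : qip x y = star (qip y x) := by
  simp only [qip, Fin.sum_univ_three, star_add, star_mul, star_star]

theorem half_four (a : ℍ[ℝ]) : ((1 / 2 : ℝ) • a) * 4 = a + a := by
  rw [show (4 : ℍ[ℝ]) = (4 : ℝ) • 1 by rw [← Nat.cast_ofNat (R := ℝ), Nat.cast_smul_eq_nsmul]; simp,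
    mul_smul_comm, mul_one, smul_smul, ← two_smul ℝ a]
  norm_num

theorem qip_refl {r : V} (h : qip r r = 4) (x : V) : qip (qrefl r x) r = -qip x r := by
  unfold qrefl
  rw [qip_sub, h, half_four]
  abel

theorem refl_refl {r : V} (h : qip r r = 4) (x : V) : qrefl r (qrefl r x) = x := by
  funext t
  rw [qrefl, qip_refl h, qrefl, smul_neg, neg_mul]
  abel

theorem qip_refl_refl {r : V} (h : qip r r = 4) (x y : V) : qip (qrefl r x) (qrefl r y) = qip x y := by
  have h1 : qip (qrefl r x) (qrefl r y) = qip x (qrefl r y) - (1 / 2 : ℝ) • qip x r * qip r (qrefl r y) :=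
    qip_sub _ _ _ _
  have h2 : qip (qrefl r y) x = qip y x - (1 / 2 : ℝ) • qip y r * qip r x := qip_sub _ _ _ _
  rw [h1, qip_star r, qip_refl h, qip_star x, h2, star_sub, star_mul, star_neg, ← qip_star, ← qip_star,
    Quaternion.star_smul, mul_smul_comm, smul_mul_assoc, mul_neg, smul_neg]
  abel

theorem refl_conj {r : V} (h : qip r r = 4) (p x : V) :
    qrefl r (qrefl p (qrefl r x)) = qrefl (qrefl r p) x := by
  have h1 : ∀ y, qrefl r (qrefl p y) = qrefl (qrefl r p) (qrefl r y) := fun y => by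
    funext t
    have h2 : qip (qrefl p y) r = qip y r - (1 / 2 : ℝ) • qip y p * qip p r := qip_sub _ _ _ _
    rw [qrefl, h2, qrefl, qrefl, qip_refl_refl h, qrefl, qrefl]
    simp only [smul_sub, mul_sub, sub_mul, mul_smul_comm, smul_mul_assoc, mul_assoc]
    abel
  rw [h1, refl_refl h]

/-- Minimal vectors. -/
def Mn (r : V) : Prop := r ∈ icoLeech ∧ qip r r = 4

theorem refl_mem {r x : V} (hr : r ∈ icoLeech) (hx : x ∈ icoLeech) : qrefl r x ∈ icoLeech :=
  lat_sub hx (lat_mul (qip_even hx hr) hr)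

open Classical in
/-- The reflection in a minimal vector. -/
noncomputable def rf (r : V) : twoJ2 :=
  if h : Mn r then
    ⟨Function.Involutive.toPerm (fun x => ⟨qrefl r x, refl_mem h.1 x.2⟩)
      fun x => Subtype.ext (refl_refl h.2 x), Subgroup.subset_closure ⟨⟨r, h.1⟩, h.2, fun _ => rfl⟩⟩
  else 1

theorem rf_apply {r : V} (h : Mn r) (x : icoLeech) : ((rf r : Equiv.Perm icoLeech) x : V) = qrefl r x := by
  rw [rf, dif_pos h]; rfl

theorem tj_ext {f g : twoJ2} (h : ∀ x : icoLeech, ((f : Equiv.Perm icoLeech) x : V) = (g : Equiv.Perm icoLeech) x) :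
    f = g := Subtype.ext (Equiv.ext fun x => Subtype.ext (h x))

theorem rf_inv {r : V} (h : Mn r) : (rf r)⁻¹ = rf r := inv_eq_of_mul_eq_one_right (tj_ext fun x => by
  rw [Subgroup.coe_mul, Equiv.Perm.mul_apply, rf_apply h, rf_apply h, refl_refl h.2]; rfl)

theorem Mn.refl {r p : V} (hr : Mn r) (hp : Mn p) : Mn (qrefl r p) :=
  ⟨refl_mem hr.1 hp.1, by rw [qip_refl_refl hr.2, hp.2]⟩

theorem rf_conj {r p : V} (hr : Mn r) (hp : Mn p) : rf r * rf p * (rf r)⁻¹ = rf (qrefl r p) :=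
  tj_ext fun x => by
    rw [rf_inv hr, Subgroup.coe_mul, Subgroup.coe_mul, Equiv.Perm.mul_apply, Equiv.Perm.mul_apply,
      rf_apply hr, rf_apply hp, rf_apply hr, rf_apply (hr.refl hp), refl_conj hr.2]

/-- Vectors with the same reflection. -/
def Eqv (r p : V) : Prop := ∀ s t, star (r s) * r t = star (p s) * p t

theorem Eqv.qrefl {r p : V} (h : Eqv r p) (x : V) : qrefl r x = qrefl p x := by
  funext t
  simp only [Spor.qrefl, qip, Fin.sum_univ_three, smul_mul_assoc, add_mul, mul_assoc, h _ t]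

theorem Eqv.rf {r p : V} (h : Eqv r p) (hr : Mn r) (hp : Mn p) : rf r = rf p :=
  tj_ext fun x => by rw [rf_apply hr, rf_apply hp, h.qrefl]

theorem two_id : (2 : ℍ[ℝ]) ∈ leftIdeal icoH ∧ (2 : ℍ[ℝ]) ∈ leftIdeal (star icoH) := by
  have h : hf (Q.sc 4 0) ∈ leftIdeal icoH ∧ hf (Q.sc 4 0) ∈ leftIdeal (star icoH) :=
    ⟨mem_H.2 (by decide), mem_H'.2 (by decide)⟩
  rwa [hf_four] at h

theorem eqv_of_rf {r p : V} (hr : Mn r) (hp : Mn p) (h : rf r = rf p) : Eqv r p := fun s t => by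
  have h0 : (0 : ℍ[ℝ]) ∈ leftIdeal icoH := ⟨0, zero_mem _, by simp⟩
  have h1 : (Pi.single s 2 : V) ∈ icoLeech := by
    refine ⟨fun t => ?_, ?_⟩
    · rw [Pi.single_apply]
      split_ifs
      exacts [ofNat_mem _ 2, zero_mem _]
    · fin_cases s <;> simp [two_id, h0, id_neg]
  have h2 := congrFun ((rf_apply hr ⟨_, h1⟩).symm.trans (h ▸ rf_apply hp ⟨_, h1⟩)) t
  have h3 : ∀ r : V, (1 / 2 : ℝ) • qip (Pi.single s 2) r = star (r s) := fun r => by
    rw [qip, Finset.sum_eq_single s (fun b _ hb => by simp [hb]) (by simp), Pi.single_eq_same, two_mul,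
      ← two_smul ℝ, smul_smul]
    norm_num
  simpa only [qrefl, h3, sub_right_inj] using h2

theorem eqv_mul {u : ℍ[ℝ]} (hu : star u * u = 1) (r : V) : Eqv r fun t => u * r t := fun s t => by
  rw [star_mul, mul_assoc, ← mul_assoc (star u), hu, one_mul]

end Cfsg.Agent.J2C
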