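import Cfsg.Agent.J2C.Cert
import Cfsg.Agent.CGT.Out

set_option autoImplicit false
set_option Elab.async false
set_option maxRecDepth 100000
set_option linter.all false

namespace Cfsg.Agent.J2C
open Cfsg.Agent.CGT

noncomputable def g_Ws : List (List ℕ) := [[8, 6, 0, 4, 6, 2, 6, 0], [10, 2, 6, 10, 6, 4, 6, 8, 10, 2, 6, 0, 10, 2], [4, 2, 10, 0, 2, 6, 4, 2, 6, 0, 10, 8, 4, 0], [8, 4, 10, 2, 8, 10, 2, 6, 0, 10, 8, 4, 2, 10, 0, 6, 2, 10, 4, 8, 2, 10, 2, 6, 0, 10, 8, 4, 10, 2, 6, 0, 10, 8, 4, 0], [0, 10, 4, 8, 2, 0, 8, 10, 0, 2, 10, 8, 10, 6, 4, 2, 6, 4, 8, 2, 6, 10, 0, 10, 6, 4, 8, 2, 6], [6, 2, 8, 4, 2, 10, 0, 6, 2, 10, 2, 8, 4, 2, 10, 0, 6, 2, 10, 4, 8, 2, 10, 2, 6, 0, 10, 8, 4, 10, 2, 6, 0, 10, 2, 6, 4, 8, 2, 6], [4, 0, 6, 10, 2, 10, 2, 10,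 6, 10, 8, 10, 2, 6, 0, 10, 2, 6, 10, 8, 10, 6, 4, 2, 4, 8, 2, 6, 0], [8, 0, 4, 6, 2, 8, 6, 2, 6, 10, 0, 10, 2, 8, 4, 2, 10, 0, 6, 2, 10, 4, 8, 2, 10, 2, 6, 0, 10, 8, 4, 10, 2, 6, 0, 10, 2, 6, 4, 8, 2, 6, 0], [6, 2, 4, 6, 10, 8, 10, 2, 8, 4, 0], [4, 8, 2, 4, 8, 10, 0, 6, 2, 10, 4, 8, 10, 0, 6, 2, 10, 2, 8, 4, 10, 2, 6, 0, 10, 2, 4, 8, 2], [10, 2, 10, 6, 4, 2, 6, 10, 2, 10, 2, 6, 0, 10, 4, 6, 10, 8, 10, 0], [8, 10, 2, 10, 8, 2, 4, 6, 10, 8, 10, 2, 10, 0, 6, 2, 10, 4, 8, 10, 0, 6, 2, 10, 2, 8, 4, 10, 2, 6, 0, 10, 2, 4, 8, 2, 0], [6, 2, 4, 6, 10, 8, 10, 4, 8, 2, 6, 4, 8, 2, 6], [4, 8, 2, 6, 4, 8, 2, 6, 2, 8, 4, 2, 10, 0, 6, 2, 10, 4, 8, 2, 10, 2, 6, 0, 10, 8, 4, 10, 2, 6, 0, 10, 8, 4], [4, 8, 10, 0, 6, 2, 10, 4, 8, 10, 0, 6, 2, 10, 2, 8, 4, 10,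 2, 6, 0, 10, 2, 4, 8, 2, 0], [0], [4, 8, 2, 6, 4, 8, 2, 6, 0], [0], [0], [2], [4], [6], [8], [10]]
theorem g_s0 : slpB 9 m_ts (chainBase [] c_ls) g_Ws [[2, 0, 2, 5, 0, 4, 0, 5, 1, 2, 0, 0], [0, 0, 0, 0, 4, 4, 2, 0, 4], [3, 5, 3, 3, 4, 5], [2, 1, 0, 5, 1, 0], [3, 1, 5, 2, 1, 1], [9, 7, 14, 8, 15, 6, 9], [15, 6, 9, 7, 15, 8, 7], [9, 11, 15, 11, 7], [7, 15, 9, 9, 15, 10, 15, 10, 10], [9, 15, 9, 13, 8, 6, 11, 15, 10], [19, 21, 24, 19, 18, 23, 24], [21, 25], [28, 29, 27, 26, 26, 28, 26, 28], [26, 28, 28, 28, 27, 26, 28], [30], [34], [1, 4, 1, 6, 8, 24, 16, 26], [1, 3, 0, 4, 1, 8, 14, 8, 18, 16, 29, 26], [8, 14, 6, 16, 27, 34], [0, 4, 1, 4, 2, 0, 14, 24, 16, 26, 32], [4, 3, 0, 8, 14, 8, 18, 28, 26, 32, 34]] 3 24 = true := by decide +kernel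
theorem g_top {G : Type*} [Group G] {φ : G →* Equiv.Perm ℕ} {γ : ℕ → G}
    (C : Cert φ γ 9 m_ns m_ts [0, 2, 4, 6, 8, 10] c_ls) : gw γ (g_Ws.take 3) = ⊤ := by
  have h0 : SlpTo γ (gw γ (g_Ws.take 3)) g_Ws 3 := fun i hi =>
    ev_mem_gw γ (by interval_cases i <;> decide +kernel)
  rw [eq_top_iff, ← C.gen]
  exact SlpTo.gp_le (SlpTo.step C.M C.base (by decide +kernel) h0 g_s0) (by decide +kernel)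

end Cfsg.Agent.J2C
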