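import Cfsg.Agent.J2C.OutU
import Cfsg.Agent.CGT.Out3

set_option autoImplicit false
set_option Elab.async false
set_option maxRecDepth 100000
set_option linter.all false

namespace Cfsg.Agent.J2C
open Cfsg.Agent.CGT

noncomputable def od : OutD := ⟨9, m_ts, (chainBase [] c_ls), [8, 6, 0, 4, 6, 2, 6, 0], [10, 2, 6, 10, 6, 4, 6, 8, 10, 2, 6, 0, 10, 2], [4, 2, 10, 0, 2, 6, 4, 2, 6, 0, 10, 8, 4, 0], [10, 2, 6, 10, 6, 4, 6, 8, 10, 2, 6, 0, 10, 2], 7, 3, 1, 5, 5, [1], [[6, 0, 2, 4, 6, 0, 8, 2, 6, 10, 0, 6, 2, 10, 4, 8, 2, 6, 0]], [[0, 4, 0, 0, 4, 0, 0, 4, 0, 0, 4, 0, 0, 4, 0, 0, 4, 0, 0, 4, 0], [0, 3, 4, 0, 3, 4, 0, 3, 4, 0, 3, 4, 0, 3, 4, 0, 3, 4, 0, 3, 4]], [[[8, 6, 0, 4, 6, 2, 6, 0], [10, 2, 6, 10, 6, 4, 6, 8, 10, 2, 6, 0, 10, 2], [4, 2, 10, 0, 2, 6, 4, 2, 6, 0, 10, 8, 4, 0]], [[8, 0,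 6, 4, 6, 2, 6, 0], [10, 2, 6, 10, 6, 4, 6, 8, 10, 2, 6, 0, 10, 2], [4, 2, 6, 0, 8, 2, 10, 0, 6, 2, 10, 6, 4, 8, 2]]]⟩
theorem od_b : od.basic 604800 0 = true := by decide +kernel
theorem od_c : conjB 9 m_ts (chainBase [] c_ls) [6, 2, 10, 0, 6, 2, 10, 4, 6] od.u cu_S.u od.Cl cu_S.Cl = true := by decide +kernel
theorem od_k1_0 : od.cands 1 ((([] :: od.Cl).drop 0).take 2) [[0, 1, 1, 2, 1, 1], [1, 1, 1, 1, 1, 3]] = true := by decide +kernel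

end Cfsg.Agent.J2C
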