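import Cfsg.Agent.J2C.OutX
import Cfsg.Agent.J2C.OutK
import Cfsg.Agent.J2C.OutG

set_option autoImplicit false
set_option Elab.async false
set_option maxRecDepth 100000
set_option linter.all false

namespace Cfsg.Agent.J2C
open Cfsg.Agent.CGT

noncomputable def bW : List (List ℕ) := [[10, 0, 2, 4, 10, 6, 8, 6, 10, 0, 10], [8, 10, 0, 10, 4, 6, 2, 10, 6, 4, 8, 2, 6], [10, 2, 10, 6, 10, 4, 10, 6, 2, 10, 2], [6], [8], [10, 8, 10]]
noncomputable def bV : List (List ℕ) := [[2, 8, 10, 2, 6, 2, 10, 8, 2], [6, 8, 10, 4, 6, 10, 8, 6, 10, 0, 10, 4, 8, 2, 6, 4, 8, 2, 6, 0], [0, 2, 0, 6, 8, 4, 6, 8, 10, 8, 2, 6], [6], [8], [10, 8, 10]]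
theorem od_s : od.second bW [] [8, 0, 6, 4, 6, 2, 6, 0] [4, 2, 6, 0, 8, 2, 10, 0, 6, 2, 10, 6, 4, 8, 2] = true := by decide +kernel
theorem od_o : od.outer [8, 0, 6, 4, 6, 2, 6, 0] [4, 2, 6, 0, 8, 2, 10, 0, 6, 2, 10, 6, 4, 8, 2] ([] :: od.Cl) [[0, 1, 1, 1, 1, 1], [1, 1, 1, 1, 1, 1]] = true := by decide +kernel
theorem out_card {G : Type*} [Group G] {φ : G →* Equiv.Perm ℕ} {γ : ℕ → G} (C : Cert φ γ 9 m_ns m_ts [0, 2, 4, 6, 8, 10] c_ls)
    (hN : Nat.card G = 604800) (β : MulAut G) (hβ : ∀ j, β (γ j) = wg γ bW j) : Nat.card (Cfsg.Out G) = 2 :=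
  haveI := C.fin
  OutD.out_two (D := od) C.M C.base hN (by norm_num [od]) od_b (cx_cent C) ((cu_cent C).conj C.M C.base od_c)
    (by
    intro k hk
    simp only [od, List.mem_cons, List.not_mem_nil, or_false] at hk
    rcases hk with rfl
    exacts [forall_of_take (forall_take_step (c := 2) (forall_take_zero _) (OutD.cands_sound C.M C.base od_b od_k1_0) rfl) (by decide +kernel)]) (g_top C) rfl β hβ od_s od_o
theorem out_eq  : Nat.card (Cfsg.Out (Cfsg.Spor.J2)) = 2 := by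
  obtain ⟨φ, C⟩ := cert 
  haveI := C.fin
  have h : Holds (ext (wg _ bW)) RR := relsD_sound C.M C.base (by decide +kernel) (fun _ _ => trivial) (by decide +kernel)
  obtain ⟨f, hf⟩ := hom_of_bound C.gen (card_eq ) (bd0 ((rels' ).pair h)) (m := 6) (gam1 )
    (fun j hj => by rw [wg, nth_eq, List.getD_eq_default bW _ hj]; rfl) (by decide +kernel)
  obtain ⟨β, hβ⟩ := exists_aut' C.M C.base (by decide +kernel) C.gen (V := bV) f hf (by decide +kernel)
  exact out_card C (card_eq ) β hβ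

end Cfsg.Agent.J2C
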