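import Cfsg.Agent.J2C.Cert
import Cfsg.Agent.CGT.Out

set_option autoImplicit false
set_option Elab.async false
set_option maxRecDepth 100000
set_option linter.all false

namespace Cfsg.Agent.J2C
open Cfsg.Agent.CGT

noncomputable def cu_l0 : Level := ⟨0, [[0], [2], [4], [6], [8], [10]], [1, 2, 5, 3, 4, 1, 0, 2, 3, 4, 5, 1], 0x7ffffffffffffffffffffffffffffffffffffffffffffffffffffffffffffffffffffffffffffff, 315⟩
noncomputable def cu_l1 : Level := ⟨9, [[0], [6], [4, 8, 2], [10, 0, 10], [2, 4, 6, 10, 8, 10], [10, 2, 6, 0, 10, 2]], [], 0x600000001c038000000040000000000000000000000000000000000000000000000000000000200, 10⟩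
noncomputable def cu_l2 : Level := ⟨273, [[0], [4, 8, 2], [6, 10, 0, 10], [6, 4, 8, 2, 6], [6, 2, 4, 6, 10, 8, 10], [2, 10, 0, 6, 2, 10, 4, 8, 2, 10, 2, 6, 0, 10, 8, 4, 10, 2, 6, 0, 10, 2]], [], 0x3fc0000000000000000000000000000000000000000000000000000000000000000000, 8⟩
noncomputable def cu_l3 : Level := ⟨41, [[2, 8, 4], [4, 2, 6, 10, 8, 10, 6, 4, 8, 2]], [], 0x280080200000000000000000008020028000000, 8⟩
noncomputable def cu_l4 : Level := ⟨113, [[6, 2, 4, 6, 0, 2, 0, 10, 8, 2, 10, 0, 6, 2, 10, 4, 8, 2, 0]], [], 0x400000000000020000000000000800000000000000, 3⟩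
noncomputable def cu_ls : List Level := [cu_l0, cu_l1, cu_l2, cu_l3, cu_l4]
noncomputable def cu_S : Srch := ⟨9, m_ts, (chainBase [] c_ls), [10, 4, 2, 8, 6, 10, 2, 10, 0, 6, 2, 10, 6, 10, 8, 10, 6, 4, 2, 4, 8, 2, 6, 0], [10, 4, 2, 8, 6, 10, 2, 10, 0, 6, 2, 10, 6, 10, 8, 10, 6, 4, 2, 4, 8, 2, 6, 0], [[8, 0, 4, 2, 6, 4, 2, 6, 0, 10, 2, 6]]⟩
noncomputable def cu_lk : List ℕ := [1, 10, 274, 42]
noncomputable def cu_tl : List Level := [cu_l1, cu_l2, cu_l3, cu_l4]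
noncomputable def cu_R0 : ℕ := 0x44000218070e080404220400a201002404c00088000000cc00002043204f00001304000c0309091
theorem cu_l0_ok : (ptsOK 9 [] && (wordsIn [0, 2, 4, 6, 8, 10] cu_l0.S && cu_l0.ok 9 m_ns m_ts [])) = true := by decide +kernel
theorem cu_l1_ok : cu_l1.okT 9 m_ts [0, 2, 4, 6, 8, 10] [0] (.cons [2] (.cons [10] .nil (.cons [11] .nil .nil)) (.cons [10] (.cons [4] .nil (.cons [5] .nil .nil)) (.cons [11] (.cons [4] .nil (.cons [5] .nil .nil)) .nil))) = true := by decide +kernel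
theorem cu_l2_ok : cu_l2.okT 9 m_ts [0, 2, 4, 6, 8, 10] [9, 0] (.cons [0] .nil (.cons [4] (.cons [6] .nil (.cons [7] .nil .nil)) (.cons [5] .nil (.cons [6] .nil (.cons [7] .nil .nil))))) = true := by decide +kernel
theorem cu_l3_ok : cu_l3.okT 9 m_ts [0, 2, 4, 6, 8, 10] [273, 9, 0] (.cons [0] (.cons [0] .nil (.cons [2] .nil (.cons [3] .nil .nil))) (.cons [1] .nil (.cons [2] .nil (.cons [3] .nil .nil)))) = true := by decide +kernel
theorem cu_l4_ok : cu_l4.okT 9 m_ts [0, 2, 4, 6, 8, 10] [41, 273, 9, 0] (.cons [0] .nil (.cons [1] .nil .nil)) = true := by decide +kernel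
theorem cu_aux : cu_S.auxB [0, 2, 4, 6, 8, 10] cu_ls [] (0 :: cu_lk) = true := by decide +kernel
theorem cu_cov : Nat.beq (Nat.land cu_l0.O (Srch.cover m_ns (invW cu_S.u') cu_R0 5)) cu_l0.O = true := by decide +kernel
theorem cu_r0 : cu_S.run (.cons [] (.cons [] (.cons [] (.cons [] (.cons [] (.leaf 2000) .nil) .nil) .nil) .nil) (.cons [2] .nil (.cons [4] .nil (.cons [8] .nil (.cons [10] .nil (.cons [0, 2] .nil (.cons [4, 2] .nil (.cons [6, 2] .nil (.cons [10, 2] .nil (.cons [0, 8] .nil (.cons [2, 8] .nil (.cons [6, 8] .nil (.cons [10, 8] .nil (.cons [10, 4] .nil (.cons [2, 10] .nil (.cons [4, 10] .nil (.cons [6, 10] .nil (.cons [8, 10] .nil (.cons [8, 0, 2] .nil (.cons [10, 0, 2] .nil (.cons [0, 2, 8] .nil (.cons [6, 2, 8] .nil (.cons [0, 10, 4] .nil (.cons [6, 10, 4] .nil (.cons [8, 10, 4] .nil (.cons [0, 8, 10] .nil (.cons [4, 8, 10] .nil (.cons [6, 8, 10] .nil (.cons [4, 0, 8] .nil (.cons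 [0, 10, 2] .nil (.cons [4, 10, 2] .nil (.cons [8, 10, 2] .nil (.cons [10, 0, 4] .nil (.cons [0, 4, 10] .nil (.cons [8, 2, 10] .nil (.cons [8, 6, 2] .nil (.cons [10, 6, 2] .nil (.cons [0, 10, 8] .nil (.cons [6, 10, 8] .nil (.cons [2, 6, 10] .nil (.cons [4, 6, 10] .nil (.cons [2, 6, 4] .nil (.cons [8, 6, 4] .nil (.cons [2, 6, 8] .nil (.cons [2, 4, 6, 2] .nil (.cons [4, 2, 6, 8] .nil (.cons [0, 10, 6, 4] (.cons [2] (.cons [6] (.cons [1] (.cons [1] (.leaf 0) .nil) .nil) .nil) .nil) (.cons [0, 6, 8, 10] .nil (.cons [8, 10, 6, 2] .nil (.cons [0, 6, 4, 10] .nil (.cons [10, 6, 4, 10] .nil (.cons [2, 0, 10, 4] (.cons [2] .nil .nil) (.cons [4, 0, 8, 10] .nil (.cons [8, 4, 8, 10] .nil (.cons [6, 8, 6, 10, 2] (.cons [10] .nil .nil) .nil))))))))))))))))))))))))))))))))))))))))))))))))))))))) (⟨cu_l0.b, cu_l0.S, [], cu_R0, 0⟩ :: cu_tl) (0 :: cu_lk) Pd.nil 0 = true := by decide +kernel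
theorem cu_sound {G : Type*} [Group G] {φ : G →* Equiv.Perm ℕ} {γ : ℕ → G}
    (M : Model φ γ 9 m_ns m_ts) : ChainSound φ (gp γ [0, 2, 4, 6, 8, 10]) 9 [] cu_ls :=
  ⟨Level.ok_sound' M cu_l0_ok,
   Level.okT_sound M cu_l1_ok,
   Level.okT_sound M cu_l2_ok,
   Level.okT_sound M cu_l3_ok,
   Level.okT_sound M cu_l4_ok, trivial⟩
theorem cu_cent {G : Type*} [Group G] {φ : G →* Equiv.Perm ℕ} {γ : ℕ → G}
    (C : Cert φ γ 9 m_ns m_ts [0, 2, 4, 6, 8, 10] c_ls) : Cent γ cu_S.u cu_S.Cl 5 :=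
  have X := (C.rechain (cu_sound C.M) (by decide +kernel)).exact
  have A := Srch.auxB_sound (S := cu_S) C.M (K := ⊤) le_top rfl cu_aux
  have F := fun {tr : Tr} {R : ℕ} => Srch.found_of_run (S := cu_S) C.M C.base (by decide +kernel) X A (tr := tr) (R := R)
  Cent.of_found (S := cu_S) C.M X rfl (F cu_r0) cu_cov

end Cfsg.Agent.J2C
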