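import Cfsg.Agent.J2C.Cert
import Cfsg.Agent.CGT.Out

set_option autoImplicit false
set_option Elab.async false
set_option maxRecDepth 100000
set_option linter.all false

namespace Cfsg.Agent.J2C
open Cfsg.Agent.CGT

noncomputable def cx_l0 : Level := ⟨0, [[0], [2], [4], [6], [8], [10]], [1, 2, 5, 3, 4, 1, 0, 2, 3, 4, 5, 1], 0x7ffffffffffffffffffffffffffffffffffffffffffffffffffffffffffffffffffffffffffffff, 315⟩
noncomputable def cx_l1 : Level := ⟨9, [[0], [6], [4, 8, 2], [10, 0, 10], [2, 4, 6, 10, 8, 10], [10, 2, 6, 0, 10, 2]], [], 0x600000001c038000000040000000000000000000000000000000000000000000000000000000200, 10⟩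
noncomputable def cx_l2 : Level := ⟨277, [[0], [4, 8, 2], [6, 10, 0, 10], [6, 4, 8, 2, 6], [6, 2, 4, 6, 10, 8, 10], [2, 10, 0, 6, 2, 10, 4, 8, 2, 10, 2, 6, 0, 10, 8, 4, 10, 2, 6, 0, 10, 2]], [], 0x3fc0000000000000000000000000000000000000000000000000000000000000000000, 8⟩
noncomputable def cx_l3 : Level := ⟨136, [[2, 8, 4, 0], [4, 2, 10, 0, 8, 10, 2, 4, 6, 10, 8, 10]], [], 0x410010004000000000000000100040041000000, 8⟩
noncomputable def cx_l4 : Level := ⟨304, [[2, 6, 8, 0, 2, 8, 4, 6, 8, 10, 2, 6, 0, 10, 2, 10, 0, 10, 2, 8, 4]], [], 0x10000000000010000400000000000000000000000000000000000000000000000000000000000, 3⟩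
noncomputable def cx_ls : List Level := [cx_l0, cx_l1, cx_l2, cx_l3, cx_l4]
noncomputable def cx_S : Srch := ⟨9, m_ts, (chainBase [] c_ls), [8, 6, 0, 4, 6, 2, 6, 0], [8, 6, 0, 4, 6, 2, 6, 0], []⟩
noncomputable def cx_lk : List ℕ := [1, 10, 278, 137]
noncomputable def cx_tl : List Level := [cx_l1, cx_l2, cx_l3, cx_l4]
noncomputable def cx_R0 : ℕ := 0x500410100503080804020400a211000502d00008000002c40000204a80e20a00000000002300001
theorem cx_l0_ok : (ptsOK 9 [] && (wordsIn [0, 2, 4, 6, 8, 10] cx_l0.S && cx_l0.ok 9 m_ns m_ts [])) = true := by decide +kernel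
theorem cx_l1_ok : cx_l1.okT 9 m_ts [0, 2, 4, 6, 8, 10] [0] (.cons [2] (.cons [10] .nil (.cons [11] .nil .nil)) (.cons [10] (.cons [4] .nil (.cons [5] .nil .nil)) (.cons [11] (.cons [4] .nil (.cons [5] .nil .nil)) .nil))) = true := by decide +kernel
theorem cx_l2_ok : cx_l2.okT 9 m_ts [0, 2, 4, 6, 8, 10] [9, 0] (.cons [0] .nil (.cons [4] (.cons [6] .nil (.cons [7] .nil .nil)) (.cons [5] .nil (.cons [6] .nil (.cons [7] .nil .nil))))) = true := by decide +kernel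
theorem cx_l3_ok : cx_l3.okT 9 m_ts [0, 2, 4, 6, 8, 10] [277, 9, 0] (.cons [0] .nil (.cons [1] (.cons [1] .nil (.cons [2] .nil (.cons [3] .nil .nil))) (.cons [2] .nil (.cons [3] .nil .nil)))) = true := by decide +kernel
theorem cx_l4_ok : cx_l4.okT 9 m_ts [0, 2, 4, 6, 8, 10] [136, 277, 9, 0] (.cons [0] .nil (.cons [1] .nil .nil)) = true := by decide +kernel
theorem cx_aux : cx_S.auxB [0, 2, 4, 6, 8, 10] cx_ls [] (0 :: cx_lk) = true := by decide +kernel
theorem cx_cov : Nat.beq (Nat.land cx_l0.O (Srch.cover m_ns (invW cx_S.u') cx_R0 6)) cx_l0.O = true := by decide +kernel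
theorem cx_r0 : cx_S.run (.cons [] (.cons [] (.cons [] (.cons [] (.cons [] (.leaf 2000) .nil) .nil) .nil) .nil) (.cons [2] .nil (.cons [4] .nil (.cons [8] .nil (.cons [10] .nil (.cons [0, 2] .nil (.cons [4, 2] .nil (.cons [6, 2] .nil (.cons [10, 2] .nil (.cons [10, 8] .nil (.cons [10, 4] .nil (.cons [2, 10] .nil (.cons [4, 10] .nil (.cons [6, 10] .nil (.cons [8, 10] .nil (.cons [10, 0, 2] .nil (.cons [6, 2, 8] .nil (.cons [2, 10, 4] .nil (.cons [4, 10, 4] .nil (.cons [6, 10, 4] .nil (.cons [0, 8, 10] .nil (.cons [2, 8, 10] .nil (.cons [4, 8, 10] .nil (.cons [0, 10, 2] .nil (.cons [4, 10, 2] .nil (.cons [8, 10, 2] .nil (.cons [0, 4, 10] .nil (.cons [8, 4, 10] .nil (.cons [8, 2, 10] .nil (.cons [10, 6, 2] .nil (.cons [4, 6, 10] .nil (.cons [10, 4, 6, 2] .nil (.cons [8, 10, 0, 8] .nil (.cons [10, 8, 6, 4] .nil (.cons [10, 2, 6, 8] .nil (.cons [10, 4, 6, 8] .nil (.cons [4, 10, 6, 4] .nil (.cons [4, 8, 10, 2]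 .nil (.cons [8, 10, 6, 2] .nil (.cons [8, 6, 4, 10] .nil (.cons [0, 2, 10, 2] (.cons [2] (.cons [0] (.cons [] (.cons [0] (.leaf 3) .nil) .nil) .nil) .nil) (.cons [8, 2, 10, 2] .nil (.cons [2, 0, 8, 10] .nil (.cons [10, 0, 10, 2] .nil (.cons [8, 10, 0, 4] .nil .nil))))))))))))))))))))))))))))))))))))))))))))) (⟨cx_l0.b, cx_l0.S, [], cx_R0, 0⟩ :: cx_tl) (0 :: cx_lk) Pd.nil 0 = true := by decide +kernel
theorem cx_sound {G : Type*} [Group G] {φ : G →* Equiv.Perm ℕ} {γ : ℕ → G}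
    (M : Model φ γ 9 m_ns m_ts) : ChainSound φ (gp γ [0, 2, 4, 6, 8, 10]) 9 [] cx_ls :=
  ⟨Level.ok_sound' M cx_l0_ok,
   Level.okT_sound M cx_l1_ok,
   Level.okT_sound M cx_l2_ok,
   Level.okT_sound M cx_l3_ok,
   Level.okT_sound M cx_l4_ok, trivial⟩
theorem cx_cent {G : Type*} [Group G] {φ : G →* Equiv.Perm ℕ} {γ : ℕ → G}
    (C : Cert φ γ 9 m_ns m_ts [0, 2, 4, 6, 8, 10] c_ls) : Cent γ cx_S.u cx_S.Cl 6 :=
  have X := (C.rechain (cx_sound C.M) (by decide +kernel)).exact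
  have A := Srch.auxB_sound (S := cx_S) C.M (K := ⊤) le_top rfl cx_aux
  have F := fun {tr : Tr} {R : ℕ} => Srch.found_of_run (S := cx_S) C.M C.base (by decide +kernel) X A (tr := tr) (R := R)
  Cent.of_found (S := cx_S) C.M X rfl (F cx_r0) cx_cov

end Cfsg.Agent.J2C
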