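import Cfsg.Agent.J2C.Cls

set_option autoImplicit false
set_option Elab.async false
set_option maxRecDepth 100000
set_option linter.all false

namespace Cfsg.Agent.J2C
open Cfsg.Agent.CGT

noncomputable def B : List Q := [⟨-2, 0, 0, 0, 0, 0, 0, 0⟩,
  ⟨-1, -1, -1, -1, -1, -1, -1, -1⟩,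
  ⟨-1, -1, -1, -1, -1, -1, 1, 1⟩,
  ⟨-1, -1, -1, -1, -1, 1, -1, 1⟩,
  ⟨-1, -1, -1, -1, -1, 1, 1, -1⟩,
  ⟨-1, -1, -1, -1, 1, -1, -1, 1⟩,
  ⟨-1, -1, -1, -1, 1, -1, 1, -1⟩,
  ⟨-1, -1, -1, -1, 1, 1, -1, -1⟩,
  ⟨-1, -1, -1, -1, 1, 1, 1, 1⟩,
  ⟨-1, -1, -1, 1, -2, 0, 0, 0⟩,
  ⟨-1, -1, -1, 1, 0, -2, 0, 0⟩,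
  ⟨-1, -1, -1, 1, 0, 0, -2, 0⟩,
  ⟨-1, -1, -1, 1, 0, 0, 0, -2⟩,
  ⟨-1, -1, -1, 1, 0, 0, 0, 2⟩,
  ⟨-1, -1, -1, 1, 0, 0, 2, 0⟩,
  ⟨-1, -1, -1, 1, 0, 2, 0, 0⟩,
  ⟨-1, -1, -1, 1, 2, 0, 0, 0⟩,
  ⟨-1, -1, 1, -1, -2, 0, 0, 0⟩,
  ⟨-1, -1, 1, -1, 0, -2, 0, 0⟩,
  ⟨-1, -1, 1, -1, 0, 0, -2, 0⟩,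
  ⟨-1, -1, 1, -1, 0, 0, 0, -2⟩,
  ⟨-1, -1, 1, -1, 0, 0, 0, 2⟩,
  ⟨-1, -1, 1, -1, 0, 0, 2, 0⟩,
  ⟨-1, -1, 1, -1, 0, 2, 0, 0⟩,
  ⟨-1, -1, 1, -1, 2, 0, 0, 0⟩,
  ⟨-1, -1, 1, 1, -1, -1, -1, -1⟩,
  ⟨-1, -1, 1, 1, -1, -1, 1, 1⟩,
  ⟨-1, -1, 1, 1, -1, 1, -1, 1⟩,
  ⟨-1, -1, 1, 1, -1, 1, 1, -1⟩,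
  ⟨-1, -1, 1, 1, 1, -1, -1, 1⟩,
  ⟨-1, -1, 1, 1, 1, -1, 1, -1⟩,
  ⟨-1, -1, 1, 1, 1, 1, -1, -1⟩,
  ⟨-1, -1, 1, 1, 1, 1, 1, 1⟩,
  ⟨-1, 1, -1, -1, -2, 0, 0, 0⟩,
  ⟨-1, 1, -1, -1, 0, -2, 0, 0⟩,
  ⟨-1, 1, -1, -1, 0, 0, -2, 0⟩,
  ⟨-1, 1, -1, -1, 0, 0, 0, -2⟩,
  ⟨-1, 1, -1, -1, 0, 0, 0, 2⟩,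
  ⟨-1, 1, -1, -1, 0, 0, 2, 0⟩,
  ⟨-1, 1, -1, -1, 0, 2, 0, 0⟩,
  ⟨-1, 1, -1, -1, 2, 0, 0, 0⟩,
  ⟨-1, 1, -1, 1, -1, -1, -1, -1⟩,
  ⟨-1, 1, -1, 1, -1, -1, 1, 1⟩,
  ⟨-1, 1, -1, 1, -1, 1, -1, 1⟩,
  ⟨-1, 1, -1, 1, -1, 1, 1, -1⟩,
  ⟨-1, 1, -1, 1, 1, -1, -1, 1⟩,
  ⟨-1, 1, -1, 1, 1, -1, 1, -1⟩,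
  ⟨-1, 1, -1, 1, 1, 1, -1, -1⟩,
  ⟨-1, 1, -1, 1, 1, 1, 1, 1⟩,
  ⟨-1, 1, 1, -1, -1, -1, -1, -1⟩,
  ⟨-1, 1, 1, -1, -1, -1, 1, 1⟩,
  ⟨-1, 1, 1, -1, -1, 1, -1, 1⟩,
  ⟨-1, 1, 1, -1, -1, 1, 1, -1⟩,
  ⟨-1, 1, 1, -1, 1, -1, -1, 1⟩,
  ⟨-1, 1, 1, -1, 1, -1, 1, -1⟩,
  ⟨-1, 1, 1, -1, 1, 1, -1, -1⟩,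
  ⟨-1, 1, 1, -1, 1, 1, 1, 1⟩,
  ⟨-1, 1, 1, 1, -2, 0, 0, 0⟩,
  ⟨-1, 1, 1, 1, 0, -2, 0, 0⟩,
  ⟨-1, 1, 1, 1, 0, 0, -2, 0⟩,
  ⟨-1, 1, 1, 1, 0, 0, 0, -2⟩,
  ⟨-1, 1, 1, 1, 0, 0, 0, 2⟩,
  ⟨-1, 1, 1, 1, 0, 0, 2, 0⟩,
  ⟨-1, 1, 1, 1, 0, 2, 0, 0⟩,
  ⟨-1, 1, 1, 1, 2, 0, 0, 0⟩,
  ⟨0, -2, 0, 0, 0, 0, 0, 0⟩,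
  ⟨0, 0, -2, 0, 0, 0, 0, 0⟩,
  ⟨0, 0, 0, -2, 0, 0, 0, 0⟩,
  ⟨0, 0, 0, 0, -1, -1, -1, 1⟩,
  ⟨0, 0, 0, 0, -1, -1, 1, -1⟩,
  ⟨0, 0, 0, 0, -1, 1, -1, -1⟩,
  ⟨0, 0, 0, 0, -1, 1, 1, 1⟩,
  ⟨0, 0, 0, 0, 1, -1, -1, -1⟩,
  ⟨0, 0, 0, 0, 1, -1, 1, 1⟩,
  ⟨0, 0, 0, 0, 1, 1, -1, 1⟩,
  ⟨0, 0, 0, 0, 1, 1, 1, -1⟩,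
  ⟨0, 0, 0, 2, 0, 0, 0, 0⟩,
  ⟨0, 0, 2, 0, 0, 0, 0, 0⟩,
  ⟨0, 2, 0, 0, 0, 0, 0, 0⟩,
  ⟨1, -1, -1, -1, -2, 0, 0, 0⟩,
  ⟨1, -1, -1, -1, 0, -2, 0, 0⟩,
  ⟨1, -1, -1, -1, 0, 0, -2, 0⟩,
  ⟨1, -1, -1, -1, 0, 0, 0, -2⟩,
  ⟨1, -1, -1, -1, 0, 0, 0, 2⟩,
  ⟨1, -1, -1, -1, 0, 0, 2, 0⟩,
  ⟨1, -1, -1, -1, 0, 2, 0, 0⟩,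
  ⟨1, -1, -1, -1, 2, 0, 0, 0⟩,
  ⟨1, -1, -1, 1, -1, -1, -1, -1⟩,
  ⟨1, -1, -1, 1, -1, -1, 1, 1⟩,
  ⟨1, -1, -1, 1, -1, 1, -1, 1⟩,
  ⟨1, -1, -1, 1, -1, 1, 1, -1⟩,
  ⟨1, -1, -1, 1, 1, -1, -1, 1⟩,
  ⟨1, -1, -1, 1, 1, -1, 1, -1⟩,
  ⟨1, -1, -1, 1, 1, 1, -1, -1⟩,
  ⟨1, -1, -1, 1, 1, 1, 1, 1⟩,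
  ⟨1, -1, 1, -1, -1, -1, -1, -1⟩,
  ⟨1, -1, 1, -1, -1, -1, 1, 1⟩,
  ⟨1, -1, 1, -1, -1, 1, -1, 1⟩,
  ⟨1, -1, 1, -1, -1, 1, 1, -1⟩,
  ⟨1, -1, 1, -1, 1, -1, -1, 1⟩,
  ⟨1, -1, 1, -1, 1, -1, 1, -1⟩,
  ⟨1, -1, 1, -1, 1, 1, -1, -1⟩,
  ⟨1, -1, 1, -1, 1, 1, 1, 1⟩,
  ⟨1, -1, 1, 1, -2, 0, 0, 0⟩,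
  ⟨1, -1, 1, 1, 0, -2, 0, 0⟩,
  ⟨1, -1, 1, 1, 0, 0, -2, 0⟩,
  ⟨1, -1, 1, 1, 0, 0, 0, -2⟩,
  ⟨1, -1, 1, 1, 0, 0, 0, 2⟩,
  ⟨1, -1, 1, 1, 0, 0, 2, 0⟩,
  ⟨1, -1, 1, 1, 0, 2, 0, 0⟩,
  ⟨1, -1, 1, 1, 2, 0, 0, 0⟩,
  ⟨1, 1, -1, -1, -1, -1, -1, -1⟩,
  ⟨1, 1, -1, -1, -1, -1, 1, 1⟩,
  ⟨1, 1, -1, -1, -1, 1, -1, 1⟩,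
  ⟨1, 1, -1, -1, -1, 1, 1, -1⟩,
  ⟨1, 1, -1, -1, 1, -1, -1, 1⟩,
  ⟨1, 1, -1, -1, 1, -1, 1, -1⟩,
  ⟨1, 1, -1, -1, 1, 1, -1, -1⟩,
  ⟨1, 1, -1, -1, 1, 1, 1, 1⟩,
  ⟨1, 1, -1, 1, -2, 0, 0, 0⟩,
  ⟨1, 1, -1, 1, 0, -2, 0, 0⟩,
  ⟨1, 1, -1, 1, 0, 0, -2, 0⟩,
  ⟨1, 1, -1, 1, 0, 0, 0, -2⟩,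
  ⟨1, 1, -1, 1, 0, 0, 0, 2⟩,
  ⟨1, 1, -1, 1, 0, 0, 2, 0⟩,
  ⟨1, 1, -1, 1, 0, 2, 0, 0⟩,
  ⟨1, 1, -1, 1, 2, 0, 0, 0⟩,
  ⟨1, 1, 1, -1, -2, 0, 0, 0⟩,
  ⟨1, 1, 1, -1, 0, -2, 0, 0⟩,
  ⟨1, 1, 1, -1, 0, 0, -2, 0⟩,
  ⟨1, 1, 1, -1, 0, 0, 0, -2⟩,
  ⟨1, 1, 1, -1, 0, 0, 0, 2⟩,
  ⟨1, 1, 1, -1, 0, 0, 2, 0⟩,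
  ⟨1, 1, 1, -1, 0, 2, 0, 0⟩,
  ⟨1, 1, 1, -1, 2, 0, 0, 0⟩,
  ⟨1, 1, 1, 1, -1, -1, -1, -1⟩,
  ⟨1, 1, 1, 1, -1, -1, 1, 1⟩,
  ⟨1, 1, 1, 1, -1, 1, -1, 1⟩,
  ⟨1, 1, 1, 1, -1, 1, 1, -1⟩,
  ⟨1, 1, 1, 1, 1, -1, -1, 1⟩,
  ⟨1, 1, 1, 1, 1, -1, 1, -1⟩,
  ⟨1, 1, 1, 1, 1, 1, -1, -1⟩,
  ⟨1, 1, 1, 1, 1, 1, 1, 1⟩,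
  ⟨2, 0, 0, 0, 0, 0, 0, 0⟩]
noncomputable def pts : List P3 := [⟨⟨0, 0, 0, 0, 0, 0, 0, 0⟩, ⟨0, 0, 0, 0, 0, 0, 0, 0⟩, ⟨4, 0, 0, 0, 0, 0, 0, 0⟩⟩,
  ⟨⟨0, 0, 0, 0, 0, 0, 0, 0⟩, ⟨1, 1, 1, 1, -2, 0, 0, 0⟩, ⟨-1, -1, -1, -1, 2, 0, 0, 0⟩⟩,
  ⟨⟨0, 0, 0, 0, 0, 0, 0, 0⟩, ⟨1, 1, 1, 1, -2, 0, 0, 0⟩, ⟨1, -1, -1, 1, 0, 2, 0, 0⟩⟩,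
  ⟨⟨0, 0, 0, 0, 0, 0, 0, 0⟩, ⟨1, 1, 1, 1, -2, 0, 0, 0⟩, ⟨1, 1, -1, -1, 0, 0, 2, 0⟩⟩,
  ⟨⟨0, 0, 0, 0, 0, 0, 0, 0⟩, ⟨1, 1, 1, 1, -2, 0, 0, 0⟩, ⟨1, -1, 1, -1, 0, 0, 0, 2⟩⟩,
  ⟨⟨0, 0, 0, 0, 0, 0, 0, 0⟩, ⟨1, 1, 1, 1, -2, 0, 0, 0⟩, ⟨-1, 1, -1, 1, 0, 0, 0, -2⟩⟩,
  ⟨⟨0, 0, 0, 0, 0, 0, 0, 0⟩, ⟨1, 1, 1, 1, -2, 0, 0, 0⟩, ⟨-1, -1, 1, 1, 0, 0, -2, 0⟩⟩,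
  ⟨⟨0, 0, 0, 0, 0, 0, 0, 0⟩, ⟨1, 1, 1, 1, -2, 0, 0, 0⟩, ⟨-1, 1, 1, -1, 0, -2, 0, 0⟩⟩,
  ⟨⟨0, 0, 0, 0, 0, 0, 0, 0⟩, ⟨1, 1, 1, 1, -2, 0, 0, 0⟩, ⟨1, 1, 1, 1, -2, 0, 0, 0⟩⟩,
  ⟨⟨0, 0, 0, 0, 0, 0, 0, 0⟩, ⟨4, 0, 0, 0, 0, 0, 0, 0⟩, ⟨0, 0, 0, 0, 0, 0, 0, 0⟩⟩,
  ⟨⟨2, 0, 0, 0, 0, 0, 0, 0⟩, ⟨-2, 0, 0, 0, 0, 0, 0, 0⟩, ⟨-1, -1, -1, 1, 0, 2, 0, 0⟩⟩,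
  ⟨⟨2, 0, 0, 0, 0, 0, 0, 0⟩, ⟨-2, 0, 0, 0, 0, 0, 0, 0⟩, ⟨-1, -1, 1, -1, 0, 0, 0, 2⟩⟩,
  ⟨⟨2, 0, 0, 0, 0, 0, 0, 0⟩, ⟨-2, 0, 0, 0, 0, 0, 0, 0⟩, ⟨-1, 1, -1, -1, 0, 0, 2, 0⟩⟩,
  ⟨⟨2, 0, 0, 0, 0, 0, 0, 0⟩, ⟨-2, 0, 0, 0, 0, 0, 0, 0⟩, ⟨-1, 1, 1, 1, 2, 0, 0, 0⟩⟩,
  ⟨⟨-2, 0, 0, 0, 0, 0, 0, 0⟩, ⟨2, 0, 0, 0, 0, 0, 0, 0⟩, ⟨-1, 1, 1, 1, 2, 0, 0, 0⟩⟩,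
  ⟨⟨-2, 0, 0, 0, 0, 0, 0, 0⟩, ⟨2, 0, 0, 0, 0, 0, 0, 0⟩, ⟨-1, 1, -1, -1, 0, 0, 2, 0⟩⟩,
  ⟨⟨-2, 0, 0, 0, 0, 0, 0, 0⟩, ⟨2, 0, 0, 0, 0, 0, 0, 0⟩, ⟨-1, -1, 1, -1, 0, 0, 0, 2⟩⟩,
  ⟨⟨-2, 0, 0, 0, 0, 0, 0, 0⟩, ⟨2, 0, 0, 0, 0, 0, 0, 0⟩, ⟨-1, -1, -1, 1, 0, 2, 0, 0⟩⟩,
  ⟨⟨2, 0, 0, 0, 0, 0, 0, 0⟩, ⟨-1, -1, -1, -1, 1, 1, 1, 1⟩, ⟨0, 0, 0, 0, -1, 1, 1, 1⟩⟩,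
  ⟨⟨2, 0, 0, 0, 0, 0, 0, 0⟩, ⟨-1, -1, -1, -1, 1, 1, 1, 1⟩, ⟨0, 0, 0, 0, 1, -1, -1, -1⟩⟩,
  ⟨⟨2, 0, 0, 0, 0, 0, 0, 0⟩, ⟨-1, -1, -1, 1, 0, 0, 0, -2⟩, ⟨0, -2, 0, 0, 0, 0, 0, 0⟩⟩,
  ⟨⟨2, 0, 0, 0, 0, 0, 0, 0⟩, ⟨-1, -1, -1, 1, 0, 0, 0, -2⟩, ⟨0, 2, 0, 0, 0, 0, 0, 0⟩⟩,
  ⟨⟨2, 0, 0, 0, 0, 0, 0, 0⟩, ⟨-1, -1, -1, 1, 0, 0, 2, 0⟩, ⟨0, 0, -2, 0, 0, 0, 0, 0⟩⟩,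
  ⟨⟨2, 0, 0, 0, 0, 0, 0, 0⟩, ⟨-1, -1, -1, 1, 0, 0, 2, 0⟩, ⟨0, 0, 2, 0, 0, 0, 0, 0⟩⟩,
  ⟨⟨-2, 0, 0, 0, 0, 0, 0, 0⟩, ⟨1, 1, 1, -1, 0, -2, 0, 0⟩, ⟨2, 0, 0, 0, 0, 0, 0, 0⟩⟩,
  ⟨⟨2, 0, 0, 0, 0, 0, 0, 0⟩, ⟨-1, -1, -1, 1, 0, 2, 0, 0⟩, ⟨2, 0, 0, 0, 0, 0, 0, 0⟩⟩,
  ⟨⟨2, 0, 0, 0, 0, 0, 0, 0⟩, ⟨-1, -1, -1, 1, 2, 0, 0, 0⟩, ⟨0, 0, 0, -2, 0, 0, 0, 0⟩⟩,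
  ⟨⟨2, 0, 0, 0, 0, 0, 0, 0⟩, ⟨-1, -1, -1, 1, 2, 0, 0, 0⟩, ⟨0, 0, 0, 2, 0, 0, 0, 0⟩⟩,
  ⟨⟨2, 0, 0, 0, 0, 0, 0, 0⟩, ⟨-1, -1, 1, -1, 0, 0, -2, 0⟩, ⟨0, 0, 0, -2, 0, 0, 0, 0⟩⟩,
  ⟨⟨2, 0, 0, 0, 0, 0, 0, 0⟩, ⟨-1, -1, 1, -1, 0, 0, -2, 0⟩, ⟨0, 0, 0, 2, 0, 0, 0, 0⟩⟩,
  ⟨⟨-2, 0, 0, 0, 0, 0, 0, 0⟩, ⟨1, 1, -1, 1, 0, 0, 0, -2⟩, ⟨2, 0, 0, 0, 0, 0, 0, 0⟩⟩,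
  ⟨⟨2, 0, 0, 0, 0, 0, 0, 0⟩, ⟨-1, -1, 1, -1, 0, 0, 0, 2⟩, ⟨2, 0, 0, 0, 0, 0, 0, 0⟩⟩,
  ⟨⟨2, 0, 0, 0, 0, 0, 0, 0⟩, ⟨-1, -1, 1, -1, 0, 2, 0, 0⟩, ⟨0, -2, 0, 0, 0, 0, 0, 0⟩⟩,
  ⟨⟨2, 0, 0, 0, 0, 0, 0, 0⟩, ⟨-1, -1, 1, -1, 0, 2, 0, 0⟩, ⟨0, 2, 0, 0, 0, 0, 0, 0⟩⟩,
  ⟨⟨2, 0, 0, 0, 0, 0, 0, 0⟩, ⟨-1, -1, 1, -1, 2, 0, 0, 0⟩, ⟨0, 0, -2, 0, 0, 0, 0, 0⟩⟩,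
  ⟨⟨2, 0, 0, 0, 0, 0, 0, 0⟩, ⟨-1, -1, 1, -1, 2, 0, 0, 0⟩, ⟨0, 0, 2, 0, 0, 0, 0, 0⟩⟩,
  ⟨⟨2, 0, 0, 0, 0, 0, 0, 0⟩, ⟨-1, -1, 1, 1, 1, 1, -1, -1⟩, ⟨0, 0, 0, 0, -1, -1, -1, 1⟩⟩,
  ⟨⟨2, 0, 0, 0, 0, 0, 0, 0⟩, ⟨-1, -1, 1, 1, 1, 1, -1, -1⟩, ⟨0, 0, 0, 0, 1, 1, 1, -1⟩⟩,
  ⟨⟨2, 0, 0, 0, 0, 0, 0, 0⟩, ⟨-1, 1, -1, -1, 0, -2, 0, 0⟩, ⟨0, 0, -2, 0, 0, 0, 0, 0⟩⟩,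
  ⟨⟨2, 0, 0, 0, 0, 0, 0, 0⟩, ⟨-1, 1, -1, -1, 0, -2, 0, 0⟩, ⟨0, 0, 2, 0, 0, 0, 0, 0⟩⟩,
  ⟨⟨2, 0, 0, 0, 0, 0, 0, 0⟩, ⟨-1, 1, -1, -1, 0, 0, 0, 2⟩, ⟨0, 0, 0, -2, 0, 0, 0, 0⟩⟩,
  ⟨⟨2, 0, 0, 0, 0, 0, 0, 0⟩, ⟨-1, 1, -1, -1, 0, 0, 0, 2⟩, ⟨0, 0, 0, 2, 0, 0, 0, 0⟩⟩,
  ⟨⟨-2, 0, 0, 0, 0, 0, 0, 0⟩, ⟨1, -1, 1, 1, 0, 0, -2, 0⟩, ⟨2, 0, 0, 0, 0, 0, 0, 0⟩⟩,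
  ⟨⟨2, 0, 0, 0, 0, 0, 0, 0⟩, ⟨-1, 1, -1, -1, 0, 0, 2, 0⟩, ⟨2, 0, 0, 0, 0, 0, 0, 0⟩⟩,
  ⟨⟨2, 0, 0, 0, 0, 0, 0, 0⟩, ⟨-1, 1, -1, -1, 2, 0, 0, 0⟩, ⟨0, -2, 0, 0, 0, 0, 0, 0⟩⟩,
  ⟨⟨2, 0, 0, 0, 0, 0, 0, 0⟩, ⟨-1, 1, -1, -1, 2, 0, 0, 0⟩, ⟨0, 2, 0, 0, 0, 0, 0, 0⟩⟩,
  ⟨⟨2, 0, 0, 0, 0, 0, 0, 0⟩, ⟨-1, 1, -1, 1, 1, -1, 1, -1⟩, ⟨0, 0, 0, 0, -1, 1, -1, -1⟩⟩,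
  ⟨⟨2, 0, 0, 0, 0, 0, 0, 0⟩, ⟨-1, 1, -1, 1, 1, -1, 1, -1⟩, ⟨0, 0, 0, 0, 1, -1, 1, 1⟩⟩,
  ⟨⟨2, 0, 0, 0, 0, 0, 0, 0⟩, ⟨-1, 1, 1, -1, 1, -1, -1, 1⟩, ⟨0, 0, 0, 0, -1, -1, 1, -1⟩⟩,
  ⟨⟨2, 0, 0, 0, 0, 0, 0, 0⟩, ⟨-1, 1, 1, -1, 1, -1, -1, 1⟩, ⟨0, 0, 0, 0, 1, 1, -1, 1⟩⟩,
  ⟨⟨2, 0, 0, 0, 0, 0, 0, 0⟩, ⟨-1, 1, 1, 1, 0, -2, 0, 0⟩, ⟨0, 0, 0, -2, 0, 0, 0, 0⟩⟩,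
  ⟨⟨2, 0, 0, 0, 0, 0, 0, 0⟩, ⟨-1, 1, 1, 1, 0, -2, 0, 0⟩, ⟨0, 0, 0, 2, 0, 0, 0, 0⟩⟩,
  ⟨⟨2, 0, 0, 0, 0, 0, 0, 0⟩, ⟨-1, 1, 1, 1, 0, 0, -2, 0⟩, ⟨0, -2, 0, 0, 0, 0, 0, 0⟩⟩,
  ⟨⟨2, 0, 0, 0, 0, 0, 0, 0⟩, ⟨-1, 1, 1, 1, 0, 0, -2, 0⟩, ⟨0, 2, 0, 0, 0, 0, 0, 0⟩⟩,
  ⟨⟨2, 0, 0, 0, 0, 0, 0, 0⟩, ⟨-1, 1, 1, 1, 0, 0, 0, -2⟩, ⟨0, 0, -2, 0, 0, 0, 0, 0⟩⟩,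
  ⟨⟨2, 0, 0, 0, 0, 0, 0, 0⟩, ⟨-1, 1, 1, 1, 0, 0, 0, -2⟩, ⟨0, 0, 2, 0, 0, 0, 0, 0⟩⟩,
  ⟨⟨-2, 0, 0, 0, 0, 0, 0, 0⟩, ⟨1, -1, -1, -1, -2, 0, 0, 0⟩, ⟨2, 0, 0, 0, 0, 0, 0, 0⟩⟩,
  ⟨⟨2, 0, 0, 0, 0, 0, 0, 0⟩, ⟨-1, 1, 1, 1, 2, 0, 0, 0⟩, ⟨2, 0, 0, 0, 0, 0, 0, 0⟩⟩,
  ⟨⟨2, 0, 0, 0, 0, 0, 0, 0⟩, ⟨0, -2, 0, 0, 0, 0, 0, 0⟩, ⟨-1, -1, -1, 1, 0, 0, 0, -2⟩⟩,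
  ⟨⟨2, 0, 0, 0, 0, 0, 0, 0⟩, ⟨0, -2, 0, 0, 0, 0, 0, 0⟩, ⟨-1, -1, 1, -1, 0, 2, 0, 0⟩⟩,
  ⟨⟨2, 0, 0, 0, 0, 0, 0, 0⟩, ⟨0, -2, 0, 0, 0, 0, 0, 0⟩, ⟨-1, 1, -1, -1, 2, 0, 0, 0⟩⟩,
  ⟨⟨2, 0, 0, 0, 0, 0, 0, 0⟩, ⟨0, -2, 0, 0, 0, 0, 0, 0⟩, ⟨-1, 1, 1, 1, 0, 0, -2, 0⟩⟩,
  ⟨⟨2, 0, 0, 0, 0, 0, 0, 0⟩, ⟨0, -2, 0, 0, 0, 0, 0, 0⟩, ⟨1, -1, -1, -1, 0, 0, 2, 0⟩⟩,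
  ⟨⟨2, 0, 0, 0, 0, 0, 0, 0⟩, ⟨0, -2, 0, 0, 0, 0, 0, 0⟩, ⟨1, -1, 1, 1, -2, 0, 0, 0⟩⟩,
  ⟨⟨2, 0, 0, 0, 0, 0, 0, 0⟩, ⟨0, -2, 0, 0, 0, 0, 0, 0⟩, ⟨1, 1, -1, 1, 0, -2, 0, 0⟩⟩,
  ⟨⟨2, 0, 0, 0, 0, 0, 0, 0⟩, ⟨0, -2, 0, 0, 0, 0, 0, 0⟩, ⟨1, 1, 1, -1, 0, 0, 0, 2⟩⟩,
  ⟨⟨2, 0, 0, 0, 0, 0, 0, 0⟩, ⟨0, 0, -2, 0, 0, 0, 0, 0⟩, ⟨-1, -1, -1, 1, 0, 0, 2, 0⟩⟩,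
  ⟨⟨2, 0, 0, 0, 0, 0, 0, 0⟩, ⟨0, 0, -2, 0, 0, 0, 0, 0⟩, ⟨-1, -1, 1, -1, 2, 0, 0, 0⟩⟩,
  ⟨⟨2, 0, 0, 0, 0, 0, 0, 0⟩, ⟨0, 0, -2, 0, 0, 0, 0, 0⟩, ⟨-1, 1, -1, -1, 0, -2, 0, 0⟩⟩,
  ⟨⟨2, 0, 0, 0, 0, 0, 0, 0⟩, ⟨0, 0, -2, 0, 0, 0, 0, 0⟩, ⟨-1, 1, 1, 1, 0, 0, 0, -2⟩⟩,
  ⟨⟨2, 0, 0, 0, 0, 0, 0, 0⟩, ⟨0, 0, -2, 0, 0, 0, 0, 0⟩, ⟨1, -1, -1, -1, 0, 0, 0, 2⟩⟩,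
  ⟨⟨2, 0, 0, 0, 0, 0, 0, 0⟩, ⟨0, 0, -2, 0, 0, 0, 0, 0⟩, ⟨1, -1, 1, 1, 0, 2, 0, 0⟩⟩,
  ⟨⟨2, 0, 0, 0, 0, 0, 0, 0⟩, ⟨0, 0, -2, 0, 0, 0, 0, 0⟩, ⟨1, 1, -1, 1, -2, 0, 0, 0⟩⟩,
  ⟨⟨2, 0, 0, 0, 0, 0, 0, 0⟩, ⟨0, 0, -2, 0, 0, 0, 0, 0⟩, ⟨1, 1, 1, -1, 0, 0, -2, 0⟩⟩,
  ⟨⟨2, 0, 0, 0, 0, 0, 0, 0⟩, ⟨0, 0, 0, -2, 0, 0, 0, 0⟩, ⟨-1, -1, -1, 1, 2, 0, 0, 0⟩⟩,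
  ⟨⟨2, 0, 0, 0, 0, 0, 0, 0⟩, ⟨0, 0, 0, -2, 0, 0, 0, 0⟩, ⟨-1, -1, 1, -1, 0, 0, -2, 0⟩⟩,
  ⟨⟨2, 0, 0, 0, 0, 0, 0, 0⟩, ⟨0, 0, 0, -2, 0, 0, 0, 0⟩, ⟨-1, 1, -1, -1, 0, 0, 0, 2⟩⟩,
  ⟨⟨2, 0, 0, 0, 0, 0, 0, 0⟩, ⟨0, 0, 0, -2, 0, 0, 0, 0⟩, ⟨-1, 1, 1, 1, 0, -2, 0, 0⟩⟩,
  ⟨⟨2, 0, 0, 0, 0, 0, 0, 0⟩, ⟨0, 0, 0, -2, 0, 0, 0, 0⟩, ⟨1, -1, -1, -1, 0, 2, 0, 0⟩⟩,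
  ⟨⟨2, 0, 0, 0, 0, 0, 0, 0⟩, ⟨0, 0, 0, -2, 0, 0, 0, 0⟩, ⟨1, -1, 1, 1, 0, 0, 0, -2⟩⟩,
  ⟨⟨2, 0, 0, 0, 0, 0, 0, 0⟩, ⟨0, 0, 0, -2, 0, 0, 0, 0⟩, ⟨1, 1, -1, 1, 0, 0, 2, 0⟩⟩,
  ⟨⟨2, 0, 0, 0, 0, 0, 0, 0⟩, ⟨0, 0, 0, -2, 0, 0, 0, 0⟩, ⟨1, 1, 1, -1, -2, 0, 0, 0⟩⟩,
  ⟨⟨2, 0, 0, 0, 0, 0, 0, 0⟩, ⟨0, 0, 0, 0, -1, -1, -1, 1⟩, ⟨-1, -1, 1, 1, 1, 1, -1, -1⟩⟩,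
  ⟨⟨2, 0, 0, 0, 0, 0, 0, 0⟩, ⟨0, 0, 0, 0, -1, -1, -1, 1⟩, ⟨1, 1, -1, -1, -1, -1, 1, 1⟩⟩,
  ⟨⟨2, 0, 0, 0, 0, 0, 0, 0⟩, ⟨0, 0, 0, 0, -1, -1, 1, -1⟩, ⟨-1, 1, 1, -1, 1, -1, -1, 1⟩⟩,
  ⟨⟨2, 0, 0, 0, 0, 0, 0, 0⟩, ⟨0, 0, 0, 0, -1, -1, 1, -1⟩, ⟨1, -1, -1, 1, -1, 1, 1, -1⟩⟩,
  ⟨⟨2, 0, 0, 0, 0, 0, 0, 0⟩, ⟨0, 0, 0, 0, -1, 1, -1, -1⟩, ⟨-1, 1, -1, 1, 1, -1, 1, -1⟩⟩,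
  ⟨⟨2, 0, 0, 0, 0, 0, 0, 0⟩, ⟨0, 0, 0, 0, -1, 1, -1, -1⟩, ⟨1, -1, 1, -1, -1, 1, -1, 1⟩⟩,
  ⟨⟨2, 0, 0, 0, 0, 0, 0, 0⟩, ⟨0, 0, 0, 0, -1, 1, 1, 1⟩, ⟨-1, -1, -1, -1, 1, 1, 1, 1⟩⟩,
  ⟨⟨2, 0, 0, 0, 0, 0, 0, 0⟩, ⟨0, 0, 0, 0, -1, 1, 1, 1⟩, ⟨1, 1, 1, 1, -1, -1, -1, -1⟩⟩,
  ⟨⟨2, 0, 0, 0, 0, 0, 0, 0⟩, ⟨0, 0, 0, 0, 1, -1, -1, -1⟩, ⟨-1, -1, -1, -1, 1, 1, 1, 1⟩⟩,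
  ⟨⟨2, 0, 0, 0, 0, 0, 0, 0⟩, ⟨0, 0, 0, 0, 1, -1, -1, -1⟩, ⟨1, 1, 1, 1, -1, -1, -1, -1⟩⟩,
  ⟨⟨2, 0, 0, 0, 0, 0, 0, 0⟩, ⟨0, 0, 0, 0, 1, -1, 1, 1⟩, ⟨-1, 1, -1, 1, 1, -1, 1, -1⟩⟩,
  ⟨⟨2, 0, 0, 0, 0, 0, 0, 0⟩, ⟨0, 0, 0, 0, 1, -1, 1, 1⟩, ⟨1, -1, 1, -1, -1, 1, -1, 1⟩⟩,
  ⟨⟨2, 0, 0, 0, 0, 0, 0, 0⟩, ⟨0, 0, 0, 0, 1, 1, -1, 1⟩, ⟨-1, 1, 1, -1, 1, -1, -1, 1⟩⟩,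
  ⟨⟨2, 0, 0, 0, 0, 0, 0, 0⟩, ⟨0, 0, 0, 0, 1, 1, -1, 1⟩, ⟨1, -1, -1, 1, -1, 1, 1, -1⟩⟩,
  ⟨⟨2, 0, 0, 0, 0, 0, 0, 0⟩, ⟨0, 0, 0, 0, 1, 1, 1, -1⟩, ⟨-1, -1, 1, 1, 1, 1, -1, -1⟩⟩,
  ⟨⟨2, 0, 0, 0, 0, 0, 0, 0⟩, ⟨0, 0, 0, 0, 1, 1, 1, -1⟩, ⟨1, 1, -1, -1, -1, -1, 1, 1⟩⟩,
  ⟨⟨0, 0, 0, -2, 0, 0, 0, 0⟩, ⟨2, 0, 0, 0, 0, 0, 0, 0⟩, ⟨1, -1, 1, 1, 0, 0, 0, -2⟩⟩,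
  ⟨⟨0, 0, 0, -2, 0, 0, 0, 0⟩, ⟨2, 0, 0, 0, 0, 0, 0, 0⟩, ⟨-1, 1, 1, 1, 0, -2, 0, 0⟩⟩,
  ⟨⟨0, 0, 0, -2, 0, 0, 0, 0⟩, ⟨2, 0, 0, 0, 0, 0, 0, 0⟩, ⟨-1, -1, -1, 1, 2, 0, 0, 0⟩⟩,
  ⟨⟨0, 0, 0, -2, 0, 0, 0, 0⟩, ⟨2, 0, 0, 0, 0, 0, 0, 0⟩, ⟨1, 1, -1, 1, 0, 0, 2, 0⟩⟩,
  ⟨⟨0, 0, 0, -2, 0, 0, 0, 0⟩, ⟨2, 0, 0, 0, 0, 0, 0, 0⟩, ⟨-1, -1, 1, -1, 0, 0, -2, 0⟩⟩,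
  ⟨⟨0, 0, 0, -2, 0, 0, 0, 0⟩, ⟨2, 0, 0, 0, 0, 0, 0, 0⟩, ⟨1, 1, 1, -1, -2, 0, 0, 0⟩⟩,
  ⟨⟨0, 0, 0, -2, 0, 0, 0, 0⟩, ⟨2, 0, 0, 0, 0, 0, 0, 0⟩, ⟨1, -1, -1, -1, 0, 2, 0, 0⟩⟩,
  ⟨⟨0, 0, 0, -2, 0, 0, 0, 0⟩, ⟨2, 0, 0, 0, 0, 0, 0, 0⟩, ⟨-1, 1, -1, -1, 0, 0, 0, 2⟩⟩,
  ⟨⟨0, 0, -2, 0, 0, 0, 0, 0⟩, ⟨2, 0, 0, 0, 0, 0, 0, 0⟩, ⟨-1, -1, 1, -1, 2, 0, 0, 0⟩⟩,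
  ⟨⟨0, 0, -2, 0, 0, 0, 0, 0⟩, ⟨2, 0, 0, 0, 0, 0, 0, 0⟩, ⟨1, 1, 1, -1, 0, 0, -2, 0⟩⟩,
  ⟨⟨0, 0, -2, 0, 0, 0, 0, 0⟩, ⟨2, 0, 0, 0, 0, 0, 0, 0⟩, ⟨-1, 1, 1, 1, 0, 0, 0, -2⟩⟩,
  ⟨⟨0, 0, -2, 0, 0, 0, 0, 0⟩, ⟨2, 0, 0, 0, 0, 0, 0, 0⟩, ⟨1, -1, 1, 1, 0, 2, 0, 0⟩⟩,
  ⟨⟨0, 0, -2, 0, 0, 0, 0, 0⟩, ⟨2, 0, 0, 0, 0, 0, 0, 0⟩, ⟨-1, 1, -1, -1, 0, -2, 0, 0⟩⟩,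
  ⟨⟨0, 0, -2, 0, 0, 0, 0, 0⟩, ⟨2, 0, 0, 0, 0, 0, 0, 0⟩, ⟨1, -1, -1, -1, 0, 0, 0, 2⟩⟩,
  ⟨⟨0, 0, -2, 0, 0, 0, 0, 0⟩, ⟨2, 0, 0, 0, 0, 0, 0, 0⟩, ⟨-1, -1, -1, 1, 0, 0, 2, 0⟩⟩,
  ⟨⟨0, 0, -2, 0, 0, 0, 0, 0⟩, ⟨2, 0, 0, 0, 0, 0, 0, 0⟩, ⟨1, 1, -1, 1, -2, 0, 0, 0⟩⟩,
  ⟨⟨0, -2, 0, 0, 0, 0, 0, 0⟩, ⟨2, 0, 0, 0, 0, 0, 0, 0⟩, ⟨-1, 1, 1, 1, 0, 0, -2, 0⟩⟩,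
  ⟨⟨0, -2, 0, 0, 0, 0, 0, 0⟩, ⟨2, 0, 0, 0, 0, 0, 0, 0⟩, ⟨-1, 1, -1, -1, 2, 0, 0, 0⟩⟩,
  ⟨⟨0, -2, 0, 0, 0, 0, 0, 0⟩, ⟨2, 0, 0, 0, 0, 0, 0, 0⟩, ⟨1, 1, -1, 1, 0, -2, 0, 0⟩⟩,
  ⟨⟨0, -2, 0, 0, 0, 0, 0, 0⟩, ⟨2, 0, 0, 0, 0, 0, 0, 0⟩, ⟨1, 1, 1, -1, 0, 0, 0, 2⟩⟩,
  ⟨⟨0, -2, 0, 0, 0, 0, 0, 0⟩, ⟨2, 0, 0, 0, 0, 0, 0, 0⟩, ⟨-1, -1, -1, 1, 0, 0, 0, -2⟩⟩,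
  ⟨⟨0, -2, 0, 0, 0, 0, 0, 0⟩, ⟨2, 0, 0, 0, 0, 0, 0, 0⟩, ⟨-1, -1, 1, -1, 0, 2, 0, 0⟩⟩,
  ⟨⟨0, -2, 0, 0, 0, 0, 0, 0⟩, ⟨2, 0, 0, 0, 0, 0, 0, 0⟩, ⟨1, -1, 1, 1, -2, 0, 0, 0⟩⟩,
  ⟨⟨0, -2, 0, 0, 0, 0, 0, 0⟩, ⟨2, 0, 0, 0, 0, 0, 0, 0⟩, ⟨1, -1, -1, -1, 0, 0, 2, 0⟩⟩,
  ⟨⟨-2, 0, 0, 0, 0, 0, 0, 0⟩, ⟨-1, 1, 1, 1, 2, 0, 0, 0⟩, ⟨2, 0, 0, 0, 0, 0, 0, 0⟩⟩,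
  ⟨⟨2, 0, 0, 0, 0, 0, 0, 0⟩, ⟨1, -1, -1, -1, -2, 0, 0, 0⟩, ⟨2, 0, 0, 0, 0, 0, 0, 0⟩⟩,
  ⟨⟨0, 0, 2, 0, 0, 0, 0, 0⟩, ⟨1, -1, 1, 1, 0, 2, 0, 0⟩, ⟨2, 0, 0, 0, 0, 0, 0, 0⟩⟩,
  ⟨⟨0, 0, -2, 0, 0, 0, 0, 0⟩, ⟨-1, 1, -1, -1, 0, -2, 0, 0⟩, ⟨2, 0, 0, 0, 0, 0, 0, 0⟩⟩,
  ⟨⟨0, 2, 0, 0, 0, 0, 0, 0⟩, ⟨1, 1, 1, -1, 0, 0, 0, 2⟩, ⟨2, 0, 0, 0, 0, 0, 0, 0⟩⟩,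
  ⟨⟨0, -2, 0, 0, 0, 0, 0, 0⟩, ⟨-1, -1, -1, 1, 0, 0, 0, -2⟩, ⟨2, 0, 0, 0, 0, 0, 0, 0⟩⟩,
  ⟨⟨0, 0, 0, 2, 0, 0, 0, 0⟩, ⟨1, 1, -1, 1, 0, 0, 2, 0⟩, ⟨2, 0, 0, 0, 0, 0, 0, 0⟩⟩,
  ⟨⟨0, 0, 0, -2, 0, 0, 0, 0⟩, ⟨-1, -1, 1, -1, 0, 0, -2, 0⟩, ⟨2, 0, 0, 0, 0, 0, 0, 0⟩⟩,
  ⟨⟨2, 0, 0, 0, 0, 0, 0, 0⟩, ⟨1, -1, -1, 1, -1, 1, 1, -1⟩, ⟨0, 0, 0, 0, -1, -1, 1, -1⟩⟩,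
  ⟨⟨2, 0, 0, 0, 0, 0, 0, 0⟩, ⟨1, -1, -1, 1, -1, 1, 1, -1⟩, ⟨0, 0, 0, 0, 1, 1, -1, 1⟩⟩,
  ⟨⟨2, 0, 0, 0, 0, 0, 0, 0⟩, ⟨1, -1, 1, -1, -1, 1, -1, 1⟩, ⟨0, 0, 0, 0, -1, 1, -1, -1⟩⟩,
  ⟨⟨2, 0, 0, 0, 0, 0, 0, 0⟩, ⟨1, -1, 1, -1, -1, 1, -1, 1⟩, ⟨0, 0, 0, 0, 1, -1, 1, 1⟩⟩,
  ⟨⟨0, 2, 0, 0, 0, 0, 0, 0⟩, ⟨1, 1, -1, 1, 0, -2, 0, 0⟩, ⟨2, 0, 0, 0, 0, 0, 0, 0⟩⟩,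
  ⟨⟨0, -2, 0, 0, 0, 0, 0, 0⟩, ⟨-1, -1, 1, -1, 0, 2, 0, 0⟩, ⟨2, 0, 0, 0, 0, 0, 0, 0⟩⟩,
  ⟨⟨-2, 0, 0, 0, 0, 0, 0, 0⟩, ⟨-1, 1, -1, -1, 0, 0, 2, 0⟩, ⟨2, 0, 0, 0, 0, 0, 0, 0⟩⟩,
  ⟨⟨2, 0, 0, 0, 0, 0, 0, 0⟩, ⟨1, -1, 1, 1, 0, 0, -2, 0⟩, ⟨2, 0, 0, 0, 0, 0, 0, 0⟩⟩,
  ⟨⟨0, 0, 0, 2, 0, 0, 0, 0⟩, ⟨-1, -1, -1, 1, 2, 0, 0, 0⟩, ⟨2, 0, 0, 0, 0, 0, 0, 0⟩⟩,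
  ⟨⟨0, 0, 0, -2, 0, 0, 0, 0⟩, ⟨1, 1, 1, -1, -2, 0, 0, 0⟩, ⟨2, 0, 0, 0, 0, 0, 0, 0⟩⟩,
  ⟨⟨0, 0, 2, 0, 0, 0, 0, 0⟩, ⟨-1, 1, 1, 1, 0, 0, 0, -2⟩, ⟨2, 0, 0, 0, 0, 0, 0, 0⟩⟩,
  ⟨⟨0, 0, -2, 0, 0, 0, 0, 0⟩, ⟨1, -1, -1, -1, 0, 0, 0, 2⟩, ⟨2, 0, 0, 0, 0, 0, 0, 0⟩⟩,
  ⟨⟨2, 0, 0, 0, 0, 0, 0, 0⟩, ⟨1, 1, -1, -1, -1, -1, 1, 1⟩, ⟨0, 0, 0, 0, -1, -1, -1, 1⟩⟩,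
  ⟨⟨2, 0, 0, 0, 0, 0, 0, 0⟩, ⟨1, 1, -1, -1, -1, -1, 1, 1⟩, ⟨0, 0, 0, 0, 1, 1, 1, -1⟩⟩,
  ⟨⟨0, 0, 2, 0, 0, 0, 0, 0⟩, ⟨1, 1, 1, -1, 0, 0, -2, 0⟩, ⟨2, 0, 0, 0, 0, 0, 0, 0⟩⟩,
  ⟨⟨0, 0, -2, 0, 0, 0, 0, 0⟩, ⟨-1, -1, -1, 1, 0, 0, 2, 0⟩, ⟨2, 0, 0, 0, 0, 0, 0, 0⟩⟩,
  ⟨⟨0, 2, 0, 0, 0, 0, 0, 0⟩, ⟨-1, 1, -1, -1, 2, 0, 0, 0⟩, ⟨2, 0, 0, 0, 0, 0, 0, 0⟩⟩,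
  ⟨⟨0, -2, 0, 0, 0, 0, 0, 0⟩, ⟨1, -1, 1, 1, -2, 0, 0, 0⟩, ⟨2, 0, 0, 0, 0, 0, 0, 0⟩⟩,
  ⟨⟨-2, 0, 0, 0, 0, 0, 0, 0⟩, ⟨-1, -1, 1, -1, 0, 0, 0, 2⟩, ⟨2, 0, 0, 0, 0, 0, 0, 0⟩⟩,
  ⟨⟨2, 0, 0, 0, 0, 0, 0, 0⟩, ⟨1, 1, -1, 1, 0, 0, 0, -2⟩, ⟨2, 0, 0, 0, 0, 0, 0, 0⟩⟩,
  ⟨⟨0, 0, 0, 2, 0, 0, 0, 0⟩, ⟨-1, 1, 1, 1, 0, -2, 0, 0⟩, ⟨2, 0, 0, 0, 0, 0, 0, 0⟩⟩,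
  ⟨⟨0, 0, 0, -2, 0, 0, 0, 0⟩, ⟨1, -1, -1, -1, 0, 2, 0, 0⟩, ⟨2, 0, 0, 0, 0, 0, 0, 0⟩⟩,
  ⟨⟨0, 0, 0, 2, 0, 0, 0, 0⟩, ⟨1, -1, 1, 1, 0, 0, 0, -2⟩, ⟨2, 0, 0, 0, 0, 0, 0, 0⟩⟩,
  ⟨⟨0, 0, 0, -2, 0, 0, 0, 0⟩, ⟨-1, 1, -1, -1, 0, 0, 0, 2⟩, ⟨2, 0, 0, 0, 0, 0, 0, 0⟩⟩,
  ⟨⟨-2, 0, 0, 0, 0, 0, 0, 0⟩, ⟨-1, -1, -1, 1, 0, 2, 0, 0⟩, ⟨2, 0, 0, 0, 0, 0, 0, 0⟩⟩,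
  ⟨⟨2, 0, 0, 0, 0, 0, 0, 0⟩, ⟨1, 1, 1, -1, 0, -2, 0, 0⟩, ⟨2, 0, 0, 0, 0, 0, 0, 0⟩⟩,
  ⟨⟨0, 0, 2, 0, 0, 0, 0, 0⟩, ⟨-1, -1, 1, -1, 2, 0, 0, 0⟩, ⟨2, 0, 0, 0, 0, 0, 0, 0⟩⟩,
  ⟨⟨0, 0, -2, 0, 0, 0, 0, 0⟩, ⟨1, 1, -1, 1, -2, 0, 0, 0⟩, ⟨2, 0, 0, 0, 0, 0, 0, 0⟩⟩,
  ⟨⟨0, 2, 0, 0, 0, 0, 0, 0⟩, ⟨-1, 1, 1, 1, 0, 0, -2, 0⟩, ⟨2, 0, 0, 0, 0, 0, 0, 0⟩⟩,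
  ⟨⟨0, -2, 0, 0, 0, 0, 0, 0⟩, ⟨1, -1, -1, -1, 0, 0, 2, 0⟩, ⟨2, 0, 0, 0, 0, 0, 0, 0⟩⟩,
  ⟨⟨2, 0, 0, 0, 0, 0, 0, 0⟩, ⟨1, 1, 1, 1, -1, -1, -1, -1⟩, ⟨0, 0, 0, 0, -1, 1, 1, 1⟩⟩,
  ⟨⟨2, 0, 0, 0, 0, 0, 0, 0⟩, ⟨1, 1, 1, 1, -1, -1, -1, -1⟩, ⟨0, 0, 0, 0, 1, -1, -1, -1⟩⟩,
  ⟨⟨2, 0, 0, 0, 0, 0, 0, 0⟩, ⟨2, 0, 0, 0, 0, 0, 0, 0⟩, ⟨-1, -1, -1, 1, 0, 2, 0, 0⟩⟩,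
  ⟨⟨2, 0, 0, 0, 0, 0, 0, 0⟩, ⟨2, 0, 0, 0, 0, 0, 0, 0⟩, ⟨-1, -1, 1, -1, 0, 0, 0, 2⟩⟩,
  ⟨⟨2, 0, 0, 0, 0, 0, 0, 0⟩, ⟨2, 0, 0, 0, 0, 0, 0, 0⟩, ⟨-1, 1, -1, -1, 0, 0, 2, 0⟩⟩,
  ⟨⟨2, 0, 0, 0, 0, 0, 0, 0⟩, ⟨2, 0, 0, 0, 0, 0, 0, 0⟩, ⟨-1, 1, 1, 1, 2, 0, 0, 0⟩⟩,
  ⟨⟨2, 0, 0, 0, 0, 0, 0, 0⟩, ⟨2, 0, 0, 0, 0, 0, 0, 0⟩, ⟨1, -1, -1, -1, -2, 0, 0, 0⟩⟩,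
  ⟨⟨2, 0, 0, 0, 0, 0, 0, 0⟩, ⟨2, 0, 0, 0, 0, 0, 0, 0⟩, ⟨1, -1, 1, 1, 0, 0, -2, 0⟩⟩,
  ⟨⟨2, 0, 0, 0, 0, 0, 0, 0⟩, ⟨2, 0, 0, 0, 0, 0, 0, 0⟩, ⟨1, 1, -1, 1, 0, 0, 0, -2⟩⟩,
  ⟨⟨2, 0, 0, 0, 0, 0, 0, 0⟩, ⟨2, 0, 0, 0, 0, 0, 0, 0⟩, ⟨1, 1, 1, -1, 0, -2, 0, 0⟩⟩,
  ⟨⟨0, 0, 0, 0, -1, 1, -1, -1⟩, ⟨-1, 1, -1, 1, 1, -1, 1, -1⟩, ⟨2, 0, 0, 0, 0, 0, 0, 0⟩⟩,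
  ⟨⟨0, 0, 0, 0, 1, -1, 1, 1⟩, ⟨1, -1, 1, -1, -1, 1, -1, 1⟩, ⟨2, 0, 0, 0, 0, 0, 0, 0⟩⟩,
  ⟨⟨0, 0, 0, 0, -1, -1, -1, 1⟩, ⟨-1, -1, 1, 1, 1, 1, -1, -1⟩, ⟨2, 0, 0, 0, 0, 0, 0, 0⟩⟩,
  ⟨⟨0, 0, 0, 0, 1, 1, 1, -1⟩, ⟨1, 1, -1, -1, -1, -1, 1, 1⟩, ⟨2, 0, 0, 0, 0, 0, 0, 0⟩⟩,
  ⟨⟨0, 0, 0, 0, -1, -1, 1, -1⟩, ⟨-1, 1, 1, -1, 1, -1, -1, 1⟩, ⟨2, 0, 0, 0, 0, 0, 0, 0⟩⟩,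
  ⟨⟨0, 0, 0, 0, 1, 1, -1, 1⟩, ⟨1, -1, -1, 1, -1, 1, 1, -1⟩, ⟨2, 0, 0, 0, 0, 0, 0, 0⟩⟩,
  ⟨⟨0, 0, 0, 0, -1, 1, 1, 1⟩, ⟨1, 1, 1, 1, -1, -1, -1, -1⟩, ⟨2, 0, 0, 0, 0, 0, 0, 0⟩⟩,
  ⟨⟨0, 0, 0, 0, 1, -1, -1, -1⟩, ⟨-1, -1, -1, -1, 1, 1, 1, 1⟩, ⟨2, 0, 0, 0, 0, 0, 0, 0⟩⟩,
  ⟨⟨0, 0, 0, 0, -1, 1, 1, 1⟩, ⟨2, 0, 0, 0, 0, 0, 0, 0⟩, ⟨1, 1, 1, 1, -1, -1, -1, -1⟩⟩,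
  ⟨⟨0, 0, 0, 0, -1, 1, 1, 1⟩, ⟨2, 0, 0, 0, 0, 0, 0, 0⟩, ⟨-1, -1, -1, -1, 1, 1, 1, 1⟩⟩,
  ⟨⟨0, 0, 0, 0, -1, 1, -1, -1⟩, ⟨2, 0, 0, 0, 0, 0, 0, 0⟩, ⟨-1, 1, -1, 1, 1, -1, 1, -1⟩⟩,
  ⟨⟨0, 0, 0, 0, -1, 1, -1, -1⟩, ⟨2, 0, 0, 0, 0, 0, 0, 0⟩, ⟨1, -1, 1, -1, -1, 1, -1, 1⟩⟩,
  ⟨⟨0, 0, 0, 0, -1, -1, 1, -1⟩, ⟨2, 0, 0, 0, 0, 0, 0, 0⟩, ⟨-1, 1, 1, -1, 1, -1, -1, 1⟩⟩,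
  ⟨⟨0, 0, 0, 0, -1, -1, 1, -1⟩, ⟨2, 0, 0, 0, 0, 0, 0, 0⟩, ⟨1, -1, -1, 1, -1, 1, 1, -1⟩⟩,
  ⟨⟨0, 0, 0, 0, -1, -1, -1, 1⟩, ⟨2, 0, 0, 0, 0, 0, 0, 0⟩, ⟨-1, -1, 1, 1, 1, 1, -1, -1⟩⟩,
  ⟨⟨0, 0, 0, 0, -1, -1, -1, 1⟩, ⟨2, 0, 0, 0, 0, 0, 0, 0⟩, ⟨1, 1, -1, -1, -1, -1, 1, 1⟩⟩,
  ⟨⟨0, 0, 0, 0, 1, 1, 1, -1⟩, ⟨2, 0, 0, 0, 0, 0, 0, 0⟩, ⟨1, 1, -1, -1, -1, -1, 1, 1⟩⟩,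
  ⟨⟨0, 0, 0, 0, 1, 1, 1, -1⟩, ⟨2, 0, 0, 0, 0, 0, 0, 0⟩, ⟨-1, -1, 1, 1, 1, 1, -1, -1⟩⟩,
  ⟨⟨0, 0, 0, 0, 1, 1, -1, 1⟩, ⟨2, 0, 0, 0, 0, 0, 0, 0⟩, ⟨1, -1, -1, 1, -1, 1, 1, -1⟩⟩,
  ⟨⟨0, 0, 0, 0, 1, 1, -1, 1⟩, ⟨2, 0, 0, 0, 0, 0, 0, 0⟩, ⟨-1, 1, 1, -1, 1, -1, -1, 1⟩⟩,
  ⟨⟨0, 0, 0, 0, 1, -1, 1, 1⟩, ⟨2, 0, 0, 0, 0, 0, 0, 0⟩, ⟨1, -1, 1, -1, -1, 1, -1, 1⟩⟩,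
  ⟨⟨0, 0, 0, 0, 1, -1, 1, 1⟩, ⟨2, 0, 0, 0, 0, 0, 0, 0⟩, ⟨-1, 1, -1, 1, 1, -1, 1, -1⟩⟩,
  ⟨⟨0, 0, 0, 0, 1, -1, -1, -1⟩, ⟨2, 0, 0, 0, 0, 0, 0, 0⟩, ⟨-1, -1, -1, -1, 1, 1, 1, 1⟩⟩,
  ⟨⟨0, 0, 0, 0, 1, -1, -1, -1⟩, ⟨2, 0, 0, 0, 0, 0, 0, 0⟩, ⟨1, 1, 1, 1, -1, -1, -1, -1⟩⟩,
  ⟨⟨0, 0, 0, 0, -1, 1, 1, 1⟩, ⟨-1, -1, -1, -1, 1, 1, 1, 1⟩, ⟨2, 0, 0, 0, 0, 0, 0, 0⟩⟩,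
  ⟨⟨0, 0, 0, 0, 1, -1, -1, -1⟩, ⟨1, 1, 1, 1, -1, -1, -1, -1⟩, ⟨2, 0, 0, 0, 0, 0, 0, 0⟩⟩,
  ⟨⟨0, 0, 0, 0, -1, -1, 1, -1⟩, ⟨1, -1, -1, 1, -1, 1, 1, -1⟩, ⟨2, 0, 0, 0, 0, 0, 0, 0⟩⟩,
  ⟨⟨0, 0, 0, 0, 1, 1, -1, 1⟩, ⟨-1, 1, 1, -1, 1, -1, -1, 1⟩, ⟨2, 0, 0, 0, 0, 0, 0, 0⟩⟩,
  ⟨⟨0, 0, 0, 0, -1, -1, -1, 1⟩, ⟨1, 1, -1, -1, -1, -1, 1, 1⟩, ⟨2, 0, 0, 0, 0, 0, 0, 0⟩⟩,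
  ⟨⟨0, 0, 0, 0, 1, 1, 1, -1⟩, ⟨-1, -1, 1, 1, 1, 1, -1, -1⟩, ⟨2, 0, 0, 0, 0, 0, 0, 0⟩⟩,
  ⟨⟨0, 0, 0, 0, -1, 1, -1, -1⟩, ⟨1, -1, 1, -1, -1, 1, -1, 1⟩, ⟨2, 0, 0, 0, 0, 0, 0, 0⟩⟩,
  ⟨⟨0, 0, 0, 0, 1, -1, 1, 1⟩, ⟨-1, 1, -1, 1, 1, -1, 1, -1⟩, ⟨2, 0, 0, 0, 0, 0, 0, 0⟩⟩,
  ⟨⟨-1, -1, -1, -1, 1, 1, 1, 1⟩, ⟨0, 0, 0, 0, 1, -1, -1, -1⟩, ⟨2, 0, 0, 0, 0, 0, 0, 0⟩⟩,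
  ⟨⟨1, 1, 1, 1, -1, -1, -1, -1⟩, ⟨0, 0, 0, 0, -1, 1, 1, 1⟩, ⟨2, 0, 0, 0, 0, 0, 0, 0⟩⟩,
  ⟨⟨-1, 1, 1, -1, 1, -1, -1, 1⟩, ⟨2, 0, 0, 0, 0, 0, 0, 0⟩, ⟨0, 0, 0, 0, -1, -1, 1, -1⟩⟩,
  ⟨⟨-1, 1, 1, -1, 1, -1, -1, 1⟩, ⟨2, 0, 0, 0, 0, 0, 0, 0⟩, ⟨0, 0, 0, 0, 1, 1, -1, 1⟩⟩,
  ⟨⟨-1, 1, -1, 1, 1, -1, 1, -1⟩, ⟨2, 0, 0, 0, 0, 0, 0, 0⟩, ⟨0, 0, 0, 0, -1, 1, -1, -1⟩⟩,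
  ⟨⟨-1, 1, -1, 1, 1, -1, 1, -1⟩, ⟨2, 0, 0, 0, 0, 0, 0, 0⟩, ⟨0, 0, 0, 0, 1, -1, 1, 1⟩⟩,
  ⟨⟨-1, 1, 1, -1, 1, -1, -1, 1⟩, ⟨0, 0, 0, 0, -1, -1, 1, -1⟩, ⟨2, 0, 0, 0, 0, 0, 0, 0⟩⟩,
  ⟨⟨1, -1, -1, 1, -1, 1, 1, -1⟩, ⟨0, 0, 0, 0, 1, 1, -1, 1⟩, ⟨2, 0, 0, 0, 0, 0, 0, 0⟩⟩,
  ⟨⟨-1, -1, 1, 1, 1, 1, -1, -1⟩, ⟨2, 0, 0, 0, 0, 0, 0, 0⟩, ⟨0, 0, 0, 0, -1, -1, -1, 1⟩⟩,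
  ⟨⟨-1, -1, 1, 1, 1, 1, -1, -1⟩, ⟨2, 0, 0, 0, 0, 0, 0, 0⟩, ⟨0, 0, 0, 0, 1, 1, 1, -1⟩⟩,
  ⟨⟨-1, -1, 1, 1, 1, 1, -1, -1⟩, ⟨0, 0, 0, 0, -1, -1, -1, 1⟩, ⟨2, 0, 0, 0, 0, 0, 0, 0⟩⟩,
  ⟨⟨1, 1, -1, -1, -1, -1, 1, 1⟩, ⟨0, 0, 0, 0, 1, 1, 1, -1⟩, ⟨2, 0, 0, 0, 0, 0, 0, 0⟩⟩,
  ⟨⟨-1, 1, -1, 1, 1, -1, 1, -1⟩, ⟨0, 0, 0, 0, -1, 1, -1, -1⟩, ⟨2, 0, 0, 0, 0, 0, 0, 0⟩⟩,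
  ⟨⟨1, -1, 1, -1, -1, 1, -1, 1⟩, ⟨0, 0, 0, 0, 1, -1, 1, 1⟩, ⟨2, 0, 0, 0, 0, 0, 0, 0⟩⟩,
  ⟨⟨-1, -1, -1, -1, 1, 1, 1, 1⟩, ⟨2, 0, 0, 0, 0, 0, 0, 0⟩, ⟨0, 0, 0, 0, 1, -1, -1, -1⟩⟩,
  ⟨⟨-1, -1, -1, -1, 1, 1, 1, 1⟩, ⟨2, 0, 0, 0, 0, 0, 0, 0⟩, ⟨0, 0, 0, 0, -1, 1, 1, 1⟩⟩,
  ⟨⟨1, 1, 1, 1, -1, -1, -1, -1⟩, ⟨2, 0, 0, 0, 0, 0, 0, 0⟩, ⟨0, 0, 0, 0, -1, 1, 1, 1⟩⟩,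
  ⟨⟨1, 1, 1, 1, -1, -1, -1, -1⟩, ⟨2, 0, 0, 0, 0, 0, 0, 0⟩, ⟨0, 0, 0, 0, 1, -1, -1, -1⟩⟩,
  ⟨⟨-1, 1, -1, 1, 1, -1, 1, -1⟩, ⟨0, 0, 0, 0, 1, -1, 1, 1⟩, ⟨2, 0, 0, 0, 0, 0, 0, 0⟩⟩,
  ⟨⟨1, -1, 1, -1, -1, 1, -1, 1⟩, ⟨0, 0, 0, 0, -1, 1, -1, -1⟩, ⟨2, 0, 0, 0, 0, 0, 0, 0⟩⟩,
  ⟨⟨-1, -1, 1, 1, 1, 1, -1, -1⟩, ⟨0, 0, 0, 0, 1, 1, 1, -1⟩, ⟨2, 0, 0, 0, 0, 0, 0, 0⟩⟩,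
  ⟨⟨1, 1, -1, -1, -1, -1, 1, 1⟩, ⟨0, 0, 0, 0, -1, -1, -1, 1⟩, ⟨2, 0, 0, 0, 0, 0, 0, 0⟩⟩,
  ⟨⟨1, 1, -1, -1, -1, -1, 1, 1⟩, ⟨2, 0, 0, 0, 0, 0, 0, 0⟩, ⟨0, 0, 0, 0, 1, 1, 1, -1⟩⟩,
  ⟨⟨1, 1, -1, -1, -1, -1, 1, 1⟩, ⟨2, 0, 0, 0, 0, 0, 0, 0⟩, ⟨0, 0, 0, 0, -1, -1, -1, 1⟩⟩,
  ⟨⟨-1, 1, 1, -1, 1, -1, -1, 1⟩, ⟨0, 0, 0, 0, 1, 1, -1, 1⟩, ⟨2, 0, 0, 0, 0, 0, 0, 0⟩⟩,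
  ⟨⟨1, -1, -1, 1, -1, 1, 1, -1⟩, ⟨0, 0, 0, 0, -1, -1, 1, -1⟩, ⟨2, 0, 0, 0, 0, 0, 0, 0⟩⟩,
  ⟨⟨1, -1, 1, -1, -1, 1, -1, 1⟩, ⟨2, 0, 0, 0, 0, 0, 0, 0⟩, ⟨0, 0, 0, 0, 1, -1, 1, 1⟩⟩,
  ⟨⟨1, -1, 1, -1, -1, 1, -1, 1⟩, ⟨2, 0, 0, 0, 0, 0, 0, 0⟩, ⟨0, 0, 0, 0, -1, 1, -1, -1⟩⟩,
  ⟨⟨1, -1, -1, 1, -1, 1, 1, -1⟩, ⟨2, 0, 0, 0, 0, 0, 0, 0⟩, ⟨0, 0, 0, 0, 1, 1, -1, 1⟩⟩,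
  ⟨⟨1, -1, -1, 1, -1, 1, 1, -1⟩, ⟨2, 0, 0, 0, 0, 0, 0, 0⟩, ⟨0, 0, 0, 0, -1, -1, 1, -1⟩⟩,
  ⟨⟨-1, -1, -1, -1, 1, 1, 1, 1⟩, ⟨0, 0, 0, 0, -1, 1, 1, 1⟩, ⟨2, 0, 0, 0, 0, 0, 0, 0⟩⟩,
  ⟨⟨1, 1, 1, 1, -1, -1, -1, -1⟩, ⟨0, 0, 0, 0, 1, -1, -1, -1⟩, ⟨2, 0, 0, 0, 0, 0, 0, 0⟩⟩,
  ⟨⟨1, 1, 1, 1, -2, 0, 0, 0⟩, ⟨-1, -1, -1, -1, 2, 0, 0, 0⟩, ⟨0, 0, 0, 0, 0, 0, 0, 0⟩⟩,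
  ⟨⟨-1, 1, -1, -1, 0, -2, 0, 0⟩, ⟨0, 0, 2, 0, 0, 0, 0, 0⟩, ⟨2, 0, 0, 0, 0, 0, 0, 0⟩⟩,
  ⟨⟨-1, 1, 1, 1, 0, 0, 0, -2⟩, ⟨2, 0, 0, 0, 0, 0, 0, 0⟩, ⟨0, 0, 2, 0, 0, 0, 0, 0⟩⟩,
  ⟨⟨-1, -1, -1, 1, 0, 0, 0, -2⟩, ⟨0, 2, 0, 0, 0, 0, 0, 0⟩, ⟨2, 0, 0, 0, 0, 0, 0, 0⟩⟩,
  ⟨⟨-1, 1, 1, 1, 0, 0, -2, 0⟩, ⟨2, 0, 0, 0, 0, 0, 0, 0⟩, ⟨0, 2, 0, 0, 0, 0, 0, 0⟩⟩,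
  ⟨⟨-1, -1, 1, -1, 0, 0, -2, 0⟩, ⟨0, 0, 0, 2, 0, 0, 0, 0⟩, ⟨2, 0, 0, 0, 0, 0, 0, 0⟩⟩,
  ⟨⟨-1, 1, 1, 1, 0, -2, 0, 0⟩, ⟨2, 0, 0, 0, 0, 0, 0, 0⟩, ⟨0, 0, 0, 2, 0, 0, 0, 0⟩⟩,
  ⟨⟨-1, 1, 1, 1, 2, 0, 0, 0⟩, ⟨2, 0, 0, 0, 0, 0, 0, 0⟩, ⟨2, 0, 0, 0, 0, 0, 0, 0⟩⟩,
  ⟨⟨-1, 1, 1, 1, 2, 0, 0, 0⟩, ⟨2, 0, 0, 0, 0, 0, 0, 0⟩, ⟨-2, 0, 0, 0, 0, 0, 0, 0⟩⟩,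
  ⟨⟨-1, 1, -1, -1, 0, 0, 2, 0⟩, ⟨2, 0, 0, 0, 0, 0, 0, 0⟩, ⟨2, 0, 0, 0, 0, 0, 0, 0⟩⟩,
  ⟨⟨-1, 1, -1, -1, 0, 0, 2, 0⟩, ⟨2, 0, 0, 0, 0, 0, 0, 0⟩, ⟨-2, 0, 0, 0, 0, 0, 0, 0⟩⟩,
  ⟨⟨-1, -1, -1, 1, 2, 0, 0, 0⟩, ⟨0, 0, 0, -2, 0, 0, 0, 0⟩, ⟨2, 0, 0, 0, 0, 0, 0, 0⟩⟩,
  ⟨⟨-1, 1, -1, -1, 0, 0, 0, 2⟩, ⟨2, 0, 0, 0, 0, 0, 0, 0⟩, ⟨0, 0, 0, -2, 0, 0, 0, 0⟩⟩,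
  ⟨⟨-1, 1, -1, -1, 0, -2, 0, 0⟩, ⟨2, 0, 0, 0, 0, 0, 0, 0⟩, ⟨0, 0, 2, 0, 0, 0, 0, 0⟩⟩,
  ⟨⟨-1, 1, -1, -1, 0, -2, 0, 0⟩, ⟨2, 0, 0, 0, 0, 0, 0, 0⟩, ⟨0, 0, -2, 0, 0, 0, 0, 0⟩⟩,
  ⟨⟨-1, -1, 1, -1, 0, 2, 0, 0⟩, ⟨0, 2, 0, 0, 0, 0, 0, 0⟩, ⟨2, 0, 0, 0, 0, 0, 0, 0⟩⟩,
  ⟨⟨-1, 1, -1, -1, 2, 0, 0, 0⟩, ⟨2, 0, 0, 0, 0, 0, 0, 0⟩, ⟨0, 2, 0, 0, 0, 0, 0, 0⟩⟩,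
  ⟨⟨-1, -1, 1, -1, 0, 2, 0, 0⟩, ⟨2, 0, 0, 0, 0, 0, 0, 0⟩, ⟨0, 2, 0, 0, 0, 0, 0, 0⟩⟩,
  ⟨⟨-1, -1, 1, -1, 0, 2, 0, 0⟩, ⟨2, 0, 0, 0, 0, 0, 0, 0⟩, ⟨0, -2, 0, 0, 0, 0, 0, 0⟩⟩,
  ⟨⟨-1, -1, 1, -1, 0, 0, 0, 2⟩, ⟨2, 0, 0, 0, 0, 0, 0, 0⟩, ⟨2, 0, 0, 0, 0, 0, 0, 0⟩⟩,
  ⟨⟨-1, -1, 1, -1, 0, 0, 0, 2⟩, ⟨2, 0, 0, 0, 0, 0, 0, 0⟩, ⟨-2, 0, 0, 0, 0, 0, 0, 0⟩⟩,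
  ⟨⟨-1, -1, 1, -1, 0, 0, -2, 0⟩, ⟨2, 0, 0, 0, 0, 0, 0, 0⟩, ⟨0, 0, 0, 2, 0, 0, 0, 0⟩⟩,
  ⟨⟨-1, -1, 1, -1, 0, 0, -2, 0⟩, ⟨2, 0, 0, 0, 0, 0, 0, 0⟩, ⟨0, 0, 0, -2, 0, 0, 0, 0⟩⟩,
  ⟨⟨-1, -1, -1, 1, 0, 0, 2, 0⟩, ⟨0, 0, 2, 0, 0, 0, 0, 0⟩, ⟨2, 0, 0, 0, 0, 0, 0, 0⟩⟩,
  ⟨⟨-1, -1, 1, -1, 2, 0, 0, 0⟩, ⟨2, 0, 0, 0, 0, 0, 0, 0⟩, ⟨0, 0, 2, 0, 0, 0, 0, 0⟩⟩,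
  ⟨⟨-1, -1, -1, 1, 0, 2, 0, 0⟩, ⟨2, 0, 0, 0, 0, 0, 0, 0⟩, ⟨2, 0, 0, 0, 0, 0, 0, 0⟩⟩,
  ⟨⟨-1, -1, -1, 1, 0, 2, 0, 0⟩, ⟨2, 0, 0, 0, 0, 0, 0, 0⟩, ⟨-2, 0, 0, 0, 0, 0, 0, 0⟩⟩,
  ⟨⟨-1, -1, -1, 1, 0, 0, 2, 0⟩, ⟨2, 0, 0, 0, 0, 0, 0, 0⟩, ⟨0, 0, 2, 0, 0, 0, 0, 0⟩⟩,
  ⟨⟨-1, -1, -1, 1, 0, 0, 2, 0⟩, ⟨2, 0, 0, 0, 0, 0, 0, 0⟩, ⟨0, 0, -2, 0, 0, 0, 0, 0⟩⟩,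
  ⟨⟨-1, -1, -1, 1, 0, 0, 0, -2⟩, ⟨2, 0, 0, 0, 0, 0, 0, 0⟩, ⟨0, 2, 0, 0, 0, 0, 0, 0⟩⟩,
  ⟨⟨-1, -1, -1, 1, 0, 0, 0, -2⟩, ⟨2, 0, 0, 0, 0, 0, 0, 0⟩, ⟨0, -2, 0, 0, 0, 0, 0, 0⟩⟩,
  ⟨⟨-1, -1, -1, 1, 2, 0, 0, 0⟩, ⟨2, 0, 0, 0, 0, 0, 0, 0⟩, ⟨0, 0, 0, -2, 0, 0, 0, 0⟩⟩,
  ⟨⟨-1, -1, -1, 1, 2, 0, 0, 0⟩, ⟨2, 0, 0, 0, 0, 0, 0, 0⟩, ⟨0, 0, 0, 2, 0, 0, 0, 0⟩⟩,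
  ⟨⟨1, 1, 1, 1, -2, 0, 0, 0⟩, ⟨1, -1, -1, 1, 0, 2, 0, 0⟩, ⟨0, 0, 0, 0, 0, 0, 0, 0⟩⟩,
  ⟨⟨1, 1, 1, 1, -2, 0, 0, 0⟩, ⟨1, 1, -1, -1, 0, 0, 2, 0⟩, ⟨0, 0, 0, 0, 0, 0, 0, 0⟩⟩,
  ⟨⟨1, 1, 1, 1, -2, 0, 0, 0⟩, ⟨1, -1, 1, -1, 0, 0, 0, 2⟩, ⟨0, 0, 0, 0, 0, 0, 0, 0⟩⟩,
  ⟨⟨1, 1, 1, 1, -2, 0, 0, 0⟩, ⟨0, 0, 0, 0, 0, 0, 0, 0⟩, ⟨-1, -1, -1, -1, 2, 0, 0, 0⟩⟩,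
  ⟨⟨1, 1, 1, 1, -2, 0, 0, 0⟩, ⟨0, 0, 0, 0, 0, 0, 0, 0⟩, ⟨1, -1, -1, 1, 0, 2, 0, 0⟩⟩,
  ⟨⟨1, 1, 1, 1, -2, 0, 0, 0⟩, ⟨0, 0, 0, 0, 0, 0, 0, 0⟩, ⟨1, 1, -1, -1, 0, 0, 2, 0⟩⟩,
  ⟨⟨1, 1, 1, 1, -2, 0, 0, 0⟩, ⟨0, 0, 0, 0, 0, 0, 0, 0⟩, ⟨1, -1, 1, -1, 0, 0, 0, 2⟩⟩,
  ⟨⟨1, 1, 1, 1, -2, 0, 0, 0⟩, ⟨0, 0, 0, 0, 0, 0, 0, 0⟩, ⟨-1, 1, -1, 1, 0, 0, 0, -2⟩⟩,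
  ⟨⟨1, 1, 1, 1, -2, 0, 0, 0⟩, ⟨0, 0, 0, 0, 0, 0, 0, 0⟩, ⟨-1, -1, 1, 1, 0, 0, -2, 0⟩⟩,
  ⟨⟨1, 1, 1, 1, -2, 0, 0, 0⟩, ⟨0, 0, 0, 0, 0, 0, 0, 0⟩, ⟨-1, 1, 1, -1, 0, -2, 0, 0⟩⟩,
  ⟨⟨1, 1, 1, 1, -2, 0, 0, 0⟩, ⟨0, 0, 0, 0, 0, 0, 0, 0⟩, ⟨1, 1, 1, 1, -2, 0, 0, 0⟩⟩,
  ⟨⟨1, 1, 1, 1, -2, 0, 0, 0⟩, ⟨-1, 1, -1, 1, 0, 0, 0, -2⟩, ⟨0, 0, 0, 0, 0, 0, 0, 0⟩⟩,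
  ⟨⟨1, 1, 1, 1, -2, 0, 0, 0⟩, ⟨-1, -1, 1, 1, 0, 0, -2, 0⟩, ⟨0, 0, 0, 0, 0, 0, 0, 0⟩⟩,
  ⟨⟨1, 1, 1, 1, -2, 0, 0, 0⟩, ⟨-1, 1, 1, -1, 0, -2, 0, 0⟩, ⟨0, 0, 0, 0, 0, 0, 0, 0⟩⟩,
  ⟨⟨-1, 1, -1, -1, 0, 0, 0, 2⟩, ⟨0, 0, 0, -2, 0, 0, 0, 0⟩, ⟨2, 0, 0, 0, 0, 0, 0, 0⟩⟩,
  ⟨⟨1, -1, 1, 1, 0, 0, 0, -2⟩, ⟨0, 0, 0, 2, 0, 0, 0, 0⟩, ⟨2, 0, 0, 0, 0, 0, 0, 0⟩⟩,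
  ⟨⟨-1, 1, 1, 1, 0, 0, -2, 0⟩, ⟨0, 2, 0, 0, 0, 0, 0, 0⟩, ⟨2, 0, 0, 0, 0, 0, 0, 0⟩⟩,
  ⟨⟨1, -1, -1, -1, 0, 0, 2, 0⟩, ⟨0, -2, 0, 0, 0, 0, 0, 0⟩, ⟨2, 0, 0, 0, 0, 0, 0, 0⟩⟩,
  ⟨⟨-1, -1, 1, -1, 2, 0, 0, 0⟩, ⟨0, 0, 2, 0, 0, 0, 0, 0⟩, ⟨2, 0, 0, 0, 0, 0, 0, 0⟩⟩,
  ⟨⟨1, 1, -1, 1, -2, 0, 0, 0⟩, ⟨0, 0, -2, 0, 0, 0, 0, 0⟩, ⟨2, 0, 0, 0, 0, 0, 0, 0⟩⟩,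
  ⟨⟨-1, -1, -1, 1, 0, 2, 0, 0⟩, ⟨-2, 0, 0, 0, 0, 0, 0, 0⟩, ⟨2, 0, 0, 0, 0, 0, 0, 0⟩⟩,
  ⟨⟨1, 1, 1, -1, 0, -2, 0, 0⟩, ⟨2, 0, 0, 0, 0, 0, 0, 0⟩, ⟨2, 0, 0, 0, 0, 0, 0, 0⟩⟩,
  ⟨⟨-1, -1, -1, 1, 0, 0, 2, 0⟩, ⟨0, 0, -2, 0, 0, 0, 0, 0⟩, ⟨2, 0, 0, 0, 0, 0, 0, 0⟩⟩,
  ⟨⟨1, 1, -1, 1, -2, 0, 0, 0⟩, ⟨2, 0, 0, 0, 0, 0, 0, 0⟩, ⟨0, 0, -2, 0, 0, 0, 0, 0⟩⟩,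
  ⟨⟨-1, 1, 1, 1, 0, -2, 0, 0⟩, ⟨0, 0, 0, 2, 0, 0, 0, 0⟩, ⟨2, 0, 0, 0, 0, 0, 0, 0⟩⟩,
  ⟨⟨1, -1, -1, -1, 0, 2, 0, 0⟩, ⟨0, 0, 0, -2, 0, 0, 0, 0⟩, ⟨2, 0, 0, 0, 0, 0, 0, 0⟩⟩,
  ⟨⟨-1, -1, 1, -1, 0, 0, 0, 2⟩, ⟨-2, 0, 0, 0, 0, 0, 0, 0⟩, ⟨2, 0, 0, 0, 0, 0, 0, 0⟩⟩,
  ⟨⟨1, 1, -1, 1, 0, 0, 0, -2⟩, ⟨2, 0, 0, 0, 0, 0, 0, 0⟩, ⟨2, 0, 0, 0, 0, 0, 0, 0⟩⟩,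
  ⟨⟨-1, 1, -1, -1, 2, 0, 0, 0⟩, ⟨0, 2, 0, 0, 0, 0, 0, 0⟩, ⟨2, 0, 0, 0, 0, 0, 0, 0⟩⟩,
  ⟨⟨1, -1, 1, 1, -2, 0, 0, 0⟩, ⟨0, -2, 0, 0, 0, 0, 0, 0⟩, ⟨2, 0, 0, 0, 0, 0, 0, 0⟩⟩,
  ⟨⟨-1, -1, 1, -1, 0, 2, 0, 0⟩, ⟨0, -2, 0, 0, 0, 0, 0, 0⟩, ⟨2, 0, 0, 0, 0, 0, 0, 0⟩⟩,
  ⟨⟨1, -1, 1, 1, -2, 0, 0, 0⟩, ⟨2, 0, 0, 0, 0, 0, 0, 0⟩, ⟨0, -2, 0, 0, 0, 0, 0, 0⟩⟩,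
  ⟨⟨-1, 1, 1, 1, 0, 0, 0, -2⟩, ⟨0, 0, 2, 0, 0, 0, 0, 0⟩, ⟨2, 0, 0, 0, 0, 0, 0, 0⟩⟩,
  ⟨⟨1, -1, -1, -1, 0, 0, 0, 2⟩, ⟨0, 0, -2, 0, 0, 0, 0, 0⟩, ⟨2, 0, 0, 0, 0, 0, 0, 0⟩⟩,
  ⟨⟨-1, -1, -1, 1, 2, 0, 0, 0⟩, ⟨0, 0, 0, 2, 0, 0, 0, 0⟩, ⟨2, 0, 0, 0, 0, 0, 0, 0⟩⟩,
  ⟨⟨1, -1, 1, 1, 0, 0, 0, -2⟩, ⟨2, 0, 0, 0, 0, 0, 0, 0⟩, ⟨0, 0, 0, 2, 0, 0, 0, 0⟩⟩,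
  ⟨⟨-1, 1, -1, -1, 0, 0, 2, 0⟩, ⟨-2, 0, 0, 0, 0, 0, 0, 0⟩, ⟨2, 0, 0, 0, 0, 0, 0, 0⟩⟩,
  ⟨⟨1, -1, 1, 1, 0, 0, -2, 0⟩, ⟨2, 0, 0, 0, 0, 0, 0, 0⟩, ⟨2, 0, 0, 0, 0, 0, 0, 0⟩⟩,
  ⟨⟨-1, 1, 1, 1, 2, 0, 0, 0⟩, ⟨-2, 0, 0, 0, 0, 0, 0, 0⟩, ⟨2, 0, 0, 0, 0, 0, 0, 0⟩⟩,
  ⟨⟨1, -1, -1, -1, -2, 0, 0, 0⟩, ⟨2, 0, 0, 0, 0, 0, 0, 0⟩, ⟨2, 0, 0, 0, 0, 0, 0, 0⟩⟩,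
  ⟨⟨-1, -1, 1, -1, 0, 0, -2, 0⟩, ⟨0, 0, 0, -2, 0, 0, 0, 0⟩, ⟨2, 0, 0, 0, 0, 0, 0, 0⟩⟩,
  ⟨⟨1, -1, -1, -1, 0, 2, 0, 0⟩, ⟨2, 0, 0, 0, 0, 0, 0, 0⟩, ⟨0, 0, 0, -2, 0, 0, 0, 0⟩⟩,
  ⟨⟨-1, -1, -1, 1, 0, 0, 0, -2⟩, ⟨0, -2, 0, 0, 0, 0, 0, 0⟩, ⟨2, 0, 0, 0, 0, 0, 0, 0⟩⟩,
  ⟨⟨1, -1, -1, -1, 0, 0, 2, 0⟩, ⟨2, 0, 0, 0, 0, 0, 0, 0⟩, ⟨0, -2, 0, 0, 0, 0, 0, 0⟩⟩,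
  ⟨⟨-1, 1, -1, -1, 0, -2, 0, 0⟩, ⟨0, 0, -2, 0, 0, 0, 0, 0⟩, ⟨2, 0, 0, 0, 0, 0, 0, 0⟩⟩,
  ⟨⟨1, -1, -1, -1, 0, 0, 0, 2⟩, ⟨2, 0, 0, 0, 0, 0, 0, 0⟩, ⟨0, 0, -2, 0, 0, 0, 0, 0⟩⟩,
  ⟨⟨1, 1, 1, 1, -2, 0, 0, 0⟩, ⟨1, 1, 1, 1, -2, 0, 0, 0⟩, ⟨0, 0, 0, 0, 0, 0, 0, 0⟩⟩,
  ⟨⟨4, 0, 0, 0, 0, 0, 0, 0⟩, ⟨0, 0, 0, 0, 0, 0, 0, 0⟩, ⟨0, 0, 0, 0, 0, 0, 0, 0⟩⟩]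
noncomputable def ks0 : List (List Q) := [[⟨0, 0, 0, 0, 0, 0, 0, 0⟩, ⟨0, 0, 0, 0, 0, 0, 0, 0⟩, ⟨0, 0, 0, 0, 0, 0, 0, 0⟩, ⟨0, 0, 0, 0, 0, 0, 0, 0⟩, ⟨0, 0, 0, 0, 0, 0, 0, 0⟩, ⟨0, 0, 0, 0, 0, 0, 0, 0⟩, ⟨0, 0, 0, 0, 0, 0, 0, 0⟩, ⟨0, 0, 0, 0, 0, 0, 0, 0⟩, ⟨16, 0, 0, 0, 0, 0, 0, 0⟩],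
  [⟨0, 0, 0, 0, 0, 0, 0, 0⟩, ⟨0, 0, 0, 0, 0, 0, 0, 0⟩, ⟨0, 0, 0, 0, 0, 0, 0, 0⟩, ⟨0, 0, 0, 0, 0, 0, 0, 0⟩, ⟨8, 0, 0, 0, 0, 0, 0, 0⟩, ⟨-8, 0, 0, 0, 0, 0, 0, 0⟩, ⟨0, 0, 0, 0, 0, 0, 0, 0⟩, ⟨-8, 0, 0, 0, 0, 0, 0, 0⟩, ⟨8, 0, 0, 0, 0, 0, 0, 0⟩],
  [⟨0, 0, 0, 0, 0, 0, 0, 0⟩, ⟨0, 0, 0, 0, 0, 0, 0, 0⟩, ⟨0, 0, 0, 0, 0, 0, 0, 0⟩, ⟨0, 0, 0, 0, 0, 0, 0, 0⟩, ⟨8, 0, 0, 0, 0, 0, 0, 0⟩, ⟨0, -8, 0, 0, 0, 0, 0, 0⟩, ⟨0, 0, 0, 0, 0, 0, 0, 0⟩, ⟨0, 8, 0, 0, 0, 0, 0, 0⟩, ⟨8, 0, 0, 0, 0, 0, 0, 0⟩],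
  [⟨0, 0, 0, 0, 0, 0, 0, 0⟩, ⟨0, 0, 0, 0, 0, 0, 0, 0⟩, ⟨0, 0, 0, 0, 0, 0, 0, 0⟩, ⟨0, 0, 0, 0, 0, 0, 0, 0⟩, ⟨8, 0, 0, 0, 0, 0, 0, 0⟩, ⟨0, 0, -8, 0, 0, 0, 0, 0⟩, ⟨0, 0, 0, 0, 0, 0, 0, 0⟩, ⟨0, 0, 8, 0, 0, 0, 0, 0⟩, ⟨8, 0, 0, 0, 0, 0, 0, 0⟩],
  [⟨0, 0, 0, 0, 0, 0, 0, 0⟩, ⟨0, 0, 0, 0, 0, 0, 0, 0⟩, ⟨0, 0, 0, 0, 0, 0, 0, 0⟩, ⟨0, 0, 0, 0, 0, 0, 0, 0⟩, ⟨8, 0, 0, 0, 0, 0, 0, 0⟩, ⟨0, 0, 0, -8, 0, 0, 0, 0⟩, ⟨0, 0, 0, 0, 0, 0, 0, 0⟩, ⟨0, 0, 0, 8, 0, 0, 0, 0⟩, ⟨8, 0, 0, 0, 0, 0, 0, 0⟩],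
  [⟨0, 0, 0, 0, 0, 0, 0, 0⟩, ⟨0, 0, 0, 0, 0, 0, 0, 0⟩, ⟨0, 0, 0, 0, 0, 0, 0, 0⟩, ⟨0, 0, 0, 0, 0, 0, 0, 0⟩, ⟨8, 0, 0, 0, 0, 0, 0, 0⟩, ⟨0, 0, 0, 8, 0, 0, 0, 0⟩, ⟨0, 0, 0, 0, 0, 0, 0, 0⟩, ⟨0, 0, 0, -8, 0, 0, 0, 0⟩, ⟨8, 0, 0, 0, 0, 0, 0, 0⟩],
  [⟨0, 0, 0, 0, 0, 0, 0, 0⟩, ⟨0, 0, 0, 0, 0, 0, 0, 0⟩, ⟨0, 0, 0, 0, 0, 0, 0, 0⟩, ⟨0, 0, 0, 0, 0, 0, 0, 0⟩, ⟨8, 0, 0, 0, 0, 0, 0, 0⟩, ⟨0, 0, 8, 0, 0, 0, 0, 0⟩, ⟨0, 0, 0, 0, 0, 0, 0, 0⟩, ⟨0, 0, -8, 0, 0, 0, 0, 0⟩, ⟨8, 0, 0, 0, 0, 0, 0, 0⟩],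
  [⟨0, 0, 0, 0, 0, 0, 0, 0⟩, ⟨0, 0, 0, 0, 0, 0, 0, 0⟩, ⟨0, 0, 0, 0, 0, 0, 0, 0⟩, ⟨0, 0, 0, 0, 0, 0, 0, 0⟩, ⟨8, 0, 0, 0, 0, 0, 0, 0⟩, ⟨0, 8, 0, 0, 0, 0, 0, 0⟩, ⟨0, 0, 0, 0, 0, 0, 0, 0⟩, ⟨0, -8, 0, 0, 0, 0, 0, 0⟩, ⟨8, 0, 0, 0, 0, 0, 0, 0⟩],
  [⟨0, 0, 0, 0, 0, 0, 0, 0⟩, ⟨0, 0, 0, 0, 0, 0, 0, 0⟩, ⟨0, 0, 0, 0, 0, 0, 0, 0⟩, ⟨0, 0, 0, 0, 0, 0, 0, 0⟩, ⟨8, 0, 0, 0, 0, 0, 0, 0⟩, ⟨8, 0, 0, 0, 0, 0, 0, 0⟩, ⟨0, 0, 0, 0, 0, 0, 0, 0⟩, ⟨8, 0, 0, 0, 0, 0, 0, 0⟩, ⟨8, 0, 0, 0, 0, 0, 0, 0⟩],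
  [⟨0, 0, 0, 0, 0, 0, 0, 0⟩, ⟨0, 0, 0, 0, 0, 0, 0, 0⟩, ⟨0, 0, 0, 0, 0, 0, 0, 0⟩, ⟨0, 0, 0, 0, 0, 0, 0, 0⟩, ⟨16, 0, 0, 0, 0, 0, 0, 0⟩, ⟨0, 0, 0, 0, 0, 0, 0, 0⟩, ⟨0, 0, 0, 0, 0, 0, 0, 0⟩, ⟨0, 0, 0, 0, 0, 0, 0, 0⟩, ⟨0, 0, 0, 0, 0, 0, 0, 0⟩],
  [⟨4, 0, 0, 0, 0, 0, 0, 0⟩, ⟨-4, 0, 0, 0, 0, 0, 0, 0⟩, ⟨-2, -2, -2, 2, 0, 4, 0, 0⟩, ⟨-4, 0, 0, 0, 0, 0, 0, 0⟩, ⟨4, 0, 0, 0, 0, 0, 0, 0⟩, ⟨2, 2, 2, -2, 0, -4, 0, 0⟩, ⟨-2, 2, 2, -2, 0, -4, 0, 0⟩, ⟨2, -2, -2, 2, 0, 4, 0, 0⟩, ⟨8, 0, 0, 0, 0, 0, 0, 0⟩],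
  [⟨4, 0, 0, 0, 0, 0, 0, 0⟩, ⟨-4, 0, 0, 0, 0, 0, 0, 0⟩, ⟨-2, -2, 2, -2, 0, 0, 0, 4⟩, ⟨-4, 0, 0, 0, 0, 0, 0, 0⟩, ⟨4, 0, 0, 0, 0, 0, 0, 0⟩, ⟨2, 2, -2, 2, 0, 0, 0, -4⟩, ⟨-2, 2, -2, 2, 0, 0, 0, -4⟩, ⟨2, -2, 2, -2, 0, 0, 0, 4⟩, ⟨8, 0, 0, 0, 0, 0, 0, 0⟩],
  [⟨4, 0, 0, 0, 0, 0, 0, 0⟩, ⟨-4, 0, 0, 0, 0, 0, 0, 0⟩, ⟨-2, 2, -2, -2, 0, 0, 4, 0⟩, ⟨-4, 0, 0, 0, 0, 0, 0, 0⟩, ⟨4, 0, 0, 0, 0, 0, 0, 0⟩, ⟨2, -2, 2, 2, 0, 0, -4, 0⟩, ⟨-2, -2, 2, 2, 0, 0, -4, 0⟩, ⟨2, 2, -2, -2, 0, 0, 4, 0⟩, ⟨8, 0, 0, 0, 0, 0, 0, 0⟩],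
  [⟨4, 0, 0, 0, 0, 0, 0, 0⟩, ⟨-4, 0, 0, 0, 0, 0, 0, 0⟩, ⟨-2, 2, 2, 2, 4, 0, 0, 0⟩, ⟨-4, 0, 0, 0, 0, 0, 0, 0⟩, ⟨4, 0, 0, 0, 0, 0, 0, 0⟩, ⟨2, -2, -2, -2, -4, 0, 0, 0⟩, ⟨-2, -2, -2, -2, 4, 0, 0, 0⟩, ⟨2, 2, 2, 2, -4, 0, 0, 0⟩, ⟨8, 0, 0, 0, 0, 0, 0, 0⟩],
  [⟨4, 0, 0, 0, 0, 0, 0, 0⟩, ⟨-4, 0, 0, 0, 0, 0, 0, 0⟩, ⟨2, -2, -2, -2, -4, 0, 0, 0⟩, ⟨-4, 0, 0, 0, 0, 0, 0, 0⟩, ⟨4, 0, 0, 0, 0, 0, 0, 0⟩, ⟨-2, 2, 2, 2, 4, 0, 0, 0⟩, ⟨2, 2, 2, 2, -4, 0, 0, 0⟩, ⟨-2, -2, -2, -2, 4, 0, 0, 0⟩, ⟨8, 0, 0, 0, 0, 0, 0, 0⟩],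
  [⟨4, 0, 0, 0, 0, 0, 0, 0⟩, ⟨-4, 0, 0, 0, 0, 0, 0, 0⟩, ⟨2, -2, 2, 2, 0, 0, -4, 0⟩, ⟨-4, 0, 0, 0, 0, 0, 0, 0⟩, ⟨4, 0, 0, 0, 0, 0, 0, 0⟩, ⟨-2, 2, -2, -2, 0, 0, 4, 0⟩, ⟨2, 2, -2, -2, 0, 0, 4, 0⟩, ⟨-2, -2, 2, 2, 0, 0, -4, 0⟩, ⟨8, 0, 0, 0, 0, 0, 0, 0⟩],
  [⟨4, 0, 0, 0, 0, 0, 0, 0⟩, ⟨-4, 0, 0, 0, 0, 0, 0, 0⟩, ⟨2, 2, -2, 2, 0, 0, 0, -4⟩, ⟨-4, 0, 0, 0, 0, 0, 0, 0⟩, ⟨4, 0, 0, 0, 0, 0, 0, 0⟩, ⟨-2, -2, 2, -2, 0, 0, 0, 4⟩, ⟨2, -2, 2, -2, 0, 0, 0, 4⟩, ⟨-2, 2, -2, 2, 0, 0, 0, -4⟩, ⟨8, 0, 0, 0, 0, 0, 0, 0⟩],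
  [⟨4, 0, 0, 0, 0, 0, 0, 0⟩, ⟨-4, 0, 0, 0, 0, 0, 0, 0⟩, ⟨2, 2, 2, -2, 0, -4, 0, 0⟩, ⟨-4, 0, 0, 0, 0, 0, 0, 0⟩, ⟨4, 0, 0, 0, 0, 0, 0, 0⟩, ⟨-2, -2, -2, 2, 0, 4, 0, 0⟩, ⟨2, -2, -2, 2, 0, 4, 0, 0⟩, ⟨-2, 2, 2, -2, 0, -4, 0, 0⟩, ⟨8, 0, 0, 0, 0, 0, 0, 0⟩],
  [⟨4, 0, 0, 0, 0, 0, 0, 0⟩, ⟨-2, -2, -2, -2, 2, 2, 2, 2⟩, ⟨0, 0, 0, 0, -2, 2, 2, 2⟩, ⟨-2, 2, 2, 2, 2, -2, -2, -2⟩, ⟨8, 0, 0, 0, -4, 0, 0, 0⟩, ⟨2, 2, 2, 2, 0, 0, 0, 0⟩, ⟨0, 0, 0, 0, -2, -2, -2, -2⟩, ⟨2, -2, -2, -2, 0, 0, 0, 0⟩, ⟨4, 0, 0, 0, 4, 0, 0, 0⟩],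
  [⟨4, 0, 0, 0, 0, 0, 0, 0⟩, ⟨-2, -2, -2, -2, 2, 2, 2, 2⟩, ⟨0, 0, 0, 0, 2, -2, -2, -2⟩, ⟨-2, 2, 2, 2, 2, -2, -2, -2⟩, ⟨8, 0, 0, 0, -4, 0, 0, 0⟩, ⟨-2, -2, -2, -2, 0, 0, 0, 0⟩, ⟨0, 0, 0, 0, 2, 2, 2, 2⟩, ⟨-2, 2, 2, 2, 0, 0, 0, 0⟩, ⟨4, 0, 0, 0, 4, 0, 0, 0⟩],
  [⟨4, 0, 0, 0, 0, 0, 0, 0⟩, ⟨-2, -2, -2, 2, 0, 0, 0, -4⟩, ⟨0, -4, 0, 0, 0, 0, 0, 0⟩, ⟨-2, 2, 2, -2, 0, 0, 0, 4⟩, ⟨8, 0, 0, 0, 0, 0, 0, 0⟩, ⟨2, 2, 2, 2, 0, 0, -4, 0⟩, ⟨0, 4, 0, 0, 0, 0, 0, 0⟩, ⟨2, -2, -2, -2, 0, 0, 4, 0⟩, ⟨4, 0, 0, 0, 0, 0, 0, 0⟩],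
  [⟨4, 0, 0, 0, 0, 0, 0, 0⟩, ⟨-2, -2, -2, 2, 0, 0, 0, -4⟩, ⟨0, 4, 0, 0, 0, 0, 0, 0⟩, ⟨-2, 2, 2, -2, 0, 0, 0, 4⟩, ⟨8, 0, 0, 0, 0, 0, 0, 0⟩, ⟨-2, -2, -2, -2, 0, 0, 4, 0⟩, ⟨0, -4, 0, 0, 0, 0, 0, 0⟩, ⟨-2, 2, 2, 2, 0, 0, -4, 0⟩, ⟨4, 0, 0, 0, 0, 0, 0, 0⟩],
  [⟨4, 0, 0, 0, 0, 0, 0, 0⟩, ⟨-2, -2, -2, 2, 0, 0, 4, 0⟩, ⟨0, 0, -4, 0, 0, 0, 0, 0⟩, ⟨-2, 2, 2, -2, 0, 0, -4, 0⟩, ⟨8, 0, 0, 0, 0, 0, 0, 0⟩, ⟨2, -2, 2, -2, -4, 0, 0, 0⟩, ⟨0, 0, 4, 0, 0, 0, 0, 0⟩, ⟨2, 2, -2, 2, -4, 0, 0, 0⟩, ⟨4, 0, 0, 0, 0, 0, 0, 0⟩],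
  [⟨4, 0, 0, 0, 0, 0, 0, 0⟩, ⟨-2, -2, -2, 2, 0, 0, 4, 0⟩, ⟨0, 0, 4, 0, 0, 0, 0, 0⟩, ⟨-2, 2, 2, -2, 0, 0, -4, 0⟩, ⟨8, 0, 0, 0, 0, 0, 0, 0⟩, ⟨-2, 2, -2, 2, 4, 0, 0, 0⟩, ⟨0, 0, -4, 0, 0, 0, 0, 0⟩, ⟨-2, -2, 2, -2, 4, 0, 0, 0⟩, ⟨4, 0, 0, 0, 0, 0, 0, 0⟩],
  [⟨4, 0, 0, 0, 0, 0, 0, 0⟩, ⟨-2, -2, -2, 2, 0, 4, 0, 0⟩, ⟨-4, 0, 0, 0, 0, 0, 0, 0⟩, ⟨-2, 2, 2, -2, 0, -4, 0, 0⟩, ⟨8, 0, 0, 0, 0, 0, 0, 0⟩, ⟨2, -2, -2, 2, 0, 4, 0, 0⟩, ⟨-4, 0, 0, 0, 0, 0, 0, 0⟩, ⟨2, 2, 2, -2, 0, -4, 0, 0⟩, ⟨4, 0, 0, 0, 0, 0, 0, 0⟩],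
  [⟨4, 0, 0, 0, 0, 0, 0, 0⟩, ⟨-2, -2, -2, 2, 0, 4, 0, 0⟩, ⟨4, 0, 0, 0, 0, 0, 0, 0⟩, ⟨-2, 2, 2, -2, 0, -4, 0, 0⟩, ⟨8, 0, 0, 0, 0, 0, 0, 0⟩, ⟨-2, 2, 2, -2, 0, -4, 0, 0⟩, ⟨4, 0, 0, 0, 0, 0, 0, 0⟩, ⟨-2, -2, -2, 2, 0, 4, 0, 0⟩, ⟨4, 0, 0, 0, 0, 0, 0, 0⟩],
  [⟨4, 0, 0, 0, 0, 0, 0, 0⟩, ⟨-2, -2, -2, 2, 4, 0, 0, 0⟩, ⟨0, 0, 0, -4, 0, 0, 0, 0⟩, ⟨-2, 2, 2, -2, 4, 0, 0, 0⟩, ⟨8, 0, 0, 0, 0, 0, 0, 0⟩, ⟨-2, -2, 2, 2, 0, 0, 0, -4⟩, ⟨0, 0, 0, 4, 0, 0, 0, 0⟩, ⟨-2, 2, -2, -2, 0, 0, 0, 4⟩, ⟨4, 0, 0, 0, 0, 0, 0, 0⟩],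
  [⟨4, 0, 0, 0, 0, 0, 0, 0⟩, ⟨-2, -2, -2, 2, 4, 0, 0, 0⟩, ⟨0, 0, 0, 4, 0, 0, 0, 0⟩, ⟨-2, 2, 2, -2, 4, 0, 0, 0⟩, ⟨8, 0, 0, 0, 0, 0, 0, 0⟩, ⟨2, 2, -2, -2, 0, 0, 0, 4⟩, ⟨0, 0, 0, -4, 0, 0, 0, 0⟩, ⟨2, -2, 2, 2, 0, 0, 0, -4⟩, ⟨4, 0, 0, 0, 0, 0, 0, 0⟩],
  [⟨4, 0, 0, 0, 0, 0, 0, 0⟩, ⟨-2, -2, 2, -2, 0, 0, -4, 0⟩, ⟨0, 0, 0, -4, 0, 0, 0, 0⟩, ⟨-2, 2, -2, 2, 0, 0, 4, 0⟩, ⟨8, 0, 0, 0, 0, 0, 0, 0⟩, ⟨2, 2, 2, 2, 0, -4, 0, 0⟩, ⟨0, 0, 0, 4, 0, 0, 0, 0⟩, ⟨2, -2, -2, -2, 0, 4, 0, 0⟩, ⟨4, 0, 0, 0, 0, 0, 0, 0⟩],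
  [⟨4, 0, 0, 0, 0, 0, 0, 0⟩, ⟨-2, -2, 2, -2, 0, 0, -4, 0⟩, ⟨0, 0, 0, 4, 0, 0, 0, 0⟩, ⟨-2, 2, -2, 2, 0, 0, 4, 0⟩, ⟨8, 0, 0, 0, 0, 0, 0, 0⟩, ⟨-2, -2, -2, -2, 0, 4, 0, 0⟩, ⟨0, 0, 0, -4, 0, 0, 0, 0⟩, ⟨-2, 2, 2, 2, 0, -4, 0, 0⟩, ⟨4, 0, 0, 0, 0, 0, 0, 0⟩],
  [⟨4, 0, 0, 0, 0, 0, 0, 0⟩, ⟨-2, -2, 2, -2, 0, 0, 0, 4⟩, ⟨-4, 0, 0, 0, 0, 0, 0, 0⟩, ⟨-2, 2, -2, 2, 0, 0, 0, -4⟩, ⟨8, 0, 0, 0, 0, 0, 0, 0⟩, ⟨2, -2, 2, -2, 0, 0, 0, 4⟩, ⟨-4, 0, 0, 0, 0, 0, 0, 0⟩, ⟨2, 2, -2, 2, 0, 0, 0, -4⟩, ⟨4, 0, 0, 0, 0, 0, 0, 0⟩],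
  [⟨4, 0, 0, 0, 0, 0, 0, 0⟩, ⟨-2, -2, 2, -2, 0, 0, 0, 4⟩, ⟨4, 0, 0, 0, 0, 0, 0, 0⟩, ⟨-2, 2, -2, 2, 0, 0, 0, -4⟩, ⟨8, 0, 0, 0, 0, 0, 0, 0⟩, ⟨-2, 2, -2, 2, 0, 0, 0, -4⟩, ⟨4, 0, 0, 0, 0, 0, 0, 0⟩, ⟨-2, -2, 2, -2, 0, 0, 0, 4⟩, ⟨4, 0, 0, 0, 0, 0, 0, 0⟩],
  [⟨4, 0, 0, 0, 0, 0, 0, 0⟩, ⟨-2, -2, 2, -2, 0, 4, 0, 0⟩, ⟨0, -4, 0, 0, 0, 0, 0, 0⟩, ⟨-2, 2, -2, 2, 0, -4, 0, 0⟩, ⟨8, 0, 0, 0, 0, 0, 0, 0⟩, ⟨2, 2, -2, -2, -4, 0, 0, 0⟩, ⟨0, 4, 0, 0, 0, 0, 0, 0⟩, ⟨2, -2, 2, 2, -4, 0, 0, 0⟩, ⟨4, 0, 0, 0, 0, 0, 0, 0⟩],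
  [⟨4, 0, 0, 0, 0, 0, 0, 0⟩, ⟨-2, -2, 2, -2, 0, 4, 0, 0⟩, ⟨0, 4, 0, 0, 0, 0, 0, 0⟩, ⟨-2, 2, -2, 2, 0, -4, 0, 0⟩, ⟨8, 0, 0, 0, 0, 0, 0, 0⟩, ⟨-2, -2, 2, 2, 4, 0, 0, 0⟩, ⟨0, -4, 0, 0, 0, 0, 0, 0⟩, ⟨-2, 2, -2, -2, 4, 0, 0, 0⟩, ⟨4, 0, 0, 0, 0, 0, 0, 0⟩],
  [⟨4, 0, 0, 0, 0, 0, 0, 0⟩, ⟨-2, -2, 2, -2, 4, 0, 0, 0⟩, ⟨0, 0, -4, 0, 0, 0, 0, 0⟩, ⟨-2, 2, -2, 2, 4, 0, 0, 0⟩, ⟨8, 0, 0, 0, 0, 0, 0, 0⟩, ⟨-2, 2, 2, -2, 0, 0, -4, 0⟩, ⟨0, 0, 4, 0, 0, 0, 0, 0⟩, ⟨-2, -2, -2, 2, 0, 0, 4, 0⟩, ⟨4, 0, 0, 0, 0, 0, 0, 0⟩],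
  [⟨4, 0, 0, 0, 0, 0, 0, 0⟩, ⟨-2, -2, 2, -2, 4, 0, 0, 0⟩, ⟨0, 0, 4, 0, 0, 0, 0, 0⟩, ⟨-2, 2, -2, 2, 4, 0, 0, 0⟩, ⟨8, 0, 0, 0, 0, 0, 0, 0⟩, ⟨2, -2, -2, 2, 0, 0, 4, 0⟩, ⟨0, 0, -4, 0, 0, 0, 0, 0⟩, ⟨2, 2, 2, -2, 0, 0, -4, 0⟩, ⟨4, 0, 0, 0, 0, 0, 0, 0⟩],
  [⟨4, 0, 0, 0, 0, 0, 0, 0⟩, ⟨-2, -2, 2, 2, 2, 2, -2, -2⟩, ⟨0, 0, 0, 0, -2, -2, -2, 2⟩, ⟨-2, 2, -2, -2, 2, -2, 2, 2⟩, ⟨8, 0, 0, 0, -4, 0, 0, 0⟩, ⟨-2, 2, -2, 2, 0, 0, 0, 0⟩, ⟨0, 0, 0, 0, -2, 2, 2, -2⟩, ⟨-2, -2, 2, -2, 0, 0, 0, 0⟩, ⟨4, 0, 0, 0, 4, 0, 0, 0⟩],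
  [⟨4, 0, 0, 0, 0, 0, 0, 0⟩, ⟨-2, -2, 2, 2, 2, 2, -2, -2⟩, ⟨0, 0, 0, 0, 2, 2, 2, -2⟩, ⟨-2, 2, -2, -2, 2, -2, 2, 2⟩, ⟨8, 0, 0, 0, -4, 0, 0, 0⟩, ⟨2, -2, 2, -2, 0, 0, 0, 0⟩, ⟨0, 0, 0, 0, 2, -2, -2, 2⟩, ⟨2, 2, -2, 2, 0, 0, 0, 0⟩, ⟨4, 0, 0, 0, 4, 0, 0, 0⟩],
  [⟨4, 0, 0, 0, 0, 0, 0, 0⟩, ⟨-2, 2, -2, -2, 0, -4, 0, 0⟩, ⟨0, 0, -4, 0, 0, 0, 0, 0⟩, ⟨-2, -2, 2, 2, 0, 4, 0, 0⟩, ⟨8, 0, 0, 0, 0, 0, 0, 0⟩, ⟨2, 2, 2, 2, 0, 0, 0, -4⟩, ⟨0, 0, 4, 0, 0, 0, 0, 0⟩, ⟨2, -2, -2, -2, 0, 0, 0, 4⟩, ⟨4, 0, 0, 0, 0, 0, 0, 0⟩],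
  [⟨4, 0, 0, 0, 0, 0, 0, 0⟩, ⟨-2, 2, -2, -2, 0, -4, 0, 0⟩, ⟨0, 0, 4, 0, 0, 0, 0, 0⟩, ⟨-2, -2, 2, 2, 0, 4, 0, 0⟩, ⟨8, 0, 0, 0, 0, 0, 0, 0⟩, ⟨-2, -2, -2, -2, 0, 0, 0, 4⟩, ⟨0, 0, -4, 0, 0, 0, 0, 0⟩, ⟨-2, 2, 2, 2, 0, 0, 0, -4⟩, ⟨4, 0, 0, 0, 0, 0, 0, 0⟩],
  [⟨4, 0, 0, 0, 0, 0, 0, 0⟩, ⟨-2, 2, -2, -2, 0, 0, 0, 4⟩, ⟨0, 0, 0, -4, 0, 0, 0, 0⟩, ⟨-2, -2, 2, 2, 0, 0, 0, -4⟩, ⟨8, 0, 0, 0, 0, 0, 0, 0⟩, ⟨2, -2, -2, 2, -4, 0, 0, 0⟩, ⟨0, 0, 0, 4, 0, 0, 0, 0⟩, ⟨2, 2, 2, -2, -4, 0, 0, 0⟩, ⟨4, 0, 0, 0, 0, 0, 0, 0⟩],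
  [⟨4, 0, 0, 0, 0, 0, 0, 0⟩, ⟨-2, 2, -2, -2, 0, 0, 0, 4⟩, ⟨0, 0, 0, 4, 0, 0, 0, 0⟩, ⟨-2, -2, 2, 2, 0, 0, 0, -4⟩, ⟨8, 0, 0, 0, 0, 0, 0, 0⟩, ⟨-2, 2, 2, -2, 4, 0, 0, 0⟩, ⟨0, 0, 0, -4, 0, 0, 0, 0⟩, ⟨-2, -2, -2, 2, 4, 0, 0, 0⟩, ⟨4, 0, 0, 0, 0, 0, 0, 0⟩],
  [⟨4, 0, 0, 0, 0, 0, 0, 0⟩, ⟨-2, 2, -2, -2, 0, 0, 4, 0⟩, ⟨-4, 0, 0, 0, 0, 0, 0, 0⟩, ⟨-2, -2, 2, 2, 0, 0, -4, 0⟩, ⟨8, 0, 0, 0, 0, 0, 0, 0⟩, ⟨2, 2, -2, -2, 0, 0, 4, 0⟩, ⟨-4, 0, 0, 0, 0, 0, 0, 0⟩, ⟨2, -2, 2, 2, 0, 0, -4, 0⟩, ⟨4, 0, 0, 0, 0, 0, 0, 0⟩],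
  [⟨4, 0, 0, 0, 0, 0, 0, 0⟩, ⟨-2, 2, -2, -2, 0, 0, 4, 0⟩, ⟨4, 0, 0, 0, 0, 0, 0, 0⟩, ⟨-2, -2, 2, 2, 0, 0, -4, 0⟩, ⟨8, 0, 0, 0, 0, 0, 0, 0⟩, ⟨-2, -2, 2, 2, 0, 0, -4, 0⟩, ⟨4, 0, 0, 0, 0, 0, 0, 0⟩, ⟨-2, 2, -2, -2, 0, 0, 4, 0⟩, ⟨4, 0, 0, 0, 0, 0, 0, 0⟩],
  [⟨4, 0, 0, 0, 0, 0, 0, 0⟩, ⟨-2, 2, -2, -2, 4, 0, 0, 0⟩, ⟨0, -4, 0, 0, 0, 0, 0, 0⟩, ⟨-2, -2, 2, 2, 4, 0, 0, 0⟩, ⟨8, 0, 0, 0, 0, 0, 0, 0⟩, ⟨-2, 2, -2, 2, 0, -4, 0, 0⟩, ⟨0, 4, 0, 0, 0, 0, 0, 0⟩, ⟨-2, -2, 2, -2, 0, 4, 0, 0⟩, ⟨4, 0, 0, 0, 0, 0, 0, 0⟩]]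
noncomputable def ks1 : List (List Q) := [[⟨4, 0, 0, 0, 0, 0, 0, 0⟩, ⟨-2, 2, -2, -2, 4, 0, 0, 0⟩, ⟨0, 4, 0, 0, 0, 0, 0, 0⟩, ⟨-2, -2, 2, 2, 4, 0, 0, 0⟩, ⟨8, 0, 0, 0, 0, 0, 0, 0⟩, ⟨2, -2, 2, -2, 0, 4, 0, 0⟩, ⟨0, -4, 0, 0, 0, 0, 0, 0⟩, ⟨2, 2, -2, 2, 0, -4, 0, 0⟩, ⟨4, 0, 0, 0, 0, 0, 0, 0⟩],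
  [⟨4, 0, 0, 0, 0, 0, 0, 0⟩, ⟨-2, 2, -2, 2, 2, -2, 2, -2⟩, ⟨0, 0, 0, 0, -2, 2, -2, -2⟩, ⟨-2, -2, 2, -2, 2, 2, -2, 2⟩, ⟨8, 0, 0, 0, -4, 0, 0, 0⟩, ⟨-2, 2, 2, -2, 0, 0, 0, 0⟩, ⟨0, 0, 0, 0, -2, -2, 2, 2⟩, ⟨-2, -2, -2, 2, 0, 0, 0, 0⟩, ⟨4, 0, 0, 0, 4, 0, 0, 0⟩],
  [⟨4, 0, 0, 0, 0, 0, 0, 0⟩, ⟨-2, 2, -2, 2, 2, -2, 2, -2⟩, ⟨0, 0, 0, 0, 2, -2, 2, 2⟩, ⟨-2, -2, 2, -2, 2, 2, -2, 2⟩, ⟨8, 0, 0, 0, -4, 0, 0, 0⟩, ⟨2, -2, -2, 2, 0, 0, 0, 0⟩, ⟨0, 0, 0, 0, 2, 2, -2, -2⟩, ⟨2, 2, 2, -2, 0, 0, 0, 0⟩, ⟨4, 0, 0, 0, 4, 0, 0, 0⟩],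
  [⟨4, 0, 0, 0, 0, 0, 0, 0⟩, ⟨-2, 2, 2, -2, 2, -2, -2, 2⟩, ⟨0, 0, 0, 0, -2, -2, 2, -2⟩, ⟨-2, -2, -2, 2, 2, 2, 2, -2⟩, ⟨8, 0, 0, 0, -4, 0, 0, 0⟩, ⟨-2, -2, 2, 2, 0, 0, 0, 0⟩, ⟨0, 0, 0, 0, -2, 2, -2, 2⟩, ⟨-2, 2, -2, -2, 0, 0, 0, 0⟩, ⟨4, 0, 0, 0, 4, 0, 0, 0⟩],
  [⟨4, 0, 0, 0, 0, 0, 0, 0⟩, ⟨-2, 2, 2, -2, 2, -2, -2, 2⟩, ⟨0, 0, 0, 0, 2, 2, -2, 2⟩, ⟨-2, -2, -2, 2, 2, 2, 2, -2⟩, ⟨8, 0, 0, 0, -4, 0, 0, 0⟩, ⟨2, 2, -2, -2, 0, 0, 0, 0⟩, ⟨0, 0, 0, 0, 2, -2, 2, -2⟩, ⟨2, -2, 2, 2, 0, 0, 0, 0⟩, ⟨4, 0, 0, 0, 4, 0, 0, 0⟩],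
  [⟨4, 0, 0, 0, 0, 0, 0, 0⟩, ⟨-2, 2, 2, 2, 0, -4, 0, 0⟩, ⟨0, 0, 0, -4, 0, 0, 0, 0⟩, ⟨-2, -2, -2, -2, 0, 4, 0, 0⟩, ⟨8, 0, 0, 0, 0, 0, 0, 0⟩, ⟨-2, 2, -2, 2, 0, 0, 4, 0⟩, ⟨0, 0, 0, 4, 0, 0, 0, 0⟩, ⟨-2, -2, 2, -2, 0, 0, -4, 0⟩, ⟨4, 0, 0, 0, 0, 0, 0, 0⟩],
  [⟨4, 0, 0, 0, 0, 0, 0, 0⟩, ⟨-2, 2, 2, 2, 0, -4, 0, 0⟩, ⟨0, 0, 0, 4, 0, 0, 0, 0⟩, ⟨-2, -2, -2, -2, 0, 4, 0, 0⟩, ⟨8, 0, 0, 0, 0, 0, 0, 0⟩, ⟨2, -2, 2, -2, 0, 0, -4, 0⟩, ⟨0, 0, 0, -4, 0, 0, 0, 0⟩, ⟨2, 2, -2, 2, 0, 0, 4, 0⟩, ⟨4, 0, 0, 0, 0, 0, 0, 0⟩],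
  [⟨4, 0, 0, 0, 0, 0, 0, 0⟩, ⟨-2, 2, 2, 2, 0, 0, -4, 0⟩, ⟨0, -4, 0, 0, 0, 0, 0, 0⟩, ⟨-2, -2, -2, -2, 0, 0, 4, 0⟩, ⟨8, 0, 0, 0, 0, 0, 0, 0⟩, ⟨-2, 2, 2, -2, 0, 0, 0, 4⟩, ⟨0, 4, 0, 0, 0, 0, 0, 0⟩, ⟨-2, -2, -2, 2, 0, 0, 0, -4⟩, ⟨4, 0, 0, 0, 0, 0, 0, 0⟩],
  [⟨4, 0, 0, 0, 0, 0, 0, 0⟩, ⟨-2, 2, 2, 2, 0, 0, -4, 0⟩, ⟨0, 4, 0, 0, 0, 0, 0, 0⟩, ⟨-2, -2, -2, -2, 0, 0, 4, 0⟩, ⟨8, 0, 0, 0, 0, 0, 0, 0⟩, ⟨2, -2, -2, 2, 0, 0, 0, -4⟩, ⟨0, -4, 0, 0, 0, 0, 0, 0⟩, ⟨2, 2, 2, -2, 0, 0, 0, 4⟩, ⟨4, 0, 0, 0, 0, 0, 0, 0⟩],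
  [⟨4, 0, 0, 0, 0, 0, 0, 0⟩, ⟨-2, 2, 2, 2, 0, 0, 0, -4⟩, ⟨0, 0, -4, 0, 0, 0, 0, 0⟩, ⟨-2, -2, -2, -2, 0, 0, 0, 4⟩, ⟨8, 0, 0, 0, 0, 0, 0, 0⟩, ⟨-2, -2, 2, 2, 0, 4, 0, 0⟩, ⟨0, 0, 4, 0, 0, 0, 0, 0⟩, ⟨-2, 2, -2, -2, 0, -4, 0, 0⟩, ⟨4, 0, 0, 0, 0, 0, 0, 0⟩],
  [⟨4, 0, 0, 0, 0, 0, 0, 0⟩, ⟨-2, 2, 2, 2, 0, 0, 0, -4⟩, ⟨0, 0, 4, 0, 0, 0, 0, 0⟩, ⟨-2, -2, -2, -2, 0, 0, 0, 4⟩, ⟨8, 0, 0, 0, 0, 0, 0, 0⟩, ⟨2, 2, -2, -2, 0, -4, 0, 0⟩, ⟨0, 0, -4, 0, 0, 0, 0, 0⟩, ⟨2, -2, 2, 2, 0, 4, 0, 0⟩, ⟨4, 0, 0, 0, 0, 0, 0, 0⟩],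
  [⟨4, 0, 0, 0, 0, 0, 0, 0⟩, ⟨-2, 2, 2, 2, 4, 0, 0, 0⟩, ⟨-4, 0, 0, 0, 0, 0, 0, 0⟩, ⟨-2, -2, -2, -2, 4, 0, 0, 0⟩, ⟨8, 0, 0, 0, 0, 0, 0, 0⟩, ⟨2, 2, 2, 2, -4, 0, 0, 0⟩, ⟨-4, 0, 0, 0, 0, 0, 0, 0⟩, ⟨2, -2, -2, -2, -4, 0, 0, 0⟩, ⟨4, 0, 0, 0, 0, 0, 0, 0⟩],
  [⟨4, 0, 0, 0, 0, 0, 0, 0⟩, ⟨-2, 2, 2, 2, 4, 0, 0, 0⟩, ⟨4, 0, 0, 0, 0, 0, 0, 0⟩, ⟨-2, -2, -2, -2, 4, 0, 0, 0⟩, ⟨8, 0, 0, 0, 0, 0, 0, 0⟩, ⟨-2, -2, -2, -2, 4, 0, 0, 0⟩, ⟨4, 0, 0, 0, 0, 0, 0, 0⟩, ⟨-2, 2, 2, 2, 4, 0, 0, 0⟩, ⟨4, 0, 0, 0, 0, 0, 0, 0⟩],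
  [⟨4, 0, 0, 0, 0, 0, 0, 0⟩, ⟨0, -4, 0, 0, 0, 0, 0, 0⟩, ⟨-2, -2, -2, 2, 0, 0, 0, -4⟩, ⟨0, 4, 0, 0, 0, 0, 0, 0⟩, ⟨4, 0, 0, 0, 0, 0, 0, 0⟩, ⟨2, -2, -2, -2, 0, 0, 4, 0⟩, ⟨-2, 2, 2, -2, 0, 0, 0, 4⟩, ⟨2, 2, 2, 2, 0, 0, -4, 0⟩, ⟨8, 0, 0, 0, 0, 0, 0, 0⟩],
  [⟨4, 0, 0, 0, 0, 0, 0, 0⟩, ⟨0, -4, 0, 0, 0, 0, 0, 0⟩, ⟨-2, -2, 2, -2, 0, 4, 0, 0⟩, ⟨0, 4, 0, 0, 0, 0, 0, 0⟩, ⟨4, 0, 0, 0, 0, 0, 0, 0⟩, ⟨2, -2, 2, 2, -4, 0, 0, 0⟩, ⟨-2, 2, -2, 2, 0, -4, 0, 0⟩, ⟨2, 2, -2, -2, -4, 0, 0, 0⟩, ⟨8, 0, 0, 0, 0, 0, 0, 0⟩],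
  [⟨4, 0, 0, 0, 0, 0, 0, 0⟩, ⟨0, -4, 0, 0, 0, 0, 0, 0⟩, ⟨-2, 2, -2, -2, 4, 0, 0, 0⟩, ⟨0, 4, 0, 0, 0, 0, 0, 0⟩, ⟨4, 0, 0, 0, 0, 0, 0, 0⟩, ⟨-2, -2, 2, -2, 0, 4, 0, 0⟩, ⟨-2, -2, 2, 2, 4, 0, 0, 0⟩, ⟨-2, 2, -2, 2, 0, -4, 0, 0⟩, ⟨8, 0, 0, 0, 0, 0, 0, 0⟩],
  [⟨4, 0, 0, 0, 0, 0, 0, 0⟩, ⟨0, -4, 0, 0, 0, 0, 0, 0⟩, ⟨-2, 2, 2, 2, 0, 0, -4, 0⟩, ⟨0, 4, 0, 0, 0, 0, 0, 0⟩, ⟨4, 0, 0, 0, 0, 0, 0, 0⟩, ⟨-2, -2, -2, 2, 0, 0, 0, -4⟩, ⟨-2, -2, -2, -2, 0, 0, 4, 0⟩, ⟨-2, 2, 2, -2, 0, 0, 0, 4⟩, ⟨8, 0, 0, 0, 0, 0, 0, 0⟩],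
  [⟨4, 0, 0, 0, 0, 0, 0, 0⟩, ⟨0, -4, 0, 0, 0, 0, 0, 0⟩, ⟨2, -2, -2, -2, 0, 0, 4, 0⟩, ⟨0, 4, 0, 0, 0, 0, 0, 0⟩, ⟨4, 0, 0, 0, 0, 0, 0, 0⟩, ⟨2, 2, 2, -2, 0, 0, 0, 4⟩, ⟨2, 2, 2, 2, 0, 0, -4, 0⟩, ⟨2, -2, -2, 2, 0, 0, 0, -4⟩, ⟨8, 0, 0, 0, 0, 0, 0, 0⟩],
  [⟨4, 0, 0, 0, 0, 0, 0, 0⟩, ⟨0, -4, 0, 0, 0, 0, 0, 0⟩, ⟨2, -2, 2, 2, -4, 0, 0, 0⟩, ⟨0, 4, 0, 0, 0, 0, 0, 0⟩, ⟨4, 0, 0, 0, 0, 0, 0, 0⟩, ⟨2, 2, -2, 2, 0, -4, 0, 0⟩, ⟨2, 2, -2, -2, -4, 0, 0, 0⟩, ⟨2, -2, 2, -2, 0, 4, 0, 0⟩, ⟨8, 0, 0, 0, 0, 0, 0, 0⟩],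
  [⟨4, 0, 0, 0, 0, 0, 0, 0⟩, ⟨0, -4, 0, 0, 0, 0, 0, 0⟩, ⟨2, 2, -2, 2, 0, -4, 0, 0⟩, ⟨0, 4, 0, 0, 0, 0, 0, 0⟩, ⟨4, 0, 0, 0, 0, 0, 0, 0⟩, ⟨-2, 2, -2, -2, 4, 0, 0, 0⟩, ⟨2, -2, 2, -2, 0, 4, 0, 0⟩, ⟨-2, -2, 2, 2, 4, 0, 0, 0⟩, ⟨8, 0, 0, 0, 0, 0, 0, 0⟩],
  [⟨4, 0, 0, 0, 0, 0, 0, 0⟩, ⟨0, -4, 0, 0, 0, 0, 0, 0⟩, ⟨2, 2, 2, -2, 0, 0, 0, 4⟩, ⟨0, 4, 0, 0, 0, 0, 0, 0⟩, ⟨4, 0, 0, 0, 0, 0, 0, 0⟩, ⟨-2, 2, 2, 2, 0, 0, -4, 0⟩, ⟨2, -2, -2, 2, 0, 0, 0, -4⟩, ⟨-2, -2, -2, -2, 0, 0, 4, 0⟩, ⟨8, 0, 0, 0, 0, 0, 0, 0⟩],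
  [⟨4, 0, 0, 0, 0, 0, 0, 0⟩, ⟨0, 0, -4, 0, 0, 0, 0, 0⟩, ⟨-2, -2, -2, 2, 0, 0, 4, 0⟩, ⟨0, 0, 4, 0, 0, 0, 0, 0⟩, ⟨4, 0, 0, 0, 0, 0, 0, 0⟩, ⟨2, 2, -2, 2, -4, 0, 0, 0⟩, ⟨-2, 2, 2, -2, 0, 0, -4, 0⟩, ⟨2, -2, 2, -2, -4, 0, 0, 0⟩, ⟨8, 0, 0, 0, 0, 0, 0, 0⟩],
  [⟨4, 0, 0, 0, 0, 0, 0, 0⟩, ⟨0, 0, -4, 0, 0, 0, 0, 0⟩, ⟨-2, -2, 2, -2, 4, 0, 0, 0⟩, ⟨0, 0, 4, 0, 0, 0, 0, 0⟩, ⟨4, 0, 0, 0, 0, 0, 0, 0⟩, ⟨-2, -2, -2, 2, 0, 0, 4, 0⟩, ⟨-2, 2, -2, 2, 4, 0, 0, 0⟩, ⟨-2, 2, 2, -2, 0, 0, -4, 0⟩, ⟨8, 0, 0, 0, 0, 0, 0, 0⟩],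
  [⟨4, 0, 0, 0, 0, 0, 0, 0⟩, ⟨0, 0, -4, 0, 0, 0, 0, 0⟩, ⟨-2, 2, -2, -2, 0, -4, 0, 0⟩, ⟨0, 0, 4, 0, 0, 0, 0, 0⟩, ⟨4, 0, 0, 0, 0, 0, 0, 0⟩, ⟨2, -2, -2, -2, 0, 0, 0, 4⟩, ⟨-2, -2, 2, 2, 0, 4, 0, 0⟩, ⟨2, 2, 2, 2, 0, 0, 0, -4⟩, ⟨8, 0, 0, 0, 0, 0, 0, 0⟩],
  [⟨4, 0, 0, 0, 0, 0, 0, 0⟩, ⟨0, 0, -4, 0, 0, 0, 0, 0⟩, ⟨-2, 2, 2, 2, 0, 0, 0, -4⟩, ⟨0, 0, 4, 0, 0, 0, 0, 0⟩, ⟨4, 0, 0, 0, 0, 0, 0, 0⟩, ⟨-2, 2, -2, -2, 0, -4, 0, 0⟩, ⟨-2, -2, -2, -2, 0, 0, 0, 4⟩, ⟨-2, -2, 2, 2, 0, 4, 0, 0⟩, ⟨8, 0, 0, 0, 0, 0, 0, 0⟩],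
  [⟨4, 0, 0, 0, 0, 0, 0, 0⟩, ⟨0, 0, -4, 0, 0, 0, 0, 0⟩, ⟨2, -2, -2, -2, 0, 0, 0, 4⟩, ⟨0, 0, 4, 0, 0, 0, 0, 0⟩, ⟨4, 0, 0, 0, 0, 0, 0, 0⟩, ⟨2, -2, 2, 2, 0, 4, 0, 0⟩, ⟨2, 2, 2, 2, 0, 0, 0, -4⟩, ⟨2, 2, -2, -2, 0, -4, 0, 0⟩, ⟨8, 0, 0, 0, 0, 0, 0, 0⟩],
  [⟨4, 0, 0, 0, 0, 0, 0, 0⟩, ⟨0, 0, -4, 0, 0, 0, 0, 0⟩, ⟨2, -2, 2, 2, 0, 4, 0, 0⟩, ⟨0, 0, 4, 0, 0, 0, 0, 0⟩, ⟨4, 0, 0, 0, 0, 0, 0, 0⟩, ⟨-2, 2, 2, 2, 0, 0, 0, -4⟩, ⟨2, 2, -2, -2, 0, -4, 0, 0⟩, ⟨-2, -2, -2, -2, 0, 0, 0, 4⟩, ⟨8, 0, 0, 0, 0, 0, 0, 0⟩],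
  [⟨4, 0, 0, 0, 0, 0, 0, 0⟩, ⟨0, 0, -4, 0, 0, 0, 0, 0⟩, ⟨2, 2, -2, 2, -4, 0, 0, 0⟩, ⟨0, 0, 4, 0, 0, 0, 0, 0⟩, ⟨4, 0, 0, 0, 0, 0, 0, 0⟩, ⟨2, 2, 2, -2, 0, 0, -4, 0⟩, ⟨2, -2, 2, -2, -4, 0, 0, 0⟩, ⟨2, -2, -2, 2, 0, 0, 4, 0⟩, ⟨8, 0, 0, 0, 0, 0, 0, 0⟩],
  [⟨4, 0, 0, 0, 0, 0, 0, 0⟩, ⟨0, 0, -4, 0, 0, 0, 0, 0⟩, ⟨2, 2, 2, -2, 0, 0, -4, 0⟩, ⟨0, 0, 4, 0, 0, 0, 0, 0⟩, ⟨4, 0, 0, 0, 0, 0, 0, 0⟩, ⟨-2, -2, 2, -2, 4, 0, 0, 0⟩, ⟨2, -2, -2, 2, 0, 0, 4, 0⟩, ⟨-2, 2, -2, 2, 4, 0, 0, 0⟩, ⟨8, 0, 0, 0, 0, 0, 0, 0⟩],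
  [⟨4, 0, 0, 0, 0, 0, 0, 0⟩, ⟨0, 0, 0, -4, 0, 0, 0, 0⟩, ⟨-2, -2, -2, 2, 4, 0, 0, 0⟩, ⟨0, 0, 0, 4, 0, 0, 0, 0⟩, ⟨4, 0, 0, 0, 0, 0, 0, 0⟩, ⟨-2, 2, -2, -2, 0, 0, 0, 4⟩, ⟨-2, 2, 2, -2, 4, 0, 0, 0⟩, ⟨-2, -2, 2, 2, 0, 0, 0, -4⟩, ⟨8, 0, 0, 0, 0, 0, 0, 0⟩],
  [⟨4, 0, 0, 0, 0, 0, 0, 0⟩, ⟨0, 0, 0, -4, 0, 0, 0, 0⟩, ⟨-2, -2, 2, -2, 0, 0, -4, 0⟩, ⟨0, 0, 0, 4, 0, 0, 0, 0⟩, ⟨4, 0, 0, 0, 0, 0, 0, 0⟩, ⟨2, -2, -2, -2, 0, 4, 0, 0⟩, ⟨-2, 2, -2, 2, 0, 0, 4, 0⟩, ⟨2, 2, 2, 2, 0, -4, 0, 0⟩, ⟨8, 0, 0, 0, 0, 0, 0, 0⟩],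
  [⟨4, 0, 0, 0, 0, 0, 0, 0⟩, ⟨0, 0, 0, -4, 0, 0, 0, 0⟩, ⟨-2, 2, -2, -2, 0, 0, 0, 4⟩, ⟨0, 0, 0, 4, 0, 0, 0, 0⟩, ⟨4, 0, 0, 0, 0, 0, 0, 0⟩, ⟨2, 2, 2, -2, -4, 0, 0, 0⟩, ⟨-2, -2, 2, 2, 0, 0, 0, -4⟩, ⟨2, -2, -2, 2, -4, 0, 0, 0⟩, ⟨8, 0, 0, 0, 0, 0, 0, 0⟩],
  [⟨4, 0, 0, 0, 0, 0, 0, 0⟩, ⟨0, 0, 0, -4, 0, 0, 0, 0⟩, ⟨-2, 2, 2, 2, 0, -4, 0, 0⟩, ⟨0, 0, 0, 4, 0, 0, 0, 0⟩, ⟨4, 0, 0, 0, 0, 0, 0, 0⟩, ⟨-2, -2, 2, -2, 0, 0, -4, 0⟩, ⟨-2, -2, -2, -2, 0, 4, 0, 0⟩, ⟨-2, 2, -2, 2, 0, 0, 4, 0⟩, ⟨8, 0, 0, 0, 0, 0, 0, 0⟩],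
  [⟨4, 0, 0, 0, 0, 0, 0, 0⟩, ⟨0, 0, 0, -4, 0, 0, 0, 0⟩, ⟨2, -2, -2, -2, 0, 4, 0, 0⟩, ⟨0, 0, 0, 4, 0, 0, 0, 0⟩, ⟨4, 0, 0, 0, 0, 0, 0, 0⟩, ⟨2, 2, -2, 2, 0, 0, 4, 0⟩, ⟨2, 2, 2, 2, 0, -4, 0, 0⟩, ⟨2, -2, 2, -2, 0, 0, -4, 0⟩, ⟨8, 0, 0, 0, 0, 0, 0, 0⟩],
  [⟨4, 0, 0, 0, 0, 0, 0, 0⟩, ⟨0, 0, 0, -4, 0, 0, 0, 0⟩, ⟨2, -2, 2, 2, 0, 0, 0, -4⟩, ⟨0, 0, 0, 4, 0, 0, 0, 0⟩, ⟨4, 0, 0, 0, 0, 0, 0, 0⟩, ⟨-2, -2, -2, 2, 4, 0, 0, 0⟩, ⟨2, 2, -2, -2, 0, 0, 0, 4⟩, ⟨-2, 2, 2, -2, 4, 0, 0, 0⟩, ⟨8, 0, 0, 0, 0, 0, 0, 0⟩],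
  [⟨4, 0, 0, 0, 0, 0, 0, 0⟩, ⟨0, 0, 0, -4, 0, 0, 0, 0⟩, ⟨2, 2, -2, 2, 0, 0, 4, 0⟩, ⟨0, 0, 0, 4, 0, 0, 0, 0⟩, ⟨4, 0, 0, 0, 0, 0, 0, 0⟩, ⟨-2, 2, 2, 2, 0, -4, 0, 0⟩, ⟨2, -2, 2, -2, 0, 0, -4, 0⟩, ⟨-2, -2, -2, -2, 0, 4, 0, 0⟩, ⟨8, 0, 0, 0, 0, 0, 0, 0⟩],
  [⟨4, 0, 0, 0, 0, 0, 0, 0⟩, ⟨0, 0, 0, -4, 0, 0, 0, 0⟩, ⟨2, 2, 2, -2, -4, 0, 0, 0⟩, ⟨0, 0, 0, 4, 0, 0, 0, 0⟩, ⟨4, 0, 0, 0, 0, 0, 0, 0⟩, ⟨2, -2, 2, 2, 0, 0, 0, -4⟩, ⟨2, -2, -2, 2, -4, 0, 0, 0⟩, ⟨2, 2, -2, -2, 0, 0, 0, 4⟩, ⟨8, 0, 0, 0, 0, 0, 0, 0⟩],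
  [⟨4, 0, 0, 0, 0, 0, 0, 0⟩, ⟨0, 0, 0, 0, -2, -2, -2, 2⟩, ⟨-2, -2, 2, 2, 2, 2, -2, -2⟩, ⟨0, 0, 0, 0, -2, 2, 2, -2⟩, ⟨4, 0, 0, 0, 4, 0, 0, 0⟩, ⟨-2, -2, 2, -2, 0, 0, 0, 0⟩, ⟨-2, 2, -2, -2, 2, -2, 2, 2⟩, ⟨-2, 2, -2, 2, 0, 0, 0, 0⟩, ⟨8, 0, 0, 0, -4, 0, 0, 0⟩],
  [⟨4, 0, 0, 0, 0, 0, 0, 0⟩, ⟨0, 0, 0, 0, -2, -2, -2, 2⟩, ⟨2, 2, -2, -2, -2, -2, 2, 2⟩, ⟨0, 0, 0, 0, -2, 2, 2, -2⟩, ⟨4, 0, 0, 0, 4, 0, 0, 0⟩, ⟨2, 2, -2, 2, 0, 0, 0, 0⟩, ⟨2, -2, 2, 2, -2, 2, -2, -2⟩, ⟨2, -2, 2, -2, 0, 0, 0, 0⟩, ⟨8, 0, 0, 0, -4, 0, 0, 0⟩],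
  [⟨4, 0, 0, 0, 0, 0, 0, 0⟩, ⟨0, 0, 0, 0, -2, -2, 2, -2⟩, ⟨-2, 2, 2, -2, 2, -2, -2, 2⟩, ⟨0, 0, 0, 0, -2, 2, -2, 2⟩, ⟨4, 0, 0, 0, 4, 0, 0, 0⟩, ⟨-2, 2, -2, -2, 0, 0, 0, 0⟩, ⟨-2, -2, -2, 2, 2, 2, 2, -2⟩, ⟨-2, -2, 2, 2, 0, 0, 0, 0⟩, ⟨8, 0, 0, 0, -4, 0, 0, 0⟩],
  [⟨4, 0, 0, 0, 0, 0, 0, 0⟩, ⟨0, 0, 0, 0, -2, -2, 2, -2⟩, ⟨2, -2, -2, 2, -2, 2, 2, -2⟩, ⟨0, 0, 0, 0, -2, 2, -2, 2⟩, ⟨4, 0, 0, 0, 4, 0, 0, 0⟩, ⟨2, -2, 2, 2, 0, 0, 0, 0⟩, ⟨2, 2, 2, -2, -2, -2, -2, 2⟩, ⟨2, 2, -2, -2, 0, 0, 0, 0⟩, ⟨8, 0, 0, 0, -4, 0, 0, 0⟩],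
  [⟨4, 0, 0, 0, 0, 0, 0, 0⟩, ⟨0, 0, 0, 0, -2, 2, -2, -2⟩, ⟨-2, 2, -2, 2, 2, -2, 2, -2⟩, ⟨0, 0, 0, 0, -2, -2, 2, 2⟩, ⟨4, 0, 0, 0, 4, 0, 0, 0⟩, ⟨-2, -2, -2, 2, 0, 0, 0, 0⟩, ⟨-2, -2, 2, -2, 2, 2, -2, 2⟩, ⟨-2, 2, 2, -2, 0, 0, 0, 0⟩, ⟨8, 0, 0, 0, -4, 0, 0, 0⟩],
  [⟨4, 0, 0, 0, 0, 0, 0, 0⟩, ⟨0, 0, 0, 0, -2, 2, -2, -2⟩, ⟨2, -2, 2, -2, -2, 2, -2, 2⟩, ⟨0, 0, 0, 0, -2, -2, 2, 2⟩, ⟨4, 0, 0, 0, 4, 0, 0, 0⟩, ⟨2, 2, 2, -2, 0, 0, 0, 0⟩, ⟨2, 2, -2, 2, -2, -2, 2, -2⟩, ⟨2, -2, -2, 2, 0, 0, 0, 0⟩, ⟨8, 0, 0, 0, -4, 0, 0, 0⟩],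
  [⟨4, 0, 0, 0, 0, 0, 0, 0⟩, ⟨0, 0, 0, 0, -2, 2, 2, 2⟩, ⟨-2, -2, -2, -2, 2, 2, 2, 2⟩, ⟨0, 0, 0, 0, -2, -2, -2, -2⟩, ⟨4, 0, 0, 0, 4, 0, 0, 0⟩, ⟨2, -2, -2, -2, 0, 0, 0, 0⟩, ⟨-2, 2, 2, 2, 2, -2, -2, -2⟩, ⟨2, 2, 2, 2, 0, 0, 0, 0⟩, ⟨8, 0, 0, 0, -4, 0, 0, 0⟩],
  [⟨4, 0, 0, 0, 0, 0, 0, 0⟩, ⟨0, 0, 0, 0, -2, 2, 2, 2⟩, ⟨2, 2, 2, 2, -2, -2, -2, -2⟩, ⟨0, 0, 0, 0, -2, -2, -2, -2⟩, ⟨4, 0, 0, 0, 4, 0, 0, 0⟩, ⟨-2, 2, 2, 2, 0, 0, 0, 0⟩, ⟨2, -2, -2, -2, -2, 2, 2, 2⟩, ⟨-2, -2, -2, -2, 0, 0, 0, 0⟩, ⟨8, 0, 0, 0, -4, 0, 0, 0⟩]]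
noncomputable def ks2 : List (List Q) := [[⟨4, 0, 0, 0, 0, 0, 0, 0⟩, ⟨0, 0, 0, 0, 2, -2, -2, -2⟩, ⟨-2, -2, -2, -2, 2, 2, 2, 2⟩, ⟨0, 0, 0, 0, 2, 2, 2, 2⟩, ⟨4, 0, 0, 0, 4, 0, 0, 0⟩, ⟨-2, 2, 2, 2, 0, 0, 0, 0⟩, ⟨-2, 2, 2, 2, 2, -2, -2, -2⟩, ⟨-2, -2, -2, -2, 0, 0, 0, 0⟩, ⟨8, 0, 0, 0, -4, 0, 0, 0⟩],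
  [⟨4, 0, 0, 0, 0, 0, 0, 0⟩, ⟨0, 0, 0, 0, 2, -2, -2, -2⟩, ⟨2, 2, 2, 2, -2, -2, -2, -2⟩, ⟨0, 0, 0, 0, 2, 2, 2, 2⟩, ⟨4, 0, 0, 0, 4, 0, 0, 0⟩, ⟨2, -2, -2, -2, 0, 0, 0, 0⟩, ⟨2, -2, -2, -2, -2, 2, 2, 2⟩, ⟨2, 2, 2, 2, 0, 0, 0, 0⟩, ⟨8, 0, 0, 0, -4, 0, 0, 0⟩],
  [⟨4, 0, 0, 0, 0, 0, 0, 0⟩, ⟨0, 0, 0, 0, 2, -2, 2, 2⟩, ⟨-2, 2, -2, 2, 2, -2, 2, -2⟩, ⟨0, 0, 0, 0, 2, 2, -2, -2⟩, ⟨4, 0, 0, 0, 4, 0, 0, 0⟩, ⟨2, 2, 2, -2, 0, 0, 0, 0⟩, ⟨-2, -2, 2, -2, 2, 2, -2, 2⟩, ⟨2, -2, -2, 2, 0, 0, 0, 0⟩, ⟨8, 0, 0, 0, -4, 0, 0, 0⟩],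
  [⟨4, 0, 0, 0, 0, 0, 0, 0⟩, ⟨0, 0, 0, 0, 2, -2, 2, 2⟩, ⟨2, -2, 2, -2, -2, 2, -2, 2⟩, ⟨0, 0, 0, 0, 2, 2, -2, -2⟩, ⟨4, 0, 0, 0, 4, 0, 0, 0⟩, ⟨-2, -2, -2, 2, 0, 0, 0, 0⟩, ⟨2, 2, -2, 2, -2, -2, 2, -2⟩, ⟨-2, 2, 2, -2, 0, 0, 0, 0⟩, ⟨8, 0, 0, 0, -4, 0, 0, 0⟩],
  [⟨4, 0, 0, 0, 0, 0, 0, 0⟩, ⟨0, 0, 0, 0, 2, 2, -2, 2⟩, ⟨-2, 2, 2, -2, 2, -2, -2, 2⟩, ⟨0, 0, 0, 0, 2, -2, 2, -2⟩, ⟨4, 0, 0, 0, 4, 0, 0, 0⟩, ⟨2, -2, 2, 2, 0, 0, 0, 0⟩, ⟨-2, -2, -2, 2, 2, 2, 2, -2⟩, ⟨2, 2, -2, -2, 0, 0, 0, 0⟩, ⟨8, 0, 0, 0, -4, 0, 0, 0⟩],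
  [⟨4, 0, 0, 0, 0, 0, 0, 0⟩, ⟨0, 0, 0, 0, 2, 2, -2, 2⟩, ⟨2, -2, -2, 2, -2, 2, 2, -2⟩, ⟨0, 0, 0, 0, 2, -2, 2, -2⟩, ⟨4, 0, 0, 0, 4, 0, 0, 0⟩, ⟨-2, 2, -2, -2, 0, 0, 0, 0⟩, ⟨2, 2, 2, -2, -2, -2, -2, 2⟩, ⟨-2, -2, 2, 2, 0, 0, 0, 0⟩, ⟨8, 0, 0, 0, -4, 0, 0, 0⟩],
  [⟨4, 0, 0, 0, 0, 0, 0, 0⟩, ⟨0, 0, 0, 0, 2, 2, 2, -2⟩, ⟨-2, -2, 2, 2, 2, 2, -2, -2⟩, ⟨0, 0, 0, 0, 2, -2, -2, 2⟩, ⟨4, 0, 0, 0, 4, 0, 0, 0⟩, ⟨2, 2, -2, 2, 0, 0, 0, 0⟩, ⟨-2, 2, -2, -2, 2, -2, 2, 2⟩, ⟨2, -2, 2, -2, 0, 0, 0, 0⟩, ⟨8, 0, 0, 0, -4, 0, 0, 0⟩],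
  [⟨4, 0, 0, 0, 0, 0, 0, 0⟩, ⟨0, 0, 0, 0, 2, 2, 2, -2⟩, ⟨2, 2, -2, -2, -2, -2, 2, 2⟩, ⟨0, 0, 0, 0, 2, -2, -2, 2⟩, ⟨4, 0, 0, 0, 4, 0, 0, 0⟩, ⟨-2, -2, 2, -2, 0, 0, 0, 0⟩, ⟨2, -2, 2, 2, -2, 2, -2, -2⟩, ⟨-2, 2, -2, 2, 0, 0, 0, 0⟩, ⟨8, 0, 0, 0, -4, 0, 0, 0⟩],
  [⟨4, 0, 0, 0, 0, 0, 0, 0⟩, ⟨0, 0, 0, 4, 0, 0, 0, 0⟩, ⟨-2, -2, -2, 2, 4, 0, 0, 0⟩, ⟨0, 0, 0, -4, 0, 0, 0, 0⟩, ⟨4, 0, 0, 0, 0, 0, 0, 0⟩, ⟨2, -2, 2, 2, 0, 0, 0, -4⟩, ⟨-2, 2, 2, -2, 4, 0, 0, 0⟩, ⟨2, 2, -2, -2, 0, 0, 0, 4⟩, ⟨8, 0, 0, 0, 0, 0, 0, 0⟩],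
  [⟨4, 0, 0, 0, 0, 0, 0, 0⟩, ⟨0, 0, 0, 4, 0, 0, 0, 0⟩, ⟨-2, -2, 2, -2, 0, 0, -4, 0⟩, ⟨0, 0, 0, -4, 0, 0, 0, 0⟩, ⟨4, 0, 0, 0, 0, 0, 0, 0⟩, ⟨-2, 2, 2, 2, 0, -4, 0, 0⟩, ⟨-2, 2, -2, 2, 0, 0, 4, 0⟩, ⟨-2, -2, -2, -2, 0, 4, 0, 0⟩, ⟨8, 0, 0, 0, 0, 0, 0, 0⟩],
  [⟨4, 0, 0, 0, 0, 0, 0, 0⟩, ⟨0, 0, 0, 4, 0, 0, 0, 0⟩, ⟨-2, 2, -2, -2, 0, 0, 0, 4⟩, ⟨0, 0, 0, -4, 0, 0, 0, 0⟩, ⟨4, 0, 0, 0, 0, 0, 0, 0⟩, ⟨-2, -2, -2, 2, 4, 0, 0, 0⟩, ⟨-2, -2, 2, 2, 0, 0, 0, -4⟩, ⟨-2, 2, 2, -2, 4, 0, 0, 0⟩, ⟨8, 0, 0, 0, 0, 0, 0, 0⟩],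
  [⟨4, 0, 0, 0, 0, 0, 0, 0⟩, ⟨0, 0, 0, 4, 0, 0, 0, 0⟩, ⟨-2, 2, 2, 2, 0, -4, 0, 0⟩, ⟨0, 0, 0, -4, 0, 0, 0, 0⟩, ⟨4, 0, 0, 0, 0, 0, 0, 0⟩, ⟨2, 2, -2, 2, 0, 0, 4, 0⟩, ⟨-2, -2, -2, -2, 0, 4, 0, 0⟩, ⟨2, -2, 2, -2, 0, 0, -4, 0⟩, ⟨8, 0, 0, 0, 0, 0, 0, 0⟩],
  [⟨4, 0, 0, 0, 0, 0, 0, 0⟩, ⟨0, 0, 0, 4, 0, 0, 0, 0⟩, ⟨2, -2, -2, -2, 0, 4, 0, 0⟩, ⟨0, 0, 0, -4, 0, 0, 0, 0⟩, ⟨4, 0, 0, 0, 0, 0, 0, 0⟩, ⟨-2, -2, 2, -2, 0, 0, -4, 0⟩, ⟨2, 2, 2, 2, 0, -4, 0, 0⟩, ⟨-2, 2, -2, 2, 0, 0, 4, 0⟩, ⟨8, 0, 0, 0, 0, 0, 0, 0⟩],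
  [⟨4, 0, 0, 0, 0, 0, 0, 0⟩, ⟨0, 0, 0, 4, 0, 0, 0, 0⟩, ⟨2, -2, 2, 2, 0, 0, 0, -4⟩, ⟨0, 0, 0, -4, 0, 0, 0, 0⟩, ⟨4, 0, 0, 0, 0, 0, 0, 0⟩, ⟨2, 2, 2, -2, -4, 0, 0, 0⟩, ⟨2, 2, -2, -2, 0, 0, 0, 4⟩, ⟨2, -2, -2, 2, -4, 0, 0, 0⟩, ⟨8, 0, 0, 0, 0, 0, 0, 0⟩],
  [⟨4, 0, 0, 0, 0, 0, 0, 0⟩, ⟨0, 0, 0, 4, 0, 0, 0, 0⟩, ⟨2, 2, -2, 2, 0, 0, 4, 0⟩, ⟨0, 0, 0, -4, 0, 0, 0, 0⟩, ⟨4, 0, 0, 0, 0, 0, 0, 0⟩, ⟨2, -2, -2, -2, 0, 4, 0, 0⟩, ⟨2, -2, 2, -2, 0, 0, -4, 0⟩, ⟨2, 2, 2, 2, 0, -4, 0, 0⟩, ⟨8, 0, 0, 0, 0, 0, 0, 0⟩],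
  [⟨4, 0, 0, 0, 0, 0, 0, 0⟩, ⟨0, 0, 0, 4, 0, 0, 0, 0⟩, ⟨2, 2, 2, -2, -4, 0, 0, 0⟩, ⟨0, 0, 0, -4, 0, 0, 0, 0⟩, ⟨4, 0, 0, 0, 0, 0, 0, 0⟩, ⟨-2, 2, -2, -2, 0, 0, 0, 4⟩, ⟨2, -2, -2, 2, -4, 0, 0, 0⟩, ⟨-2, -2, 2, 2, 0, 0, 0, -4⟩, ⟨8, 0, 0, 0, 0, 0, 0, 0⟩],
  [⟨4, 0, 0, 0, 0, 0, 0, 0⟩, ⟨0, 0, 4, 0, 0, 0, 0, 0⟩, ⟨-2, -2, -2, 2, 0, 0, 4, 0⟩, ⟨0, 0, -4, 0, 0, 0, 0, 0⟩, ⟨4, 0, 0, 0, 0, 0, 0, 0⟩, ⟨-2, -2, 2, -2, 4, 0, 0, 0⟩, ⟨-2, 2, 2, -2, 0, 0, -4, 0⟩, ⟨-2, 2, -2, 2, 4, 0, 0, 0⟩, ⟨8, 0, 0, 0, 0, 0, 0, 0⟩],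
  [⟨4, 0, 0, 0, 0, 0, 0, 0⟩, ⟨0, 0, 4, 0, 0, 0, 0, 0⟩, ⟨-2, -2, 2, -2, 4, 0, 0, 0⟩, ⟨0, 0, -4, 0, 0, 0, 0, 0⟩, ⟨4, 0, 0, 0, 0, 0, 0, 0⟩, ⟨2, 2, 2, -2, 0, 0, -4, 0⟩, ⟨-2, 2, -2, 2, 4, 0, 0, 0⟩, ⟨2, -2, -2, 2, 0, 0, 4, 0⟩, ⟨8, 0, 0, 0, 0, 0, 0, 0⟩],
  [⟨4, 0, 0, 0, 0, 0, 0, 0⟩, ⟨0, 0, 4, 0, 0, 0, 0, 0⟩, ⟨-2, 2, -2, -2, 0, -4, 0, 0⟩, ⟨0, 0, -4, 0, 0, 0, 0, 0⟩, ⟨4, 0, 0, 0, 0, 0, 0, 0⟩, ⟨-2, 2, 2, 2, 0, 0, 0, -4⟩, ⟨-2, -2, 2, 2, 0, 4, 0, 0⟩, ⟨-2, -2, -2, -2, 0, 0, 0, 4⟩, ⟨8, 0, 0, 0, 0, 0, 0, 0⟩],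
  [⟨4, 0, 0, 0, 0, 0, 0, 0⟩, ⟨0, 0, 4, 0, 0, 0, 0, 0⟩, ⟨-2, 2, 2, 2, 0, 0, 0, -4⟩, ⟨0, 0, -4, 0, 0, 0, 0, 0⟩, ⟨4, 0, 0, 0, 0, 0, 0, 0⟩, ⟨2, -2, 2, 2, 0, 4, 0, 0⟩, ⟨-2, -2, -2, -2, 0, 0, 0, 4⟩, ⟨2, 2, -2, -2, 0, -4, 0, 0⟩, ⟨8, 0, 0, 0, 0, 0, 0, 0⟩],
  [⟨4, 0, 0, 0, 0, 0, 0, 0⟩, ⟨0, 0, 4, 0, 0, 0, 0, 0⟩, ⟨2, -2, -2, -2, 0, 0, 0, 4⟩, ⟨0, 0, -4, 0, 0, 0, 0, 0⟩, ⟨4, 0, 0, 0, 0, 0, 0, 0⟩, ⟨-2, 2, -2, -2, 0, -4, 0, 0⟩, ⟨2, 2, 2, 2, 0, 0, 0, -4⟩, ⟨-2, -2, 2, 2, 0, 4, 0, 0⟩, ⟨8, 0, 0, 0, 0, 0, 0, 0⟩],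
  [⟨4, 0, 0, 0, 0, 0, 0, 0⟩, ⟨0, 0, 4, 0, 0, 0, 0, 0⟩, ⟨2, -2, 2, 2, 0, 4, 0, 0⟩, ⟨0, 0, -4, 0, 0, 0, 0, 0⟩, ⟨4, 0, 0, 0, 0, 0, 0, 0⟩, ⟨2, -2, -2, -2, 0, 0, 0, 4⟩, ⟨2, 2, -2, -2, 0, -4, 0, 0⟩, ⟨2, 2, 2, 2, 0, 0, 0, -4⟩, ⟨8, 0, 0, 0, 0, 0, 0, 0⟩],
  [⟨4, 0, 0, 0, 0, 0, 0, 0⟩, ⟨0, 0, 4, 0, 0, 0, 0, 0⟩, ⟨2, 2, -2, 2, -4, 0, 0, 0⟩, ⟨0, 0, -4, 0, 0, 0, 0, 0⟩, ⟨4, 0, 0, 0, 0, 0, 0, 0⟩, ⟨-2, -2, -2, 2, 0, 0, 4, 0⟩, ⟨2, -2, 2, -2, -4, 0, 0, 0⟩, ⟨-2, 2, 2, -2, 0, 0, -4, 0⟩, ⟨8, 0, 0, 0, 0, 0, 0, 0⟩],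
  [⟨4, 0, 0, 0, 0, 0, 0, 0⟩, ⟨0, 0, 4, 0, 0, 0, 0, 0⟩, ⟨2, 2, 2, -2, 0, 0, -4, 0⟩, ⟨0, 0, -4, 0, 0, 0, 0, 0⟩, ⟨4, 0, 0, 0, 0, 0, 0, 0⟩, ⟨2, 2, -2, 2, -4, 0, 0, 0⟩, ⟨2, -2, -2, 2, 0, 0, 4, 0⟩, ⟨2, -2, 2, -2, -4, 0, 0, 0⟩, ⟨8, 0, 0, 0, 0, 0, 0, 0⟩],
  [⟨4, 0, 0, 0, 0, 0, 0, 0⟩, ⟨0, 4, 0, 0, 0, 0, 0, 0⟩, ⟨-2, -2, -2, 2, 0, 0, 0, -4⟩, ⟨0, -4, 0, 0, 0, 0, 0, 0⟩, ⟨4, 0, 0, 0, 0, 0, 0, 0⟩, ⟨-2, 2, 2, 2, 0, 0, -4, 0⟩, ⟨-2, 2, 2, -2, 0, 0, 0, 4⟩, ⟨-2, -2, -2, -2, 0, 0, 4, 0⟩, ⟨8, 0, 0, 0, 0, 0, 0, 0⟩],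
  [⟨4, 0, 0, 0, 0, 0, 0, 0⟩, ⟨0, 4, 0, 0, 0, 0, 0, 0⟩, ⟨-2, -2, 2, -2, 0, 4, 0, 0⟩, ⟨0, -4, 0, 0, 0, 0, 0, 0⟩, ⟨4, 0, 0, 0, 0, 0, 0, 0⟩, ⟨-2, 2, -2, -2, 4, 0, 0, 0⟩, ⟨-2, 2, -2, 2, 0, -4, 0, 0⟩, ⟨-2, -2, 2, 2, 4, 0, 0, 0⟩, ⟨8, 0, 0, 0, 0, 0, 0, 0⟩],
  [⟨4, 0, 0, 0, 0, 0, 0, 0⟩, ⟨0, 4, 0, 0, 0, 0, 0, 0⟩, ⟨-2, 2, -2, -2, 4, 0, 0, 0⟩, ⟨0, -4, 0, 0, 0, 0, 0, 0⟩, ⟨4, 0, 0, 0, 0, 0, 0, 0⟩, ⟨2, 2, -2, 2, 0, -4, 0, 0⟩, ⟨-2, -2, 2, 2, 4, 0, 0, 0⟩, ⟨2, -2, 2, -2, 0, 4, 0, 0⟩, ⟨8, 0, 0, 0, 0, 0, 0, 0⟩],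
  [⟨4, 0, 0, 0, 0, 0, 0, 0⟩, ⟨0, 4, 0, 0, 0, 0, 0, 0⟩, ⟨-2, 2, 2, 2, 0, 0, -4, 0⟩, ⟨0, -4, 0, 0, 0, 0, 0, 0⟩, ⟨4, 0, 0, 0, 0, 0, 0, 0⟩, ⟨2, 2, 2, -2, 0, 0, 0, 4⟩, ⟨-2, -2, -2, -2, 0, 0, 4, 0⟩, ⟨2, -2, -2, 2, 0, 0, 0, -4⟩, ⟨8, 0, 0, 0, 0, 0, 0, 0⟩],
  [⟨4, 0, 0, 0, 0, 0, 0, 0⟩, ⟨0, 4, 0, 0, 0, 0, 0, 0⟩, ⟨2, -2, -2, -2, 0, 0, 4, 0⟩, ⟨0, -4, 0, 0, 0, 0, 0, 0⟩, ⟨4, 0, 0, 0, 0, 0, 0, 0⟩, ⟨-2, -2, -2, 2, 0, 0, 0, -4⟩, ⟨2, 2, 2, 2, 0, 0, -4, 0⟩, ⟨-2, 2, 2, -2, 0, 0, 0, 4⟩, ⟨8, 0, 0, 0, 0, 0, 0, 0⟩],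
  [⟨4, 0, 0, 0, 0, 0, 0, 0⟩, ⟨0, 4, 0, 0, 0, 0, 0, 0⟩, ⟨2, -2, 2, 2, -4, 0, 0, 0⟩, ⟨0, -4, 0, 0, 0, 0, 0, 0⟩, ⟨4, 0, 0, 0, 0, 0, 0, 0⟩, ⟨-2, -2, 2, -2, 0, 4, 0, 0⟩, ⟨2, 2, -2, -2, -4, 0, 0, 0⟩, ⟨-2, 2, -2, 2, 0, -4, 0, 0⟩, ⟨8, 0, 0, 0, 0, 0, 0, 0⟩],
  [⟨4, 0, 0, 0, 0, 0, 0, 0⟩, ⟨0, 4, 0, 0, 0, 0, 0, 0⟩, ⟨2, 2, -2, 2, 0, -4, 0, 0⟩, ⟨0, -4, 0, 0, 0, 0, 0, 0⟩, ⟨4, 0, 0, 0, 0, 0, 0, 0⟩, ⟨2, -2, 2, 2, -4, 0, 0, 0⟩, ⟨2, -2, 2, -2, 0, 4, 0, 0⟩, ⟨2, 2, -2, -2, -4, 0, 0, 0⟩, ⟨8, 0, 0, 0, 0, 0, 0, 0⟩],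
  [⟨4, 0, 0, 0, 0, 0, 0, 0⟩, ⟨0, 4, 0, 0, 0, 0, 0, 0⟩, ⟨2, 2, 2, -2, 0, 0, 0, 4⟩, ⟨0, -4, 0, 0, 0, 0, 0, 0⟩, ⟨4, 0, 0, 0, 0, 0, 0, 0⟩, ⟨2, -2, -2, -2, 0, 0, 4, 0⟩, ⟨2, -2, -2, 2, 0, 0, 0, -4⟩, ⟨2, 2, 2, 2, 0, 0, -4, 0⟩, ⟨8, 0, 0, 0, 0, 0, 0, 0⟩],
  [⟨4, 0, 0, 0, 0, 0, 0, 0⟩, ⟨2, -2, -2, -2, -4, 0, 0, 0⟩, ⟨-4, 0, 0, 0, 0, 0, 0, 0⟩, ⟨2, 2, 2, 2, -4, 0, 0, 0⟩, ⟨8, 0, 0, 0, 0, 0, 0, 0⟩, ⟨-2, -2, -2, -2, 4, 0, 0, 0⟩, ⟨-4, 0, 0, 0, 0, 0, 0, 0⟩, ⟨-2, 2, 2, 2, 4, 0, 0, 0⟩, ⟨4, 0, 0, 0, 0, 0, 0, 0⟩],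
  [⟨4, 0, 0, 0, 0, 0, 0, 0⟩, ⟨2, -2, -2, -2, -4, 0, 0, 0⟩, ⟨4, 0, 0, 0, 0, 0, 0, 0⟩, ⟨2, 2, 2, 2, -4, 0, 0, 0⟩, ⟨8, 0, 0, 0, 0, 0, 0, 0⟩, ⟨2, 2, 2, 2, -4, 0, 0, 0⟩, ⟨4, 0, 0, 0, 0, 0, 0, 0⟩, ⟨2, -2, -2, -2, -4, 0, 0, 0⟩, ⟨4, 0, 0, 0, 0, 0, 0, 0⟩],
  [⟨4, 0, 0, 0, 0, 0, 0, 0⟩, ⟨2, -2, -2, -2, 0, 0, 0, 4⟩, ⟨0, 0, -4, 0, 0, 0, 0, 0⟩, ⟨2, 2, 2, 2, 0, 0, 0, -4⟩, ⟨8, 0, 0, 0, 0, 0, 0, 0⟩, ⟨2, 2, -2, -2, 0, -4, 0, 0⟩, ⟨0, 0, 4, 0, 0, 0, 0, 0⟩, ⟨2, -2, 2, 2, 0, 4, 0, 0⟩, ⟨4, 0, 0, 0, 0, 0, 0, 0⟩],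
  [⟨4, 0, 0, 0, 0, 0, 0, 0⟩, ⟨2, -2, -2, -2, 0, 0, 0, 4⟩, ⟨0, 0, 4, 0, 0, 0, 0, 0⟩, ⟨2, 2, 2, 2, 0, 0, 0, -4⟩, ⟨8, 0, 0, 0, 0, 0, 0, 0⟩, ⟨-2, -2, 2, 2, 0, 4, 0, 0⟩, ⟨0, 0, -4, 0, 0, 0, 0, 0⟩, ⟨-2, 2, -2, -2, 0, -4, 0, 0⟩, ⟨4, 0, 0, 0, 0, 0, 0, 0⟩],
  [⟨4, 0, 0, 0, 0, 0, 0, 0⟩, ⟨2, -2, -2, -2, 0, 0, 4, 0⟩, ⟨0, -4, 0, 0, 0, 0, 0, 0⟩, ⟨2, 2, 2, 2, 0, 0, -4, 0⟩, ⟨8, 0, 0, 0, 0, 0, 0, 0⟩, ⟨2, -2, -2, 2, 0, 0, 0, -4⟩, ⟨0, 4, 0, 0, 0, 0, 0, 0⟩, ⟨2, 2, 2, -2, 0, 0, 0, 4⟩, ⟨4, 0, 0, 0, 0, 0, 0, 0⟩],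
  [⟨4, 0, 0, 0, 0, 0, 0, 0⟩, ⟨2, -2, -2, -2, 0, 0, 4, 0⟩, ⟨0, 4, 0, 0, 0, 0, 0, 0⟩, ⟨2, 2, 2, 2, 0, 0, -4, 0⟩, ⟨8, 0, 0, 0, 0, 0, 0, 0⟩, ⟨-2, 2, 2, -2, 0, 0, 0, 4⟩, ⟨0, -4, 0, 0, 0, 0, 0, 0⟩, ⟨-2, -2, -2, 2, 0, 0, 0, -4⟩, ⟨4, 0, 0, 0, 0, 0, 0, 0⟩],
  [⟨4, 0, 0, 0, 0, 0, 0, 0⟩, ⟨2, -2, -2, -2, 0, 4, 0, 0⟩, ⟨0, 0, 0, -4, 0, 0, 0, 0⟩, ⟨2, 2, 2, 2, 0, -4, 0, 0⟩, ⟨8, 0, 0, 0, 0, 0, 0, 0⟩, ⟨2, -2, 2, -2, 0, 0, -4, 0⟩, ⟨0, 0, 0, 4, 0, 0, 0, 0⟩, ⟨2, 2, -2, 2, 0, 0, 4, 0⟩, ⟨4, 0, 0, 0, 0, 0, 0, 0⟩],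
  [⟨4, 0, 0, 0, 0, 0, 0, 0⟩, ⟨2, -2, -2, -2, 0, 4, 0, 0⟩, ⟨0, 0, 0, 4, 0, 0, 0, 0⟩, ⟨2, 2, 2, 2, 0, -4, 0, 0⟩, ⟨8, 0, 0, 0, 0, 0, 0, 0⟩, ⟨-2, 2, -2, 2, 0, 0, 4, 0⟩, ⟨0, 0, 0, -4, 0, 0, 0, 0⟩, ⟨-2, -2, 2, -2, 0, 0, -4, 0⟩, ⟨4, 0, 0, 0, 0, 0, 0, 0⟩],
  [⟨4, 0, 0, 0, 0, 0, 0, 0⟩, ⟨2, -2, -2, 2, -2, 2, 2, -2⟩, ⟨0, 0, 0, 0, -2, -2, 2, -2⟩, ⟨2, 2, 2, -2, -2, -2, -2, 2⟩, ⟨8, 0, 0, 0, -4, 0, 0, 0⟩, ⟨2, 2, -2, -2, 0, 0, 0, 0⟩, ⟨0, 0, 0, 0, -2, 2, -2, 2⟩, ⟨2, -2, 2, 2, 0, 0, 0, 0⟩, ⟨4, 0, 0, 0, 4, 0, 0, 0⟩],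
  [⟨4, 0, 0, 0, 0, 0, 0, 0⟩, ⟨2, -2, -2, 2, -2, 2, 2, -2⟩, ⟨0, 0, 0, 0, 2, 2, -2, 2⟩, ⟨2, 2, 2, -2, -2, -2, -2, 2⟩, ⟨8, 0, 0, 0, -4, 0, 0, 0⟩, ⟨-2, -2, 2, 2, 0, 0, 0, 0⟩, ⟨0, 0, 0, 0, 2, -2, 2, -2⟩, ⟨-2, 2, -2, -2, 0, 0, 0, 0⟩, ⟨4, 0, 0, 0, 4, 0, 0, 0⟩],
  [⟨4, 0, 0, 0, 0, 0, 0, 0⟩, ⟨2, -2, 2, -2, -2, 2, -2, 2⟩, ⟨0, 0, 0, 0, -2, 2, -2, -2⟩, ⟨2, 2, -2, 2, -2, -2, 2, -2⟩, ⟨8, 0, 0, 0, -4, 0, 0, 0⟩, ⟨2, -2, -2, 2, 0, 0, 0, 0⟩, ⟨0, 0, 0, 0, -2, -2, 2, 2⟩, ⟨2, 2, 2, -2, 0, 0, 0, 0⟩, ⟨4, 0, 0, 0, 4, 0, 0, 0⟩],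
  [⟨4, 0, 0, 0, 0, 0, 0, 0⟩, ⟨2, -2, 2, -2, -2, 2, -2, 2⟩, ⟨0, 0, 0, 0, 2, -2, 2, 2⟩, ⟨2, 2, -2, 2, -2, -2, 2, -2⟩, ⟨8, 0, 0, 0, -4, 0, 0, 0⟩, ⟨-2, 2, 2, -2, 0, 0, 0, 0⟩, ⟨0, 0, 0, 0, 2, 2, -2, -2⟩, ⟨-2, -2, -2, 2, 0, 0, 0, 0⟩, ⟨4, 0, 0, 0, 4, 0, 0, 0⟩],
  [⟨4, 0, 0, 0, 0, 0, 0, 0⟩, ⟨2, -2, 2, 2, -4, 0, 0, 0⟩, ⟨0, -4, 0, 0, 0, 0, 0, 0⟩, ⟨2, 2, -2, -2, -4, 0, 0, 0⟩, ⟨8, 0, 0, 0, 0, 0, 0, 0⟩, ⟨2, -2, 2, -2, 0, 4, 0, 0⟩, ⟨0, 4, 0, 0, 0, 0, 0, 0⟩, ⟨2, 2, -2, 2, 0, -4, 0, 0⟩, ⟨4, 0, 0, 0, 0, 0, 0, 0⟩]]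
noncomputable def ks3 : List (List Q) := [[⟨4, 0, 0, 0, 0, 0, 0, 0⟩, ⟨2, -2, 2, 2, -4, 0, 0, 0⟩, ⟨0, 4, 0, 0, 0, 0, 0, 0⟩, ⟨2, 2, -2, -2, -4, 0, 0, 0⟩, ⟨8, 0, 0, 0, 0, 0, 0, 0⟩, ⟨-2, 2, -2, 2, 0, -4, 0, 0⟩, ⟨0, -4, 0, 0, 0, 0, 0, 0⟩, ⟨-2, -2, 2, -2, 0, 4, 0, 0⟩, ⟨4, 0, 0, 0, 0, 0, 0, 0⟩],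
  [⟨4, 0, 0, 0, 0, 0, 0, 0⟩, ⟨2, -2, 2, 2, 0, 0, -4, 0⟩, ⟨-4, 0, 0, 0, 0, 0, 0, 0⟩, ⟨2, 2, -2, -2, 0, 0, 4, 0⟩, ⟨8, 0, 0, 0, 0, 0, 0, 0⟩, ⟨-2, -2, 2, 2, 0, 0, -4, 0⟩, ⟨-4, 0, 0, 0, 0, 0, 0, 0⟩, ⟨-2, 2, -2, -2, 0, 0, 4, 0⟩, ⟨4, 0, 0, 0, 0, 0, 0, 0⟩],
  [⟨4, 0, 0, 0, 0, 0, 0, 0⟩, ⟨2, -2, 2, 2, 0, 0, -4, 0⟩, ⟨4, 0, 0, 0, 0, 0, 0, 0⟩, ⟨2, 2, -2, -2, 0, 0, 4, 0⟩, ⟨8, 0, 0, 0, 0, 0, 0, 0⟩, ⟨2, 2, -2, -2, 0, 0, 4, 0⟩, ⟨4, 0, 0, 0, 0, 0, 0, 0⟩, ⟨2, -2, 2, 2, 0, 0, -4, 0⟩, ⟨4, 0, 0, 0, 0, 0, 0, 0⟩],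
  [⟨4, 0, 0, 0, 0, 0, 0, 0⟩, ⟨2, -2, 2, 2, 0, 0, 0, -4⟩, ⟨0, 0, 0, -4, 0, 0, 0, 0⟩, ⟨2, 2, -2, -2, 0, 0, 0, 4⟩, ⟨8, 0, 0, 0, 0, 0, 0, 0⟩, ⟨-2, 2, 2, -2, 4, 0, 0, 0⟩, ⟨0, 0, 0, 4, 0, 0, 0, 0⟩, ⟨-2, -2, -2, 2, 4, 0, 0, 0⟩, ⟨4, 0, 0, 0, 0, 0, 0, 0⟩],
  [⟨4, 0, 0, 0, 0, 0, 0, 0⟩, ⟨2, -2, 2, 2, 0, 0, 0, -4⟩, ⟨0, 0, 0, 4, 0, 0, 0, 0⟩, ⟨2, 2, -2, -2, 0, 0, 0, 4⟩, ⟨8, 0, 0, 0, 0, 0, 0, 0⟩, ⟨2, -2, -2, 2, -4, 0, 0, 0⟩, ⟨0, 0, 0, -4, 0, 0, 0, 0⟩, ⟨2, 2, 2, -2, -4, 0, 0, 0⟩, ⟨4, 0, 0, 0, 0, 0, 0, 0⟩],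
  [⟨4, 0, 0, 0, 0, 0, 0, 0⟩, ⟨2, -2, 2, 2, 0, 4, 0, 0⟩, ⟨0, 0, -4, 0, 0, 0, 0, 0⟩, ⟨2, 2, -2, -2, 0, -4, 0, 0⟩, ⟨8, 0, 0, 0, 0, 0, 0, 0⟩, ⟨-2, -2, -2, -2, 0, 0, 0, 4⟩, ⟨0, 0, 4, 0, 0, 0, 0, 0⟩, ⟨-2, 2, 2, 2, 0, 0, 0, -4⟩, ⟨4, 0, 0, 0, 0, 0, 0, 0⟩],
  [⟨4, 0, 0, 0, 0, 0, 0, 0⟩, ⟨2, -2, 2, 2, 0, 4, 0, 0⟩, ⟨0, 0, 4, 0, 0, 0, 0, 0⟩, ⟨2, 2, -2, -2, 0, -4, 0, 0⟩, ⟨8, 0, 0, 0, 0, 0, 0, 0⟩, ⟨2, 2, 2, 2, 0, 0, 0, -4⟩, ⟨0, 0, -4, 0, 0, 0, 0, 0⟩, ⟨2, -2, -2, -2, 0, 0, 0, 4⟩, ⟨4, 0, 0, 0, 0, 0, 0, 0⟩],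
  [⟨4, 0, 0, 0, 0, 0, 0, 0⟩, ⟨2, 2, -2, -2, -2, -2, 2, 2⟩, ⟨0, 0, 0, 0, -2, -2, -2, 2⟩, ⟨2, -2, 2, 2, -2, 2, -2, -2⟩, ⟨8, 0, 0, 0, -4, 0, 0, 0⟩, ⟨2, -2, 2, -2, 0, 0, 0, 0⟩, ⟨0, 0, 0, 0, -2, 2, 2, -2⟩, ⟨2, 2, -2, 2, 0, 0, 0, 0⟩, ⟨4, 0, 0, 0, 4, 0, 0, 0⟩],
  [⟨4, 0, 0, 0, 0, 0, 0, 0⟩, ⟨2, 2, -2, -2, -2, -2, 2, 2⟩, ⟨0, 0, 0, 0, 2, 2, 2, -2⟩, ⟨2, -2, 2, 2, -2, 2, -2, -2⟩, ⟨8, 0, 0, 0, -4, 0, 0, 0⟩, ⟨-2, 2, -2, 2, 0, 0, 0, 0⟩, ⟨0, 0, 0, 0, 2, -2, -2, 2⟩, ⟨-2, -2, 2, -2, 0, 0, 0, 0⟩, ⟨4, 0, 0, 0, 4, 0, 0, 0⟩],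
  [⟨4, 0, 0, 0, 0, 0, 0, 0⟩, ⟨2, 2, -2, 2, -4, 0, 0, 0⟩, ⟨0, 0, -4, 0, 0, 0, 0, 0⟩, ⟨2, -2, 2, -2, -4, 0, 0, 0⟩, ⟨8, 0, 0, 0, 0, 0, 0, 0⟩, ⟨2, -2, -2, 2, 0, 0, 4, 0⟩, ⟨0, 0, 4, 0, 0, 0, 0, 0⟩, ⟨2, 2, 2, -2, 0, 0, -4, 0⟩, ⟨4, 0, 0, 0, 0, 0, 0, 0⟩],
  [⟨4, 0, 0, 0, 0, 0, 0, 0⟩, ⟨2, 2, -2, 2, -4, 0, 0, 0⟩, ⟨0, 0, 4, 0, 0, 0, 0, 0⟩, ⟨2, -2, 2, -2, -4, 0, 0, 0⟩, ⟨8, 0, 0, 0, 0, 0, 0, 0⟩, ⟨-2, 2, 2, -2, 0, 0, -4, 0⟩, ⟨0, 0, -4, 0, 0, 0, 0, 0⟩, ⟨-2, -2, -2, 2, 0, 0, 4, 0⟩, ⟨4, 0, 0, 0, 0, 0, 0, 0⟩],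
  [⟨4, 0, 0, 0, 0, 0, 0, 0⟩, ⟨2, 2, -2, 2, 0, -4, 0, 0⟩, ⟨0, -4, 0, 0, 0, 0, 0, 0⟩, ⟨2, -2, 2, -2, 0, 4, 0, 0⟩, ⟨8, 0, 0, 0, 0, 0, 0, 0⟩, ⟨-2, -2, 2, 2, 4, 0, 0, 0⟩, ⟨0, 4, 0, 0, 0, 0, 0, 0⟩, ⟨-2, 2, -2, -2, 4, 0, 0, 0⟩, ⟨4, 0, 0, 0, 0, 0, 0, 0⟩],
  [⟨4, 0, 0, 0, 0, 0, 0, 0⟩, ⟨2, 2, -2, 2, 0, -4, 0, 0⟩, ⟨0, 4, 0, 0, 0, 0, 0, 0⟩, ⟨2, -2, 2, -2, 0, 4, 0, 0⟩, ⟨8, 0, 0, 0, 0, 0, 0, 0⟩, ⟨2, 2, -2, -2, -4, 0, 0, 0⟩, ⟨0, -4, 0, 0, 0, 0, 0, 0⟩, ⟨2, -2, 2, 2, -4, 0, 0, 0⟩, ⟨4, 0, 0, 0, 0, 0, 0, 0⟩],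
  [⟨4, 0, 0, 0, 0, 0, 0, 0⟩, ⟨2, 2, -2, 2, 0, 0, 0, -4⟩, ⟨-4, 0, 0, 0, 0, 0, 0, 0⟩, ⟨2, -2, 2, -2, 0, 0, 0, 4⟩, ⟨8, 0, 0, 0, 0, 0, 0, 0⟩, ⟨-2, 2, -2, 2, 0, 0, 0, -4⟩, ⟨-4, 0, 0, 0, 0, 0, 0, 0⟩, ⟨-2, -2, 2, -2, 0, 0, 0, 4⟩, ⟨4, 0, 0, 0, 0, 0, 0, 0⟩],
  [⟨4, 0, 0, 0, 0, 0, 0, 0⟩, ⟨2, 2, -2, 2, 0, 0, 0, -4⟩, ⟨4, 0, 0, 0, 0, 0, 0, 0⟩, ⟨2, -2, 2, -2, 0, 0, 0, 4⟩, ⟨8, 0, 0, 0, 0, 0, 0, 0⟩, ⟨2, -2, 2, -2, 0, 0, 0, 4⟩, ⟨4, 0, 0, 0, 0, 0, 0, 0⟩, ⟨2, 2, -2, 2, 0, 0, 0, -4⟩, ⟨4, 0, 0, 0, 0, 0, 0, 0⟩],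
  [⟨4, 0, 0, 0, 0, 0, 0, 0⟩, ⟨2, 2, -2, 2, 0, 0, 4, 0⟩, ⟨0, 0, 0, -4, 0, 0, 0, 0⟩, ⟨2, -2, 2, -2, 0, 0, -4, 0⟩, ⟨8, 0, 0, 0, 0, 0, 0, 0⟩, ⟨-2, -2, -2, -2, 0, 4, 0, 0⟩, ⟨0, 0, 0, 4, 0, 0, 0, 0⟩, ⟨-2, 2, 2, 2, 0, -4, 0, 0⟩, ⟨4, 0, 0, 0, 0, 0, 0, 0⟩],
  [⟨4, 0, 0, 0, 0, 0, 0, 0⟩, ⟨2, 2, -2, 2, 0, 0, 4, 0⟩, ⟨0, 0, 0, 4, 0, 0, 0, 0⟩, ⟨2, -2, 2, -2, 0, 0, -4, 0⟩, ⟨8, 0, 0, 0, 0, 0, 0, 0⟩, ⟨2, 2, 2, 2, 0, -4, 0, 0⟩, ⟨0, 0, 0, -4, 0, 0, 0, 0⟩, ⟨2, -2, -2, -2, 0, 4, 0, 0⟩, ⟨4, 0, 0, 0, 0, 0, 0, 0⟩],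
  [⟨4, 0, 0, 0, 0, 0, 0, 0⟩, ⟨2, 2, 2, -2, -4, 0, 0, 0⟩, ⟨0, 0, 0, -4, 0, 0, 0, 0⟩, ⟨2, -2, -2, 2, -4, 0, 0, 0⟩, ⟨8, 0, 0, 0, 0, 0, 0, 0⟩, ⟨2, 2, -2, -2, 0, 0, 0, 4⟩, ⟨0, 0, 0, 4, 0, 0, 0, 0⟩, ⟨2, -2, 2, 2, 0, 0, 0, -4⟩, ⟨4, 0, 0, 0, 0, 0, 0, 0⟩],
  [⟨4, 0, 0, 0, 0, 0, 0, 0⟩, ⟨2, 2, 2, -2, -4, 0, 0, 0⟩, ⟨0, 0, 0, 4, 0, 0, 0, 0⟩, ⟨2, -2, -2, 2, -4, 0, 0, 0⟩, ⟨8, 0, 0, 0, 0, 0, 0, 0⟩, ⟨-2, -2, 2, 2, 0, 0, 0, -4⟩, ⟨0, 0, 0, -4, 0, 0, 0, 0⟩, ⟨-2, 2, -2, -2, 0, 0, 0, 4⟩, ⟨4, 0, 0, 0, 0, 0, 0, 0⟩],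
  [⟨4, 0, 0, 0, 0, 0, 0, 0⟩, ⟨2, 2, 2, -2, 0, -4, 0, 0⟩, ⟨-4, 0, 0, 0, 0, 0, 0, 0⟩, ⟨2, -2, -2, 2, 0, 4, 0, 0⟩, ⟨8, 0, 0, 0, 0, 0, 0, 0⟩, ⟨-2, 2, 2, -2, 0, -4, 0, 0⟩, ⟨-4, 0, 0, 0, 0, 0, 0, 0⟩, ⟨-2, -2, -2, 2, 0, 4, 0, 0⟩, ⟨4, 0, 0, 0, 0, 0, 0, 0⟩],
  [⟨4, 0, 0, 0, 0, 0, 0, 0⟩, ⟨2, 2, 2, -2, 0, -4, 0, 0⟩, ⟨4, 0, 0, 0, 0, 0, 0, 0⟩, ⟨2, -2, -2, 2, 0, 4, 0, 0⟩, ⟨8, 0, 0, 0, 0, 0, 0, 0⟩, ⟨2, -2, -2, 2, 0, 4, 0, 0⟩, ⟨4, 0, 0, 0, 0, 0, 0, 0⟩, ⟨2, 2, 2, -2, 0, -4, 0, 0⟩, ⟨4, 0, 0, 0, 0, 0, 0, 0⟩],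
  [⟨4, 0, 0, 0, 0, 0, 0, 0⟩, ⟨2, 2, 2, -2, 0, 0, -4, 0⟩, ⟨0, 0, -4, 0, 0, 0, 0, 0⟩, ⟨2, -2, -2, 2, 0, 0, 4, 0⟩, ⟨8, 0, 0, 0, 0, 0, 0, 0⟩, ⟨-2, 2, -2, 2, 4, 0, 0, 0⟩, ⟨0, 0, 4, 0, 0, 0, 0, 0⟩, ⟨-2, -2, 2, -2, 4, 0, 0, 0⟩, ⟨4, 0, 0, 0, 0, 0, 0, 0⟩],
  [⟨4, 0, 0, 0, 0, 0, 0, 0⟩, ⟨2, 2, 2, -2, 0, 0, -4, 0⟩, ⟨0, 0, 4, 0, 0, 0, 0, 0⟩, ⟨2, -2, -2, 2, 0, 0, 4, 0⟩, ⟨8, 0, 0, 0, 0, 0, 0, 0⟩, ⟨2, -2, 2, -2, -4, 0, 0, 0⟩, ⟨0, 0, -4, 0, 0, 0, 0, 0⟩, ⟨2, 2, -2, 2, -4, 0, 0, 0⟩, ⟨4, 0, 0, 0, 0, 0, 0, 0⟩],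
  [⟨4, 0, 0, 0, 0, 0, 0, 0⟩, ⟨2, 2, 2, -2, 0, 0, 0, 4⟩, ⟨0, -4, 0, 0, 0, 0, 0, 0⟩, ⟨2, -2, -2, 2, 0, 0, 0, -4⟩, ⟨8, 0, 0, 0, 0, 0, 0, 0⟩, ⟨-2, -2, -2, -2, 0, 0, 4, 0⟩, ⟨0, 4, 0, 0, 0, 0, 0, 0⟩, ⟨-2, 2, 2, 2, 0, 0, -4, 0⟩, ⟨4, 0, 0, 0, 0, 0, 0, 0⟩],
  [⟨4, 0, 0, 0, 0, 0, 0, 0⟩, ⟨2, 2, 2, -2, 0, 0, 0, 4⟩, ⟨0, 4, 0, 0, 0, 0, 0, 0⟩, ⟨2, -2, -2, 2, 0, 0, 0, -4⟩, ⟨8, 0, 0, 0, 0, 0, 0, 0⟩, ⟨2, 2, 2, 2, 0, 0, -4, 0⟩, ⟨0, -4, 0, 0, 0, 0, 0, 0⟩, ⟨2, -2, -2, -2, 0, 0, 4, 0⟩, ⟨4, 0, 0, 0, 0, 0, 0, 0⟩],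
  [⟨4, 0, 0, 0, 0, 0, 0, 0⟩, ⟨2, 2, 2, 2, -2, -2, -2, -2⟩, ⟨0, 0, 0, 0, -2, 2, 2, 2⟩, ⟨2, -2, -2, -2, -2, 2, 2, 2⟩, ⟨8, 0, 0, 0, -4, 0, 0, 0⟩, ⟨-2, -2, -2, -2, 0, 0, 0, 0⟩, ⟨0, 0, 0, 0, -2, -2, -2, -2⟩, ⟨-2, 2, 2, 2, 0, 0, 0, 0⟩, ⟨4, 0, 0, 0, 4, 0, 0, 0⟩],
  [⟨4, 0, 0, 0, 0, 0, 0, 0⟩, ⟨2, 2, 2, 2, -2, -2, -2, -2⟩, ⟨0, 0, 0, 0, 2, -2, -2, -2⟩, ⟨2, -2, -2, -2, -2, 2, 2, 2⟩, ⟨8, 0, 0, 0, -4, 0, 0, 0⟩, ⟨2, 2, 2, 2, 0, 0, 0, 0⟩, ⟨0, 0, 0, 0, 2, 2, 2, 2⟩, ⟨2, -2, -2, -2, 0, 0, 0, 0⟩, ⟨4, 0, 0, 0, 4, 0, 0, 0⟩],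
  [⟨4, 0, 0, 0, 0, 0, 0, 0⟩, ⟨4, 0, 0, 0, 0, 0, 0, 0⟩, ⟨-2, -2, -2, 2, 0, 4, 0, 0⟩, ⟨4, 0, 0, 0, 0, 0, 0, 0⟩, ⟨4, 0, 0, 0, 0, 0, 0, 0⟩, ⟨-2, -2, -2, 2, 0, 4, 0, 0⟩, ⟨-2, 2, 2, -2, 0, -4, 0, 0⟩, ⟨-2, 2, 2, -2, 0, -4, 0, 0⟩, ⟨8, 0, 0, 0, 0, 0, 0, 0⟩],
  [⟨4, 0, 0, 0, 0, 0, 0, 0⟩, ⟨4, 0, 0, 0, 0, 0, 0, 0⟩, ⟨-2, -2, 2, -2, 0, 0, 0, 4⟩, ⟨4, 0, 0, 0, 0, 0, 0, 0⟩, ⟨4, 0, 0, 0, 0, 0, 0, 0⟩, ⟨-2, -2, 2, -2, 0, 0, 0, 4⟩, ⟨-2, 2, -2, 2, 0, 0, 0, -4⟩, ⟨-2, 2, -2, 2, 0, 0, 0, -4⟩, ⟨8, 0, 0, 0, 0, 0, 0, 0⟩],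
  [⟨4, 0, 0, 0, 0, 0, 0, 0⟩, ⟨4, 0, 0, 0, 0, 0, 0, 0⟩, ⟨-2, 2, -2, -2, 0, 0, 4, 0⟩, ⟨4, 0, 0, 0, 0, 0, 0, 0⟩, ⟨4, 0, 0, 0, 0, 0, 0, 0⟩, ⟨-2, 2, -2, -2, 0, 0, 4, 0⟩, ⟨-2, -2, 2, 2, 0, 0, -4, 0⟩, ⟨-2, -2, 2, 2, 0, 0, -4, 0⟩, ⟨8, 0, 0, 0, 0, 0, 0, 0⟩],
  [⟨4, 0, 0, 0, 0, 0, 0, 0⟩, ⟨4, 0, 0, 0, 0, 0, 0, 0⟩, ⟨-2, 2, 2, 2, 4, 0, 0, 0⟩, ⟨4, 0, 0, 0, 0, 0, 0, 0⟩, ⟨4, 0, 0, 0, 0, 0, 0, 0⟩, ⟨-2, 2, 2, 2, 4, 0, 0, 0⟩, ⟨-2, -2, -2, -2, 4, 0, 0, 0⟩, ⟨-2, -2, -2, -2, 4, 0, 0, 0⟩, ⟨8, 0, 0, 0, 0, 0, 0, 0⟩],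
  [⟨4, 0, 0, 0, 0, 0, 0, 0⟩, ⟨4, 0, 0, 0, 0, 0, 0, 0⟩, ⟨2, -2, -2, -2, -4, 0, 0, 0⟩, ⟨4, 0, 0, 0, 0, 0, 0, 0⟩, ⟨4, 0, 0, 0, 0, 0, 0, 0⟩, ⟨2, -2, -2, -2, -4, 0, 0, 0⟩, ⟨2, 2, 2, 2, -4, 0, 0, 0⟩, ⟨2, 2, 2, 2, -4, 0, 0, 0⟩, ⟨8, 0, 0, 0, 0, 0, 0, 0⟩],
  [⟨4, 0, 0, 0, 0, 0, 0, 0⟩, ⟨4, 0, 0, 0, 0, 0, 0, 0⟩, ⟨2, -2, 2, 2, 0, 0, -4, 0⟩, ⟨4, 0, 0, 0, 0, 0, 0, 0⟩, ⟨4, 0, 0, 0, 0, 0, 0, 0⟩, ⟨2, -2, 2, 2, 0, 0, -4, 0⟩, ⟨2, 2, -2, -2, 0, 0, 4, 0⟩, ⟨2, 2, -2, -2, 0, 0, 4, 0⟩, ⟨8, 0, 0, 0, 0, 0, 0, 0⟩],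
  [⟨4, 0, 0, 0, 0, 0, 0, 0⟩, ⟨4, 0, 0, 0, 0, 0, 0, 0⟩, ⟨2, 2, -2, 2, 0, 0, 0, -4⟩, ⟨4, 0, 0, 0, 0, 0, 0, 0⟩, ⟨4, 0, 0, 0, 0, 0, 0, 0⟩, ⟨2, 2, -2, 2, 0, 0, 0, -4⟩, ⟨2, -2, 2, -2, 0, 0, 0, 4⟩, ⟨2, -2, 2, -2, 0, 0, 0, 4⟩, ⟨8, 0, 0, 0, 0, 0, 0, 0⟩],
  [⟨4, 0, 0, 0, 0, 0, 0, 0⟩, ⟨4, 0, 0, 0, 0, 0, 0, 0⟩, ⟨2, 2, 2, -2, 0, -4, 0, 0⟩, ⟨4, 0, 0, 0, 0, 0, 0, 0⟩, ⟨4, 0, 0, 0, 0, 0, 0, 0⟩, ⟨2, 2, 2, -2, 0, -4, 0, 0⟩, ⟨2, -2, -2, 2, 0, 4, 0, 0⟩, ⟨2, -2, -2, 2, 0, 4, 0, 0⟩, ⟨8, 0, 0, 0, 0, 0, 0, 0⟩],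
  [⟨4, 0, 0, 0, 4, 0, 0, 0⟩, ⟨-2, -2, -2, 2, 0, 0, 0, 0⟩, ⟨0, 0, 0, 0, -2, -2, 2, 2⟩, ⟨-2, 2, 2, -2, 0, 0, 0, 0⟩, ⟨8, 0, 0, 0, -4, 0, 0, 0⟩, ⟨-2, -2, 2, -2, 2, 2, -2, 2⟩, ⟨0, 0, 0, 0, -2, 2, -2, -2⟩, ⟨-2, 2, -2, 2, 2, -2, 2, -2⟩, ⟨4, 0, 0, 0, 0, 0, 0, 0⟩],
  [⟨4, 0, 0, 0, 4, 0, 0, 0⟩, ⟨-2, -2, -2, 2, 0, 0, 0, 0⟩, ⟨0, 0, 0, 0, 2, 2, -2, -2⟩, ⟨-2, 2, 2, -2, 0, 0, 0, 0⟩, ⟨8, 0, 0, 0, -4, 0, 0, 0⟩, ⟨2, 2, -2, 2, -2, -2, 2, -2⟩, ⟨0, 0, 0, 0, 2, -2, 2, 2⟩, ⟨2, -2, 2, -2, -2, 2, -2, 2⟩, ⟨4, 0, 0, 0, 0, 0, 0, 0⟩],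
  [⟨4, 0, 0, 0, 4, 0, 0, 0⟩, ⟨-2, -2, 2, -2, 0, 0, 0, 0⟩, ⟨0, 0, 0, 0, -2, 2, 2, -2⟩, ⟨-2, 2, -2, 2, 0, 0, 0, 0⟩, ⟨8, 0, 0, 0, -4, 0, 0, 0⟩, ⟨-2, 2, -2, -2, 2, -2, 2, 2⟩, ⟨0, 0, 0, 0, -2, -2, -2, 2⟩, ⟨-2, -2, 2, 2, 2, 2, -2, -2⟩, ⟨4, 0, 0, 0, 0, 0, 0, 0⟩],
  [⟨4, 0, 0, 0, 4, 0, 0, 0⟩, ⟨-2, -2, 2, -2, 0, 0, 0, 0⟩, ⟨0, 0, 0, 0, 2, -2, -2, 2⟩, ⟨-2, 2, -2, 2, 0, 0, 0, 0⟩, ⟨8, 0, 0, 0, -4, 0, 0, 0⟩, ⟨2, -2, 2, 2, -2, 2, -2, -2⟩, ⟨0, 0, 0, 0, 2, 2, 2, -2⟩, ⟨2, 2, -2, -2, -2, -2, 2, 2⟩, ⟨4, 0, 0, 0, 0, 0, 0, 0⟩],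
  [⟨4, 0, 0, 0, 4, 0, 0, 0⟩, ⟨-2, 2, -2, -2, 0, 0, 0, 0⟩, ⟨0, 0, 0, 0, -2, 2, -2, 2⟩, ⟨-2, -2, 2, 2, 0, 0, 0, 0⟩, ⟨8, 0, 0, 0, -4, 0, 0, 0⟩, ⟨-2, -2, -2, 2, 2, 2, 2, -2⟩, ⟨0, 0, 0, 0, -2, -2, 2, -2⟩, ⟨-2, 2, 2, -2, 2, -2, -2, 2⟩, ⟨4, 0, 0, 0, 0, 0, 0, 0⟩],
  [⟨4, 0, 0, 0, 4, 0, 0, 0⟩, ⟨-2, 2, -2, -2, 0, 0, 0, 0⟩, ⟨0, 0, 0, 0, 2, -2, 2, -2⟩, ⟨-2, -2, 2, 2, 0, 0, 0, 0⟩, ⟨8, 0, 0, 0, -4, 0, 0, 0⟩, ⟨2, 2, 2, -2, -2, -2, -2, 2⟩, ⟨0, 0, 0, 0, 2, 2, -2, 2⟩, ⟨2, -2, -2, 2, -2, 2, 2, -2⟩, ⟨4, 0, 0, 0, 0, 0, 0, 0⟩],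
  [⟨4, 0, 0, 0, 4, 0, 0, 0⟩, ⟨-2, 2, 2, 2, 0, 0, 0, 0⟩, ⟨0, 0, 0, 0, -2, -2, -2, -2⟩, ⟨-2, -2, -2, -2, 0, 0, 0, 0⟩, ⟨8, 0, 0, 0, -4, 0, 0, 0⟩, ⟨2, -2, -2, -2, -2, 2, 2, 2⟩, ⟨0, 0, 0, 0, -2, 2, 2, 2⟩, ⟨2, 2, 2, 2, -2, -2, -2, -2⟩, ⟨4, 0, 0, 0, 0, 0, 0, 0⟩],
  [⟨4, 0, 0, 0, 4, 0, 0, 0⟩, ⟨-2, 2, 2, 2, 0, 0, 0, 0⟩, ⟨0, 0, 0, 0, 2, 2, 2, 2⟩, ⟨-2, -2, -2, -2, 0, 0, 0, 0⟩, ⟨8, 0, 0, 0, -4, 0, 0, 0⟩, ⟨-2, 2, 2, 2, 2, -2, -2, -2⟩, ⟨0, 0, 0, 0, 2, -2, -2, -2⟩, ⟨-2, -2, -2, -2, 2, 2, 2, 2⟩, ⟨4, 0, 0, 0, 0, 0, 0, 0⟩],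
  [⟨4, 0, 0, 0, 4, 0, 0, 0⟩, ⟨0, 0, 0, 0, -2, -2, -2, -2⟩, ⟨-2, 2, 2, 2, 0, 0, 0, 0⟩, ⟨0, 0, 0, 0, -2, 2, 2, 2⟩, ⟨4, 0, 0, 0, 0, 0, 0, 0⟩, ⟨2, 2, 2, 2, -2, -2, -2, -2⟩, ⟨-2, -2, -2, -2, 0, 0, 0, 0⟩, ⟨2, -2, -2, -2, -2, 2, 2, 2⟩, ⟨8, 0, 0, 0, -4, 0, 0, 0⟩],
  [⟨4, 0, 0, 0, 4, 0, 0, 0⟩, ⟨0, 0, 0, 0, -2, -2, -2, -2⟩, ⟨2, -2, -2, -2, 0, 0, 0, 0⟩, ⟨0, 0, 0, 0, -2, 2, 2, 2⟩, ⟨4, 0, 0, 0, 0, 0, 0, 0⟩, ⟨-2, -2, -2, -2, 2, 2, 2, 2⟩, ⟨2, 2, 2, 2, 0, 0, 0, 0⟩, ⟨-2, 2, 2, 2, 2, -2, -2, -2⟩, ⟨8, 0, 0, 0, -4, 0, 0, 0⟩]]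
noncomputable def ks4 : List (List Q) := [[⟨4, 0, 0, 0, 4, 0, 0, 0⟩, ⟨0, 0, 0, 0, -2, -2, 2, 2⟩, ⟨-2, -2, -2, 2, 0, 0, 0, 0⟩, ⟨0, 0, 0, 0, -2, 2, -2, -2⟩, ⟨4, 0, 0, 0, 0, 0, 0, 0⟩, ⟨-2, 2, -2, 2, 2, -2, 2, -2⟩, ⟨-2, 2, 2, -2, 0, 0, 0, 0⟩, ⟨-2, -2, 2, -2, 2, 2, -2, 2⟩, ⟨8, 0, 0, 0, -4, 0, 0, 0⟩],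
  [⟨4, 0, 0, 0, 4, 0, 0, 0⟩, ⟨0, 0, 0, 0, -2, -2, 2, 2⟩, ⟨2, 2, 2, -2, 0, 0, 0, 0⟩, ⟨0, 0, 0, 0, -2, 2, -2, -2⟩, ⟨4, 0, 0, 0, 0, 0, 0, 0⟩, ⟨2, -2, 2, -2, -2, 2, -2, 2⟩, ⟨2, -2, -2, 2, 0, 0, 0, 0⟩, ⟨2, 2, -2, 2, -2, -2, 2, -2⟩, ⟨8, 0, 0, 0, -4, 0, 0, 0⟩],
  [⟨4, 0, 0, 0, 4, 0, 0, 0⟩, ⟨0, 0, 0, 0, -2, 2, -2, 2⟩, ⟨-2, 2, -2, -2, 0, 0, 0, 0⟩, ⟨0, 0, 0, 0, -2, -2, 2, -2⟩, ⟨4, 0, 0, 0, 0, 0, 0, 0⟩, ⟨-2, 2, 2, -2, 2, -2, -2, 2⟩, ⟨-2, -2, 2, 2, 0, 0, 0, 0⟩, ⟨-2, -2, -2, 2, 2, 2, 2, -2⟩, ⟨8, 0, 0, 0, -4, 0, 0, 0⟩],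
  [⟨4, 0, 0, 0, 4, 0, 0, 0⟩, ⟨0, 0, 0, 0, -2, 2, -2, 2⟩, ⟨2, -2, 2, 2, 0, 0, 0, 0⟩, ⟨0, 0, 0, 0, -2, -2, 2, -2⟩, ⟨4, 0, 0, 0, 0, 0, 0, 0⟩, ⟨2, -2, -2, 2, -2, 2, 2, -2⟩, ⟨2, 2, -2, -2, 0, 0, 0, 0⟩, ⟨2, 2, 2, -2, -2, -2, -2, 2⟩, ⟨8, 0, 0, 0, -4, 0, 0, 0⟩],
  [⟨4, 0, 0, 0, 4, 0, 0, 0⟩, ⟨0, 0, 0, 0, -2, 2, 2, -2⟩, ⟨-2, -2, 2, -2, 0, 0, 0, 0⟩, ⟨0, 0, 0, 0, -2, -2, -2, 2⟩, ⟨4, 0, 0, 0, 0, 0, 0, 0⟩, ⟨-2, -2, 2, 2, 2, 2, -2, -2⟩, ⟨-2, 2, -2, 2, 0, 0, 0, 0⟩, ⟨-2, 2, -2, -2, 2, -2, 2, 2⟩, ⟨8, 0, 0, 0, -4, 0, 0, 0⟩],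
  [⟨4, 0, 0, 0, 4, 0, 0, 0⟩, ⟨0, 0, 0, 0, -2, 2, 2, -2⟩, ⟨2, 2, -2, 2, 0, 0, 0, 0⟩, ⟨0, 0, 0, 0, -2, -2, -2, 2⟩, ⟨4, 0, 0, 0, 0, 0, 0, 0⟩, ⟨2, 2, -2, -2, -2, -2, 2, 2⟩, ⟨2, -2, 2, -2, 0, 0, 0, 0⟩, ⟨2, -2, 2, 2, -2, 2, -2, -2⟩, ⟨8, 0, 0, 0, -4, 0, 0, 0⟩],
  [⟨4, 0, 0, 0, 4, 0, 0, 0⟩, ⟨0, 0, 0, 0, 2, -2, -2, 2⟩, ⟨-2, -2, 2, -2, 0, 0, 0, 0⟩, ⟨0, 0, 0, 0, 2, 2, 2, -2⟩, ⟨4, 0, 0, 0, 0, 0, 0, 0⟩, ⟨2, 2, -2, -2, -2, -2, 2, 2⟩, ⟨-2, 2, -2, 2, 0, 0, 0, 0⟩, ⟨2, -2, 2, 2, -2, 2, -2, -2⟩, ⟨8, 0, 0, 0, -4, 0, 0, 0⟩],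
  [⟨4, 0, 0, 0, 4, 0, 0, 0⟩, ⟨0, 0, 0, 0, 2, -2, -2, 2⟩, ⟨2, 2, -2, 2, 0, 0, 0, 0⟩, ⟨0, 0, 0, 0, 2, 2, 2, -2⟩, ⟨4, 0, 0, 0, 0, 0, 0, 0⟩, ⟨-2, -2, 2, 2, 2, 2, -2, -2⟩, ⟨2, -2, 2, -2, 0, 0, 0, 0⟩, ⟨-2, 2, -2, -2, 2, -2, 2, 2⟩, ⟨8, 0, 0, 0, -4, 0, 0, 0⟩],
  [⟨4, 0, 0, 0, 4, 0, 0, 0⟩, ⟨0, 0, 0, 0, 2, -2, 2, -2⟩, ⟨-2, 2, -2, -2, 0, 0, 0, 0⟩, ⟨0, 0, 0, 0, 2, 2, -2, 2⟩, ⟨4, 0, 0, 0, 0, 0, 0, 0⟩, ⟨2, -2, -2, 2, -2, 2, 2, -2⟩, ⟨-2, -2, 2, 2, 0, 0, 0, 0⟩, ⟨2, 2, 2, -2, -2, -2, -2, 2⟩, ⟨8, 0, 0, 0, -4, 0, 0, 0⟩],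
  [⟨4, 0, 0, 0, 4, 0, 0, 0⟩, ⟨0, 0, 0, 0, 2, -2, 2, -2⟩, ⟨2, -2, 2, 2, 0, 0, 0, 0⟩, ⟨0, 0, 0, 0, 2, 2, -2, 2⟩, ⟨4, 0, 0, 0, 0, 0, 0, 0⟩, ⟨-2, 2, 2, -2, 2, -2, -2, 2⟩, ⟨2, 2, -2, -2, 0, 0, 0, 0⟩, ⟨-2, -2, -2, 2, 2, 2, 2, -2⟩, ⟨8, 0, 0, 0, -4, 0, 0, 0⟩],
  [⟨4, 0, 0, 0, 4, 0, 0, 0⟩, ⟨0, 0, 0, 0, 2, 2, -2, -2⟩, ⟨-2, -2, -2, 2, 0, 0, 0, 0⟩, ⟨0, 0, 0, 0, 2, -2, 2, 2⟩, ⟨4, 0, 0, 0, 0, 0, 0, 0⟩, ⟨2, -2, 2, -2, -2, 2, -2, 2⟩, ⟨-2, 2, 2, -2, 0, 0, 0, 0⟩, ⟨2, 2, -2, 2, -2, -2, 2, -2⟩, ⟨8, 0, 0, 0, -4, 0, 0, 0⟩],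
  [⟨4, 0, 0, 0, 4, 0, 0, 0⟩, ⟨0, 0, 0, 0, 2, 2, -2, -2⟩, ⟨2, 2, 2, -2, 0, 0, 0, 0⟩, ⟨0, 0, 0, 0, 2, -2, 2, 2⟩, ⟨4, 0, 0, 0, 0, 0, 0, 0⟩, ⟨-2, 2, -2, 2, 2, -2, 2, -2⟩, ⟨2, -2, -2, 2, 0, 0, 0, 0⟩, ⟨-2, -2, 2, -2, 2, 2, -2, 2⟩, ⟨8, 0, 0, 0, -4, 0, 0, 0⟩],
  [⟨4, 0, 0, 0, 4, 0, 0, 0⟩, ⟨0, 0, 0, 0, 2, 2, 2, 2⟩, ⟨-2, 2, 2, 2, 0, 0, 0, 0⟩, ⟨0, 0, 0, 0, 2, -2, -2, -2⟩, ⟨4, 0, 0, 0, 0, 0, 0, 0⟩, ⟨-2, -2, -2, -2, 2, 2, 2, 2⟩, ⟨-2, -2, -2, -2, 0, 0, 0, 0⟩, ⟨-2, 2, 2, 2, 2, -2, -2, -2⟩, ⟨8, 0, 0, 0, -4, 0, 0, 0⟩],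
  [⟨4, 0, 0, 0, 4, 0, 0, 0⟩, ⟨0, 0, 0, 0, 2, 2, 2, 2⟩, ⟨2, -2, -2, -2, 0, 0, 0, 0⟩, ⟨0, 0, 0, 0, 2, -2, -2, -2⟩, ⟨4, 0, 0, 0, 0, 0, 0, 0⟩, ⟨2, 2, 2, 2, -2, -2, -2, -2⟩, ⟨2, 2, 2, 2, 0, 0, 0, 0⟩, ⟨2, -2, -2, -2, -2, 2, 2, 2⟩, ⟨8, 0, 0, 0, -4, 0, 0, 0⟩],
  [⟨4, 0, 0, 0, 4, 0, 0, 0⟩, ⟨2, -2, -2, -2, 0, 0, 0, 0⟩, ⟨0, 0, 0, 0, -2, -2, -2, -2⟩, ⟨2, 2, 2, 2, 0, 0, 0, 0⟩, ⟨8, 0, 0, 0, -4, 0, 0, 0⟩, ⟨-2, 2, 2, 2, 2, -2, -2, -2⟩, ⟨0, 0, 0, 0, -2, 2, 2, 2⟩, ⟨-2, -2, -2, -2, 2, 2, 2, 2⟩, ⟨4, 0, 0, 0, 0, 0, 0, 0⟩],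
  [⟨4, 0, 0, 0, 4, 0, 0, 0⟩, ⟨2, -2, -2, -2, 0, 0, 0, 0⟩, ⟨0, 0, 0, 0, 2, 2, 2, 2⟩, ⟨2, 2, 2, 2, 0, 0, 0, 0⟩, ⟨8, 0, 0, 0, -4, 0, 0, 0⟩, ⟨2, -2, -2, -2, -2, 2, 2, 2⟩, ⟨0, 0, 0, 0, 2, -2, -2, -2⟩, ⟨2, 2, 2, 2, -2, -2, -2, -2⟩, ⟨4, 0, 0, 0, 0, 0, 0, 0⟩],
  [⟨4, 0, 0, 0, 4, 0, 0, 0⟩, ⟨2, -2, 2, 2, 0, 0, 0, 0⟩, ⟨0, 0, 0, 0, -2, 2, -2, 2⟩, ⟨2, 2, -2, -2, 0, 0, 0, 0⟩, ⟨8, 0, 0, 0, -4, 0, 0, 0⟩, ⟨2, 2, 2, -2, -2, -2, -2, 2⟩, ⟨0, 0, 0, 0, -2, -2, 2, -2⟩, ⟨2, -2, -2, 2, -2, 2, 2, -2⟩, ⟨4, 0, 0, 0, 0, 0, 0, 0⟩],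
  [⟨4, 0, 0, 0, 4, 0, 0, 0⟩, ⟨2, -2, 2, 2, 0, 0, 0, 0⟩, ⟨0, 0, 0, 0, 2, -2, 2, -2⟩, ⟨2, 2, -2, -2, 0, 0, 0, 0⟩, ⟨8, 0, 0, 0, -4, 0, 0, 0⟩, ⟨-2, -2, -2, 2, 2, 2, 2, -2⟩, ⟨0, 0, 0, 0, 2, 2, -2, 2⟩, ⟨-2, 2, 2, -2, 2, -2, -2, 2⟩, ⟨4, 0, 0, 0, 0, 0, 0, 0⟩],
  [⟨4, 0, 0, 0, 4, 0, 0, 0⟩, ⟨2, 2, -2, 2, 0, 0, 0, 0⟩, ⟨0, 0, 0, 0, -2, 2, 2, -2⟩, ⟨2, -2, 2, -2, 0, 0, 0, 0⟩, ⟨8, 0, 0, 0, -4, 0, 0, 0⟩, ⟨2, -2, 2, 2, -2, 2, -2, -2⟩, ⟨0, 0, 0, 0, -2, -2, -2, 2⟩, ⟨2, 2, -2, -2, -2, -2, 2, 2⟩, ⟨4, 0, 0, 0, 0, 0, 0, 0⟩],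
  [⟨4, 0, 0, 0, 4, 0, 0, 0⟩, ⟨2, 2, -2, 2, 0, 0, 0, 0⟩, ⟨0, 0, 0, 0, 2, -2, -2, 2⟩, ⟨2, -2, 2, -2, 0, 0, 0, 0⟩, ⟨8, 0, 0, 0, -4, 0, 0, 0⟩, ⟨-2, 2, -2, -2, 2, -2, 2, 2⟩, ⟨0, 0, 0, 0, 2, 2, 2, -2⟩, ⟨-2, -2, 2, 2, 2, 2, -2, -2⟩, ⟨4, 0, 0, 0, 0, 0, 0, 0⟩],
  [⟨4, 0, 0, 0, 4, 0, 0, 0⟩, ⟨2, 2, 2, -2, 0, 0, 0, 0⟩, ⟨0, 0, 0, 0, -2, -2, 2, 2⟩, ⟨2, -2, -2, 2, 0, 0, 0, 0⟩, ⟨8, 0, 0, 0, -4, 0, 0, 0⟩, ⟨2, 2, -2, 2, -2, -2, 2, -2⟩, ⟨0, 0, 0, 0, -2, 2, -2, -2⟩, ⟨2, -2, 2, -2, -2, 2, -2, 2⟩, ⟨4, 0, 0, 0, 0, 0, 0, 0⟩],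
  [⟨4, 0, 0, 0, 4, 0, 0, 0⟩, ⟨2, 2, 2, -2, 0, 0, 0, 0⟩, ⟨0, 0, 0, 0, 2, 2, -2, -2⟩, ⟨2, -2, -2, 2, 0, 0, 0, 0⟩, ⟨8, 0, 0, 0, -4, 0, 0, 0⟩, ⟨-2, -2, 2, -2, 2, 2, -2, 2⟩, ⟨0, 0, 0, 0, 2, -2, 2, 2⟩, ⟨-2, 2, -2, 2, 2, -2, 2, -2⟩, ⟨4, 0, 0, 0, 0, 0, 0, 0⟩],
  [⟨8, 0, 0, 0, -4, 0, 0, 0⟩, ⟨-2, -2, -2, -2, 0, 0, 0, 0⟩, ⟨-2, 2, 2, 2, 2, -2, -2, -2⟩, ⟨-2, 2, 2, 2, 0, 0, 0, 0⟩, ⟨4, 0, 0, 0, 4, 0, 0, 0⟩, ⟨0, 0, 0, 0, 2, 2, 2, 2⟩, ⟨-2, -2, -2, -2, 2, 2, 2, 2⟩, ⟨0, 0, 0, 0, 2, -2, -2, -2⟩, ⟨4, 0, 0, 0, 0, 0, 0, 0⟩],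
  [⟨8, 0, 0, 0, -4, 0, 0, 0⟩, ⟨-2, -2, -2, -2, 0, 0, 0, 0⟩, ⟨2, -2, -2, -2, -2, 2, 2, 2⟩, ⟨-2, 2, 2, 2, 0, 0, 0, 0⟩, ⟨4, 0, 0, 0, 4, 0, 0, 0⟩, ⟨0, 0, 0, 0, -2, -2, -2, -2⟩, ⟨2, 2, 2, 2, -2, -2, -2, -2⟩, ⟨0, 0, 0, 0, -2, 2, 2, 2⟩, ⟨4, 0, 0, 0, 0, 0, 0, 0⟩],
  [⟨8, 0, 0, 0, -4, 0, 0, 0⟩, ⟨-2, -2, -2, 2, 2, 2, 2, -2⟩, ⟨-2, -2, 2, 2, 0, 0, 0, 0⟩, ⟨-2, 2, 2, -2, 2, -2, -2, 2⟩, ⟨4, 0, 0, 0, 0, 0, 0, 0⟩, ⟨0, 0, 0, 0, -2, -2, 2, -2⟩, ⟨-2, 2, -2, -2, 0, 0, 0, 0⟩, ⟨0, 0, 0, 0, -2, 2, -2, 2⟩, ⟨4, 0, 0, 0, 4, 0, 0, 0⟩],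
  [⟨8, 0, 0, 0, -4, 0, 0, 0⟩, ⟨-2, -2, -2, 2, 2, 2, 2, -2⟩, ⟨2, 2, -2, -2, 0, 0, 0, 0⟩, ⟨-2, 2, 2, -2, 2, -2, -2, 2⟩, ⟨4, 0, 0, 0, 0, 0, 0, 0⟩, ⟨0, 0, 0, 0, 2, 2, -2, 2⟩, ⟨2, -2, 2, 2, 0, 0, 0, 0⟩, ⟨0, 0, 0, 0, 2, -2, 2, -2⟩, ⟨4, 0, 0, 0, 4, 0, 0, 0⟩],
  [⟨8, 0, 0, 0, -4, 0, 0, 0⟩, ⟨-2, -2, 2, -2, 2, 2, -2, 2⟩, ⟨-2, 2, 2, -2, 0, 0, 0, 0⟩, ⟨-2, 2, -2, 2, 2, -2, 2, -2⟩, ⟨4, 0, 0, 0, 0, 0, 0, 0⟩, ⟨0, 0, 0, 0, -2, 2, -2, -2⟩, ⟨-2, -2, -2, 2, 0, 0, 0, 0⟩, ⟨0, 0, 0, 0, -2, -2, 2, 2⟩, ⟨4, 0, 0, 0, 4, 0, 0, 0⟩],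
  [⟨8, 0, 0, 0, -4, 0, 0, 0⟩, ⟨-2, -2, 2, -2, 2, 2, -2, 2⟩, ⟨2, -2, -2, 2, 0, 0, 0, 0⟩, ⟨-2, 2, -2, 2, 2, -2, 2, -2⟩, ⟨4, 0, 0, 0, 0, 0, 0, 0⟩, ⟨0, 0, 0, 0, 2, -2, 2, 2⟩, ⟨2, 2, 2, -2, 0, 0, 0, 0⟩, ⟨0, 0, 0, 0, 2, 2, -2, -2⟩, ⟨4, 0, 0, 0, 4, 0, 0, 0⟩],
  [⟨8, 0, 0, 0, -4, 0, 0, 0⟩, ⟨-2, -2, 2, 2, 0, 0, 0, 0⟩, ⟨-2, -2, -2, 2, 2, 2, 2, -2⟩, ⟨-2, 2, -2, -2, 0, 0, 0, 0⟩, ⟨4, 0, 0, 0, 4, 0, 0, 0⟩, ⟨0, 0, 0, 0, -2, 2, -2, 2⟩, ⟨-2, 2, 2, -2, 2, -2, -2, 2⟩, ⟨0, 0, 0, 0, -2, -2, 2, -2⟩, ⟨4, 0, 0, 0, 0, 0, 0, 0⟩],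
  [⟨8, 0, 0, 0, -4, 0, 0, 0⟩, ⟨-2, -2, 2, 2, 0, 0, 0, 0⟩, ⟨2, 2, 2, -2, -2, -2, -2, 2⟩, ⟨-2, 2, -2, -2, 0, 0, 0, 0⟩, ⟨4, 0, 0, 0, 4, 0, 0, 0⟩, ⟨0, 0, 0, 0, 2, -2, 2, -2⟩, ⟨2, -2, -2, 2, -2, 2, 2, -2⟩, ⟨0, 0, 0, 0, 2, 2, -2, 2⟩, ⟨4, 0, 0, 0, 0, 0, 0, 0⟩],
  [⟨8, 0, 0, 0, -4, 0, 0, 0⟩, ⟨-2, 2, -2, -2, 2, -2, 2, 2⟩, ⟨-2, 2, -2, 2, 0, 0, 0, 0⟩, ⟨-2, -2, 2, 2, 2, 2, -2, -2⟩, ⟨4, 0, 0, 0, 0, 0, 0, 0⟩, ⟨0, 0, 0, 0, -2, -2, -2, 2⟩, ⟨-2, -2, 2, -2, 0, 0, 0, 0⟩, ⟨0, 0, 0, 0, -2, 2, 2, -2⟩, ⟨4, 0, 0, 0, 4, 0, 0, 0⟩],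
  [⟨8, 0, 0, 0, -4, 0, 0, 0⟩, ⟨-2, 2, -2, -2, 2, -2, 2, 2⟩, ⟨2, -2, 2, -2, 0, 0, 0, 0⟩, ⟨-2, -2, 2, 2, 2, 2, -2, -2⟩, ⟨4, 0, 0, 0, 0, 0, 0, 0⟩, ⟨0, 0, 0, 0, 2, 2, 2, -2⟩, ⟨2, 2, -2, 2, 0, 0, 0, 0⟩, ⟨0, 0, 0, 0, 2, -2, -2, 2⟩, ⟨4, 0, 0, 0, 4, 0, 0, 0⟩],
  [⟨8, 0, 0, 0, -4, 0, 0, 0⟩, ⟨-2, 2, -2, 2, 0, 0, 0, 0⟩, ⟨-2, 2, -2, -2, 2, -2, 2, 2⟩, ⟨-2, -2, 2, -2, 0, 0, 0, 0⟩, ⟨4, 0, 0, 0, 4, 0, 0, 0⟩, ⟨0, 0, 0, 0, -2, 2, 2, -2⟩, ⟨-2, -2, 2, 2, 2, 2, -2, -2⟩, ⟨0, 0, 0, 0, -2, -2, -2, 2⟩, ⟨4, 0, 0, 0, 0, 0, 0, 0⟩],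
  [⟨8, 0, 0, 0, -4, 0, 0, 0⟩, ⟨-2, 2, -2, 2, 0, 0, 0, 0⟩, ⟨2, -2, 2, 2, -2, 2, -2, -2⟩, ⟨-2, -2, 2, -2, 0, 0, 0, 0⟩, ⟨4, 0, 0, 0, 4, 0, 0, 0⟩, ⟨0, 0, 0, 0, 2, -2, -2, 2⟩, ⟨2, 2, -2, -2, -2, -2, 2, 2⟩, ⟨0, 0, 0, 0, 2, 2, 2, -2⟩, ⟨4, 0, 0, 0, 0, 0, 0, 0⟩],
  [⟨8, 0, 0, 0, -4, 0, 0, 0⟩, ⟨-2, 2, 2, -2, 0, 0, 0, 0⟩, ⟨-2, -2, 2, -2, 2, 2, -2, 2⟩, ⟨-2, -2, -2, 2, 0, 0, 0, 0⟩, ⟨4, 0, 0, 0, 4, 0, 0, 0⟩, ⟨0, 0, 0, 0, -2, -2, 2, 2⟩, ⟨-2, 2, -2, 2, 2, -2, 2, -2⟩, ⟨0, 0, 0, 0, -2, 2, -2, -2⟩, ⟨4, 0, 0, 0, 0, 0, 0, 0⟩],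
  [⟨8, 0, 0, 0, -4, 0, 0, 0⟩, ⟨-2, 2, 2, -2, 0, 0, 0, 0⟩, ⟨2, 2, -2, 2, -2, -2, 2, -2⟩, ⟨-2, -2, -2, 2, 0, 0, 0, 0⟩, ⟨4, 0, 0, 0, 4, 0, 0, 0⟩, ⟨0, 0, 0, 0, 2, 2, -2, -2⟩, ⟨2, -2, 2, -2, -2, 2, -2, 2⟩, ⟨0, 0, 0, 0, 2, -2, 2, 2⟩, ⟨4, 0, 0, 0, 0, 0, 0, 0⟩],
  [⟨8, 0, 0, 0, -4, 0, 0, 0⟩, ⟨-2, 2, 2, 2, 2, -2, -2, -2⟩, ⟨-2, -2, -2, -2, 0, 0, 0, 0⟩, ⟨-2, -2, -2, -2, 2, 2, 2, 2⟩, ⟨4, 0, 0, 0, 0, 0, 0, 0⟩, ⟨0, 0, 0, 0, 2, -2, -2, -2⟩, ⟨-2, 2, 2, 2, 0, 0, 0, 0⟩, ⟨0, 0, 0, 0, 2, 2, 2, 2⟩, ⟨4, 0, 0, 0, 4, 0, 0, 0⟩],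
  [⟨8, 0, 0, 0, -4, 0, 0, 0⟩, ⟨-2, 2, 2, 2, 2, -2, -2, -2⟩, ⟨2, 2, 2, 2, 0, 0, 0, 0⟩, ⟨-2, -2, -2, -2, 2, 2, 2, 2⟩, ⟨4, 0, 0, 0, 0, 0, 0, 0⟩, ⟨0, 0, 0, 0, -2, 2, 2, 2⟩, ⟨2, -2, -2, -2, 0, 0, 0, 0⟩, ⟨0, 0, 0, 0, -2, -2, -2, -2⟩, ⟨4, 0, 0, 0, 4, 0, 0, 0⟩],
  [⟨8, 0, 0, 0, -4, 0, 0, 0⟩, ⟨2, -2, -2, -2, -2, 2, 2, 2⟩, ⟨-2, -2, -2, -2, 0, 0, 0, 0⟩, ⟨2, 2, 2, 2, -2, -2, -2, -2⟩, ⟨4, 0, 0, 0, 0, 0, 0, 0⟩, ⟨0, 0, 0, 0, -2, 2, 2, 2⟩, ⟨-2, 2, 2, 2, 0, 0, 0, 0⟩, ⟨0, 0, 0, 0, -2, -2, -2, -2⟩, ⟨4, 0, 0, 0, 4, 0, 0, 0⟩],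
  [⟨8, 0, 0, 0, -4, 0, 0, 0⟩, ⟨2, -2, -2, -2, -2, 2, 2, 2⟩, ⟨2, 2, 2, 2, 0, 0, 0, 0⟩, ⟨2, 2, 2, 2, -2, -2, -2, -2⟩, ⟨4, 0, 0, 0, 0, 0, 0, 0⟩, ⟨0, 0, 0, 0, 2, -2, -2, -2⟩, ⟨2, -2, -2, -2, 0, 0, 0, 0⟩, ⟨0, 0, 0, 0, 2, 2, 2, 2⟩, ⟨4, 0, 0, 0, 4, 0, 0, 0⟩],
  [⟨8, 0, 0, 0, -4, 0, 0, 0⟩, ⟨2, -2, -2, 2, 0, 0, 0, 0⟩, ⟨-2, -2, 2, -2, 2, 2, -2, 2⟩, ⟨2, 2, 2, -2, 0, 0, 0, 0⟩, ⟨4, 0, 0, 0, 4, 0, 0, 0⟩, ⟨0, 0, 0, 0, 2, 2, -2, -2⟩, ⟨-2, 2, -2, 2, 2, -2, 2, -2⟩, ⟨0, 0, 0, 0, 2, -2, 2, 2⟩, ⟨4, 0, 0, 0, 0, 0, 0, 0⟩],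
  [⟨8, 0, 0, 0, -4, 0, 0, 0⟩, ⟨2, -2, -2, 2, 0, 0, 0, 0⟩, ⟨2, 2, -2, 2, -2, -2, 2, -2⟩, ⟨2, 2, 2, -2, 0, 0, 0, 0⟩, ⟨4, 0, 0, 0, 4, 0, 0, 0⟩, ⟨0, 0, 0, 0, -2, -2, 2, 2⟩, ⟨2, -2, 2, -2, -2, 2, -2, 2⟩, ⟨0, 0, 0, 0, -2, 2, -2, -2⟩, ⟨4, 0, 0, 0, 0, 0, 0, 0⟩],
  [⟨8, 0, 0, 0, -4, 0, 0, 0⟩, ⟨2, -2, 2, -2, 0, 0, 0, 0⟩, ⟨-2, 2, -2, -2, 2, -2, 2, 2⟩, ⟨2, 2, -2, 2, 0, 0, 0, 0⟩, ⟨4, 0, 0, 0, 4, 0, 0, 0⟩, ⟨0, 0, 0, 0, 2, -2, -2, 2⟩, ⟨-2, -2, 2, 2, 2, 2, -2, -2⟩, ⟨0, 0, 0, 0, 2, 2, 2, -2⟩, ⟨4, 0, 0, 0, 0, 0, 0, 0⟩],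
  [⟨8, 0, 0, 0, -4, 0, 0, 0⟩, ⟨2, -2, 2, -2, 0, 0, 0, 0⟩, ⟨2, -2, 2, 2, -2, 2, -2, -2⟩, ⟨2, 2, -2, 2, 0, 0, 0, 0⟩, ⟨4, 0, 0, 0, 4, 0, 0, 0⟩, ⟨0, 0, 0, 0, -2, 2, 2, -2⟩, ⟨2, 2, -2, -2, -2, -2, 2, 2⟩, ⟨0, 0, 0, 0, -2, -2, -2, 2⟩, ⟨4, 0, 0, 0, 0, 0, 0, 0⟩],
  [⟨8, 0, 0, 0, -4, 0, 0, 0⟩, ⟨2, -2, 2, 2, -2, 2, -2, -2⟩, ⟨-2, 2, -2, 2, 0, 0, 0, 0⟩, ⟨2, 2, -2, -2, -2, -2, 2, 2⟩, ⟨4, 0, 0, 0, 0, 0, 0, 0⟩, ⟨0, 0, 0, 0, 2, 2, 2, -2⟩, ⟨-2, -2, 2, -2, 0, 0, 0, 0⟩, ⟨0, 0, 0, 0, 2, -2, -2, 2⟩, ⟨4, 0, 0, 0, 4, 0, 0, 0⟩]]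
noncomputable def ks5 : List (List Q) := [[⟨8, 0, 0, 0, -4, 0, 0, 0⟩, ⟨2, -2, 2, 2, -2, 2, -2, -2⟩, ⟨2, -2, 2, -2, 0, 0, 0, 0⟩, ⟨2, 2, -2, -2, -2, -2, 2, 2⟩, ⟨4, 0, 0, 0, 0, 0, 0, 0⟩, ⟨0, 0, 0, 0, -2, -2, -2, 2⟩, ⟨2, 2, -2, 2, 0, 0, 0, 0⟩, ⟨0, 0, 0, 0, -2, 2, 2, -2⟩, ⟨4, 0, 0, 0, 4, 0, 0, 0⟩],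
  [⟨8, 0, 0, 0, -4, 0, 0, 0⟩, ⟨2, 2, -2, -2, 0, 0, 0, 0⟩, ⟨-2, -2, -2, 2, 2, 2, 2, -2⟩, ⟨2, -2, 2, 2, 0, 0, 0, 0⟩, ⟨4, 0, 0, 0, 4, 0, 0, 0⟩, ⟨0, 0, 0, 0, 2, -2, 2, -2⟩, ⟨-2, 2, 2, -2, 2, -2, -2, 2⟩, ⟨0, 0, 0, 0, 2, 2, -2, 2⟩, ⟨4, 0, 0, 0, 0, 0, 0, 0⟩],
  [⟨8, 0, 0, 0, -4, 0, 0, 0⟩, ⟨2, 2, -2, -2, 0, 0, 0, 0⟩, ⟨2, 2, 2, -2, -2, -2, -2, 2⟩, ⟨2, -2, 2, 2, 0, 0, 0, 0⟩, ⟨4, 0, 0, 0, 4, 0, 0, 0⟩, ⟨0, 0, 0, 0, -2, 2, -2, 2⟩, ⟨2, -2, -2, 2, -2, 2, 2, -2⟩, ⟨0, 0, 0, 0, -2, -2, 2, -2⟩, ⟨4, 0, 0, 0, 0, 0, 0, 0⟩],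
  [⟨8, 0, 0, 0, -4, 0, 0, 0⟩, ⟨2, 2, -2, 2, -2, -2, 2, -2⟩, ⟨-2, 2, 2, -2, 0, 0, 0, 0⟩, ⟨2, -2, 2, -2, -2, 2, -2, 2⟩, ⟨4, 0, 0, 0, 0, 0, 0, 0⟩, ⟨0, 0, 0, 0, 2, -2, 2, 2⟩, ⟨-2, -2, -2, 2, 0, 0, 0, 0⟩, ⟨0, 0, 0, 0, 2, 2, -2, -2⟩, ⟨4, 0, 0, 0, 4, 0, 0, 0⟩],
  [⟨8, 0, 0, 0, -4, 0, 0, 0⟩, ⟨2, 2, -2, 2, -2, -2, 2, -2⟩, ⟨2, -2, -2, 2, 0, 0, 0, 0⟩, ⟨2, -2, 2, -2, -2, 2, -2, 2⟩, ⟨4, 0, 0, 0, 0, 0, 0, 0⟩, ⟨0, 0, 0, 0, -2, 2, -2, -2⟩, ⟨2, 2, 2, -2, 0, 0, 0, 0⟩, ⟨0, 0, 0, 0, -2, -2, 2, 2⟩, ⟨4, 0, 0, 0, 4, 0, 0, 0⟩],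
  [⟨8, 0, 0, 0, -4, 0, 0, 0⟩, ⟨2, 2, 2, -2, -2, -2, -2, 2⟩, ⟨-2, -2, 2, 2, 0, 0, 0, 0⟩, ⟨2, -2, -2, 2, -2, 2, 2, -2⟩, ⟨4, 0, 0, 0, 0, 0, 0, 0⟩, ⟨0, 0, 0, 0, 2, 2, -2, 2⟩, ⟨-2, 2, -2, -2, 0, 0, 0, 0⟩, ⟨0, 0, 0, 0, 2, -2, 2, -2⟩, ⟨4, 0, 0, 0, 4, 0, 0, 0⟩],
  [⟨8, 0, 0, 0, -4, 0, 0, 0⟩, ⟨2, 2, 2, -2, -2, -2, -2, 2⟩, ⟨2, 2, -2, -2, 0, 0, 0, 0⟩, ⟨2, -2, -2, 2, -2, 2, 2, -2⟩, ⟨4, 0, 0, 0, 0, 0, 0, 0⟩, ⟨0, 0, 0, 0, -2, -2, 2, -2⟩, ⟨2, -2, 2, 2, 0, 0, 0, 0⟩, ⟨0, 0, 0, 0, -2, 2, -2, 2⟩, ⟨4, 0, 0, 0, 4, 0, 0, 0⟩],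
  [⟨8, 0, 0, 0, -4, 0, 0, 0⟩, ⟨2, 2, 2, 2, 0, 0, 0, 0⟩, ⟨-2, 2, 2, 2, 2, -2, -2, -2⟩, ⟨2, -2, -2, -2, 0, 0, 0, 0⟩, ⟨4, 0, 0, 0, 4, 0, 0, 0⟩, ⟨0, 0, 0, 0, -2, -2, -2, -2⟩, ⟨-2, -2, -2, -2, 2, 2, 2, 2⟩, ⟨0, 0, 0, 0, -2, 2, 2, 2⟩, ⟨4, 0, 0, 0, 0, 0, 0, 0⟩],
  [⟨8, 0, 0, 0, -4, 0, 0, 0⟩, ⟨2, 2, 2, 2, 0, 0, 0, 0⟩, ⟨2, -2, -2, -2, -2, 2, 2, 2⟩, ⟨2, -2, -2, -2, 0, 0, 0, 0⟩, ⟨4, 0, 0, 0, 4, 0, 0, 0⟩, ⟨0, 0, 0, 0, 2, 2, 2, 2⟩, ⟨2, 2, 2, 2, -2, -2, -2, -2⟩, ⟨0, 0, 0, 0, 2, -2, -2, -2⟩, ⟨4, 0, 0, 0, 0, 0, 0, 0⟩],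
  [⟨8, 0, 0, 0, 0, 0, 0, 0⟩, ⟨-8, 0, 0, 0, 0, 0, 0, 0⟩, ⟨0, 0, 0, 0, 0, 0, 0, 0⟩, ⟨-8, 0, 0, 0, 0, 0, 0, 0⟩, ⟨8, 0, 0, 0, 0, 0, 0, 0⟩, ⟨0, 0, 0, 0, 0, 0, 0, 0⟩, ⟨0, 0, 0, 0, 0, 0, 0, 0⟩, ⟨0, 0, 0, 0, 0, 0, 0, 0⟩, ⟨0, 0, 0, 0, 0, 0, 0, 0⟩],
  [⟨8, 0, 0, 0, 0, 0, 0, 0⟩, ⟨-2, -2, -2, -2, 0, 0, 0, 4⟩, ⟨-2, -2, 2, 2, 0, 4, 0, 0⟩, ⟨-2, 2, 2, 2, 0, 0, 0, -4⟩, ⟨4, 0, 0, 0, 0, 0, 0, 0⟩, ⟨0, 0, -4, 0, 0, 0, 0, 0⟩, ⟨-2, 2, -2, -2, 0, -4, 0, 0⟩, ⟨0, 0, 4, 0, 0, 0, 0, 0⟩, ⟨4, 0, 0, 0, 0, 0, 0, 0⟩],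
  [⟨8, 0, 0, 0, 0, 0, 0, 0⟩, ⟨-2, -2, -2, -2, 0, 0, 0, 4⟩, ⟨2, 2, -2, -2, 0, -4, 0, 0⟩, ⟨-2, 2, 2, 2, 0, 0, 0, -4⟩, ⟨4, 0, 0, 0, 0, 0, 0, 0⟩, ⟨0, 0, 4, 0, 0, 0, 0, 0⟩, ⟨2, -2, 2, 2, 0, 4, 0, 0⟩, ⟨0, 0, -4, 0, 0, 0, 0, 0⟩, ⟨4, 0, 0, 0, 0, 0, 0, 0⟩],
  [⟨8, 0, 0, 0, 0, 0, 0, 0⟩, ⟨-2, -2, -2, -2, 0, 0, 4, 0⟩, ⟨-2, 2, 2, -2, 0, 0, 0, 4⟩, ⟨-2, 2, 2, 2, 0, 0, -4, 0⟩, ⟨4, 0, 0, 0, 0, 0, 0, 0⟩, ⟨0, -4, 0, 0, 0, 0, 0, 0⟩, ⟨-2, -2, -2, 2, 0, 0, 0, -4⟩, ⟨0, 4, 0, 0, 0, 0, 0, 0⟩, ⟨4, 0, 0, 0, 0, 0, 0, 0⟩],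
  [⟨8, 0, 0, 0, 0, 0, 0, 0⟩, ⟨-2, -2, -2, -2, 0, 0, 4, 0⟩, ⟨2, -2, -2, 2, 0, 0, 0, -4⟩, ⟨-2, 2, 2, 2, 0, 0, -4, 0⟩, ⟨4, 0, 0, 0, 0, 0, 0, 0⟩, ⟨0, 4, 0, 0, 0, 0, 0, 0⟩, ⟨2, 2, 2, -2, 0, 0, 0, 4⟩, ⟨0, -4, 0, 0, 0, 0, 0, 0⟩, ⟨4, 0, 0, 0, 0, 0, 0, 0⟩],
  [⟨8, 0, 0, 0, 0, 0, 0, 0⟩, ⟨-2, -2, -2, -2, 0, 4, 0, 0⟩, ⟨-2, 2, -2, 2, 0, 0, 4, 0⟩, ⟨-2, 2, 2, 2, 0, -4, 0, 0⟩, ⟨4, 0, 0, 0, 0, 0, 0, 0⟩, ⟨0, 0, 0, -4, 0, 0, 0, 0⟩, ⟨-2, -2, 2, -2, 0, 0, -4, 0⟩, ⟨0, 0, 0, 4, 0, 0, 0, 0⟩, ⟨4, 0, 0, 0, 0, 0, 0, 0⟩],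
  [⟨8, 0, 0, 0, 0, 0, 0, 0⟩, ⟨-2, -2, -2, -2, 0, 4, 0, 0⟩, ⟨2, -2, 2, -2, 0, 0, -4, 0⟩, ⟨-2, 2, 2, 2, 0, -4, 0, 0⟩, ⟨4, 0, 0, 0, 0, 0, 0, 0⟩, ⟨0, 0, 0, 4, 0, 0, 0, 0⟩, ⟨2, 2, -2, 2, 0, 0, 4, 0⟩, ⟨0, 0, 0, -4, 0, 0, 0, 0⟩, ⟨4, 0, 0, 0, 0, 0, 0, 0⟩],
  [⟨8, 0, 0, 0, 0, 0, 0, 0⟩, ⟨-2, -2, -2, -2, 4, 0, 0, 0⟩, ⟨-2, -2, -2, -2, 4, 0, 0, 0⟩, ⟨-2, 2, 2, 2, 4, 0, 0, 0⟩, ⟨4, 0, 0, 0, 0, 0, 0, 0⟩, ⟨4, 0, 0, 0, 0, 0, 0, 0⟩, ⟨-2, 2, 2, 2, 4, 0, 0, 0⟩, ⟨4, 0, 0, 0, 0, 0, 0, 0⟩, ⟨4, 0, 0, 0, 0, 0, 0, 0⟩],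
  [⟨8, 0, 0, 0, 0, 0, 0, 0⟩, ⟨-2, -2, -2, -2, 4, 0, 0, 0⟩, ⟨2, 2, 2, 2, -4, 0, 0, 0⟩, ⟨-2, 2, 2, 2, 4, 0, 0, 0⟩, ⟨4, 0, 0, 0, 0, 0, 0, 0⟩, ⟨-4, 0, 0, 0, 0, 0, 0, 0⟩, ⟨2, -2, -2, -2, -4, 0, 0, 0⟩, ⟨-4, 0, 0, 0, 0, 0, 0, 0⟩, ⟨4, 0, 0, 0, 0, 0, 0, 0⟩],
  [⟨8, 0, 0, 0, 0, 0, 0, 0⟩, ⟨-2, -2, 2, 2, 0, 0, -4, 0⟩, ⟨-2, -2, 2, 2, 0, 0, -4, 0⟩, ⟨-2, 2, -2, -2, 0, 0, 4, 0⟩, ⟨4, 0, 0, 0, 0, 0, 0, 0⟩, ⟨4, 0, 0, 0, 0, 0, 0, 0⟩, ⟨-2, 2, -2, -2, 0, 0, 4, 0⟩, ⟨4, 0, 0, 0, 0, 0, 0, 0⟩, ⟨4, 0, 0, 0, 0, 0, 0, 0⟩],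
  [⟨8, 0, 0, 0, 0, 0, 0, 0⟩, ⟨-2, -2, 2, 2, 0, 0, -4, 0⟩, ⟨2, 2, -2, -2, 0, 0, 4, 0⟩, ⟨-2, 2, -2, -2, 0, 0, 4, 0⟩, ⟨4, 0, 0, 0, 0, 0, 0, 0⟩, ⟨-4, 0, 0, 0, 0, 0, 0, 0⟩, ⟨2, -2, 2, 2, 0, 0, -4, 0⟩, ⟨-4, 0, 0, 0, 0, 0, 0, 0⟩, ⟨4, 0, 0, 0, 0, 0, 0, 0⟩],
  [⟨8, 0, 0, 0, 0, 0, 0, 0⟩, ⟨-2, -2, 2, 2, 0, 0, 0, -4⟩, ⟨-2, 2, 2, -2, 4, 0, 0, 0⟩, ⟨-2, 2, -2, -2, 0, 0, 0, 4⟩, ⟨4, 0, 0, 0, 0, 0, 0, 0⟩, ⟨0, 0, 0, 4, 0, 0, 0, 0⟩, ⟨-2, -2, -2, 2, 4, 0, 0, 0⟩, ⟨0, 0, 0, -4, 0, 0, 0, 0⟩, ⟨4, 0, 0, 0, 0, 0, 0, 0⟩],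
  [⟨8, 0, 0, 0, 0, 0, 0, 0⟩, ⟨-2, -2, 2, 2, 0, 0, 0, -4⟩, ⟨2, -2, -2, 2, -4, 0, 0, 0⟩, ⟨-2, 2, -2, -2, 0, 0, 0, 4⟩, ⟨4, 0, 0, 0, 0, 0, 0, 0⟩, ⟨0, 0, 0, -4, 0, 0, 0, 0⟩, ⟨2, 2, 2, -2, -4, 0, 0, 0⟩, ⟨0, 0, 0, 4, 0, 0, 0, 0⟩, ⟨4, 0, 0, 0, 0, 0, 0, 0⟩],
  [⟨8, 0, 0, 0, 0, 0, 0, 0⟩, ⟨-2, -2, 2, 2, 0, 4, 0, 0⟩, ⟨-2, -2, -2, -2, 0, 0, 0, 4⟩, ⟨-2, 2, -2, -2, 0, -4, 0, 0⟩, ⟨4, 0, 0, 0, 0, 0, 0, 0⟩, ⟨0, 0, 4, 0, 0, 0, 0, 0⟩, ⟨-2, 2, 2, 2, 0, 0, 0, -4⟩, ⟨0, 0, -4, 0, 0, 0, 0, 0⟩, ⟨4, 0, 0, 0, 0, 0, 0, 0⟩],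
  [⟨8, 0, 0, 0, 0, 0, 0, 0⟩, ⟨-2, -2, 2, 2, 0, 4, 0, 0⟩, ⟨2, 2, 2, 2, 0, 0, 0, -4⟩, ⟨-2, 2, -2, -2, 0, -4, 0, 0⟩, ⟨4, 0, 0, 0, 0, 0, 0, 0⟩, ⟨0, 0, -4, 0, 0, 0, 0, 0⟩, ⟨2, -2, -2, -2, 0, 0, 0, 4⟩, ⟨0, 0, 4, 0, 0, 0, 0, 0⟩, ⟨4, 0, 0, 0, 0, 0, 0, 0⟩],
  [⟨8, 0, 0, 0, 0, 0, 0, 0⟩, ⟨-2, -2, 2, 2, 4, 0, 0, 0⟩, ⟨-2, 2, -2, 2, 0, -4, 0, 0⟩, ⟨-2, 2, -2, -2, 4, 0, 0, 0⟩, ⟨4, 0, 0, 0, 0, 0, 0, 0⟩, ⟨0, -4, 0, 0, 0, 0, 0, 0⟩, ⟨-2, -2, 2, -2, 0, 4, 0, 0⟩, ⟨0, 4, 0, 0, 0, 0, 0, 0⟩, ⟨4, 0, 0, 0, 0, 0, 0, 0⟩],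
  [⟨8, 0, 0, 0, 0, 0, 0, 0⟩, ⟨-2, -2, 2, 2, 4, 0, 0, 0⟩, ⟨2, -2, 2, -2, 0, 4, 0, 0⟩, ⟨-2, 2, -2, -2, 4, 0, 0, 0⟩, ⟨4, 0, 0, 0, 0, 0, 0, 0⟩, ⟨0, 4, 0, 0, 0, 0, 0, 0⟩, ⟨2, 2, -2, 2, 0, -4, 0, 0⟩, ⟨0, -4, 0, 0, 0, 0, 0, 0⟩, ⟨4, 0, 0, 0, 0, 0, 0, 0⟩],
  [⟨8, 0, 0, 0, 0, 0, 0, 0⟩, ⟨-2, 2, -2, 2, 0, -4, 0, 0⟩, ⟨-2, -2, 2, 2, 4, 0, 0, 0⟩, ⟨-2, -2, 2, -2, 0, 4, 0, 0⟩, ⟨4, 0, 0, 0, 0, 0, 0, 0⟩, ⟨0, 4, 0, 0, 0, 0, 0, 0⟩, ⟨-2, 2, -2, -2, 4, 0, 0, 0⟩, ⟨0, -4, 0, 0, 0, 0, 0, 0⟩, ⟨4, 0, 0, 0, 0, 0, 0, 0⟩],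
  [⟨8, 0, 0, 0, 0, 0, 0, 0⟩, ⟨-2, 2, -2, 2, 0, -4, 0, 0⟩, ⟨2, 2, -2, -2, -4, 0, 0, 0⟩, ⟨-2, -2, 2, -2, 0, 4, 0, 0⟩, ⟨4, 0, 0, 0, 0, 0, 0, 0⟩, ⟨0, -4, 0, 0, 0, 0, 0, 0⟩, ⟨2, -2, 2, 2, -4, 0, 0, 0⟩, ⟨0, 4, 0, 0, 0, 0, 0, 0⟩, ⟨4, 0, 0, 0, 0, 0, 0, 0⟩],
  [⟨8, 0, 0, 0, 0, 0, 0, 0⟩, ⟨-2, 2, -2, 2, 0, 0, 0, -4⟩, ⟨-2, 2, -2, 2, 0, 0, 0, -4⟩, ⟨-2, -2, 2, -2, 0, 0, 0, 4⟩, ⟨4, 0, 0, 0, 0, 0, 0, 0⟩, ⟨4, 0, 0, 0, 0, 0, 0, 0⟩, ⟨-2, -2, 2, -2, 0, 0, 0, 4⟩, ⟨4, 0, 0, 0, 0, 0, 0, 0⟩, ⟨4, 0, 0, 0, 0, 0, 0, 0⟩],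
  [⟨8, 0, 0, 0, 0, 0, 0, 0⟩, ⟨-2, 2, -2, 2, 0, 0, 0, -4⟩, ⟨2, -2, 2, -2, 0, 0, 0, 4⟩, ⟨-2, -2, 2, -2, 0, 0, 0, 4⟩, ⟨4, 0, 0, 0, 0, 0, 0, 0⟩, ⟨-4, 0, 0, 0, 0, 0, 0, 0⟩, ⟨2, 2, -2, 2, 0, 0, 0, -4⟩, ⟨-4, 0, 0, 0, 0, 0, 0, 0⟩, ⟨4, 0, 0, 0, 0, 0, 0, 0⟩],
  [⟨8, 0, 0, 0, 0, 0, 0, 0⟩, ⟨-2, 2, -2, 2, 0, 0, 4, 0⟩, ⟨-2, -2, -2, -2, 0, 4, 0, 0⟩, ⟨-2, -2, 2, -2, 0, 0, -4, 0⟩, ⟨4, 0, 0, 0, 0, 0, 0, 0⟩, ⟨0, 0, 0, 4, 0, 0, 0, 0⟩, ⟨-2, 2, 2, 2, 0, -4, 0, 0⟩, ⟨0, 0, 0, -4, 0, 0, 0, 0⟩, ⟨4, 0, 0, 0, 0, 0, 0, 0⟩],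
  [⟨8, 0, 0, 0, 0, 0, 0, 0⟩, ⟨-2, 2, -2, 2, 0, 0, 4, 0⟩, ⟨2, 2, 2, 2, 0, -4, 0, 0⟩, ⟨-2, -2, 2, -2, 0, 0, -4, 0⟩, ⟨4, 0, 0, 0, 0, 0, 0, 0⟩, ⟨0, 0, 0, -4, 0, 0, 0, 0⟩, ⟨2, -2, -2, -2, 0, 4, 0, 0⟩, ⟨0, 0, 0, 4, 0, 0, 0, 0⟩, ⟨4, 0, 0, 0, 0, 0, 0, 0⟩],
  [⟨8, 0, 0, 0, 0, 0, 0, 0⟩, ⟨-2, 2, -2, 2, 4, 0, 0, 0⟩, ⟨-2, 2, 2, -2, 0, 0, -4, 0⟩, ⟨-2, -2, 2, -2, 4, 0, 0, 0⟩, ⟨4, 0, 0, 0, 0, 0, 0, 0⟩, ⟨0, 0, -4, 0, 0, 0, 0, 0⟩, ⟨-2, -2, -2, 2, 0, 0, 4, 0⟩, ⟨0, 0, 4, 0, 0, 0, 0, 0⟩, ⟨4, 0, 0, 0, 0, 0, 0, 0⟩],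
  [⟨8, 0, 0, 0, 0, 0, 0, 0⟩, ⟨-2, 2, -2, 2, 4, 0, 0, 0⟩, ⟨2, -2, -2, 2, 0, 0, 4, 0⟩, ⟨-2, -2, 2, -2, 4, 0, 0, 0⟩, ⟨4, 0, 0, 0, 0, 0, 0, 0⟩, ⟨0, 0, 4, 0, 0, 0, 0, 0⟩, ⟨2, 2, 2, -2, 0, 0, -4, 0⟩, ⟨0, 0, -4, 0, 0, 0, 0, 0⟩, ⟨4, 0, 0, 0, 0, 0, 0, 0⟩],
  [⟨8, 0, 0, 0, 0, 0, 0, 0⟩, ⟨-2, 2, 2, -2, 0, -4, 0, 0⟩, ⟨-2, 2, 2, -2, 0, -4, 0, 0⟩, ⟨-2, -2, -2, 2, 0, 4, 0, 0⟩, ⟨4, 0, 0, 0, 0, 0, 0, 0⟩, ⟨4, 0, 0, 0, 0, 0, 0, 0⟩, ⟨-2, -2, -2, 2, 0, 4, 0, 0⟩, ⟨4, 0, 0, 0, 0, 0, 0, 0⟩, ⟨4, 0, 0, 0, 0, 0, 0, 0⟩],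
  [⟨8, 0, 0, 0, 0, 0, 0, 0⟩, ⟨-2, 2, 2, -2, 0, -4, 0, 0⟩, ⟨2, -2, -2, 2, 0, 4, 0, 0⟩, ⟨-2, -2, -2, 2, 0, 4, 0, 0⟩, ⟨4, 0, 0, 0, 0, 0, 0, 0⟩, ⟨-4, 0, 0, 0, 0, 0, 0, 0⟩, ⟨2, 2, 2, -2, 0, -4, 0, 0⟩, ⟨-4, 0, 0, 0, 0, 0, 0, 0⟩, ⟨4, 0, 0, 0, 0, 0, 0, 0⟩],
  [⟨8, 0, 0, 0, 0, 0, 0, 0⟩, ⟨-2, 2, 2, -2, 0, 0, -4, 0⟩, ⟨-2, 2, -2, 2, 4, 0, 0, 0⟩, ⟨-2, -2, -2, 2, 0, 0, 4, 0⟩, ⟨4, 0, 0, 0, 0, 0, 0, 0⟩, ⟨0, 0, 4, 0, 0, 0, 0, 0⟩, ⟨-2, -2, 2, -2, 4, 0, 0, 0⟩, ⟨0, 0, -4, 0, 0, 0, 0, 0⟩, ⟨4, 0, 0, 0, 0, 0, 0, 0⟩],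
  [⟨8, 0, 0, 0, 0, 0, 0, 0⟩, ⟨-2, 2, 2, -2, 0, 0, -4, 0⟩, ⟨2, -2, 2, -2, -4, 0, 0, 0⟩, ⟨-2, -2, -2, 2, 0, 0, 4, 0⟩, ⟨4, 0, 0, 0, 0, 0, 0, 0⟩, ⟨0, 0, -4, 0, 0, 0, 0, 0⟩, ⟨2, 2, -2, 2, -4, 0, 0, 0⟩, ⟨0, 0, 4, 0, 0, 0, 0, 0⟩, ⟨4, 0, 0, 0, 0, 0, 0, 0⟩],
  [⟨8, 0, 0, 0, 0, 0, 0, 0⟩, ⟨-2, 2, 2, -2, 0, 0, 0, 4⟩, ⟨-2, -2, -2, -2, 0, 0, 4, 0⟩, ⟨-2, -2, -2, 2, 0, 0, 0, -4⟩, ⟨4, 0, 0, 0, 0, 0, 0, 0⟩, ⟨0, 4, 0, 0, 0, 0, 0, 0⟩, ⟨-2, 2, 2, 2, 0, 0, -4, 0⟩, ⟨0, -4, 0, 0, 0, 0, 0, 0⟩, ⟨4, 0, 0, 0, 0, 0, 0, 0⟩],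
  [⟨8, 0, 0, 0, 0, 0, 0, 0⟩, ⟨-2, 2, 2, -2, 0, 0, 0, 4⟩, ⟨2, 2, 2, 2, 0, 0, -4, 0⟩, ⟨-2, -2, -2, 2, 0, 0, 0, -4⟩, ⟨4, 0, 0, 0, 0, 0, 0, 0⟩, ⟨0, -4, 0, 0, 0, 0, 0, 0⟩, ⟨2, -2, -2, -2, 0, 0, 4, 0⟩, ⟨0, 4, 0, 0, 0, 0, 0, 0⟩, ⟨4, 0, 0, 0, 0, 0, 0, 0⟩],
  [⟨8, 0, 0, 0, 0, 0, 0, 0⟩, ⟨-2, 2, 2, -2, 4, 0, 0, 0⟩, ⟨-2, -2, 2, 2, 0, 0, 0, -4⟩, ⟨-2, -2, -2, 2, 4, 0, 0, 0⟩, ⟨4, 0, 0, 0, 0, 0, 0, 0⟩, ⟨0, 0, 0, -4, 0, 0, 0, 0⟩, ⟨-2, 2, -2, -2, 0, 0, 0, 4⟩, ⟨0, 0, 0, 4, 0, 0, 0, 0⟩, ⟨4, 0, 0, 0, 0, 0, 0, 0⟩],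
  [⟨8, 0, 0, 0, 0, 0, 0, 0⟩, ⟨-2, 2, 2, -2, 4, 0, 0, 0⟩, ⟨2, 2, -2, -2, 0, 0, 0, 4⟩, ⟨-2, -2, -2, 2, 4, 0, 0, 0⟩, ⟨4, 0, 0, 0, 0, 0, 0, 0⟩, ⟨0, 0, 0, 4, 0, 0, 0, 0⟩, ⟨2, -2, 2, 2, 0, 0, 0, -4⟩, ⟨0, 0, 0, -4, 0, 0, 0, 0⟩, ⟨4, 0, 0, 0, 0, 0, 0, 0⟩],
  [⟨8, 0, 0, 0, 0, 0, 0, 0⟩, ⟨0, -8, 0, 0, 0, 0, 0, 0⟩, ⟨0, 0, 0, 0, 0, 0, 0, 0⟩, ⟨0, 8, 0, 0, 0, 0, 0, 0⟩, ⟨8, 0, 0, 0, 0, 0, 0, 0⟩, ⟨0, 0, 0, 0, 0, 0, 0, 0⟩, ⟨0, 0, 0, 0, 0, 0, 0, 0⟩, ⟨0, 0, 0, 0, 0, 0, 0, 0⟩, ⟨0, 0, 0, 0, 0, 0, 0, 0⟩],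
  [⟨8, 0, 0, 0, 0, 0, 0, 0⟩, ⟨0, 0, -8, 0, 0, 0, 0, 0⟩, ⟨0, 0, 0, 0, 0, 0, 0, 0⟩, ⟨0, 0, 8, 0, 0, 0, 0, 0⟩, ⟨8, 0, 0, 0, 0, 0, 0, 0⟩, ⟨0, 0, 0, 0, 0, 0, 0, 0⟩, ⟨0, 0, 0, 0, 0, 0, 0, 0⟩, ⟨0, 0, 0, 0, 0, 0, 0, 0⟩, ⟨0, 0, 0, 0, 0, 0, 0, 0⟩],
  [⟨8, 0, 0, 0, 0, 0, 0, 0⟩, ⟨0, 0, 0, -8, 0, 0, 0, 0⟩, ⟨0, 0, 0, 0, 0, 0, 0, 0⟩, ⟨0, 0, 0, 8, 0, 0, 0, 0⟩, ⟨8, 0, 0, 0, 0, 0, 0, 0⟩, ⟨0, 0, 0, 0, 0, 0, 0, 0⟩, ⟨0, 0, 0, 0, 0, 0, 0, 0⟩, ⟨0, 0, 0, 0, 0, 0, 0, 0⟩, ⟨0, 0, 0, 0, 0, 0, 0, 0⟩]]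
noncomputable def ks6 : List (List Q) := [[⟨8, 0, 0, 0, 0, 0, 0, 0⟩, ⟨0, 0, 0, 0, 0, 0, 0, 0⟩, ⟨-8, 0, 0, 0, 0, 0, 0, 0⟩, ⟨0, 0, 0, 0, 0, 0, 0, 0⟩, ⟨0, 0, 0, 0, 0, 0, 0, 0⟩, ⟨0, 0, 0, 0, 0, 0, 0, 0⟩, ⟨-8, 0, 0, 0, 0, 0, 0, 0⟩, ⟨0, 0, 0, 0, 0, 0, 0, 0⟩, ⟨8, 0, 0, 0, 0, 0, 0, 0⟩],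
  [⟨8, 0, 0, 0, 0, 0, 0, 0⟩, ⟨0, 0, 0, 0, 0, 0, 0, 0⟩, ⟨0, -8, 0, 0, 0, 0, 0, 0⟩, ⟨0, 0, 0, 0, 0, 0, 0, 0⟩, ⟨0, 0, 0, 0, 0, 0, 0, 0⟩, ⟨0, 0, 0, 0, 0, 0, 0, 0⟩, ⟨0, 8, 0, 0, 0, 0, 0, 0⟩, ⟨0, 0, 0, 0, 0, 0, 0, 0⟩, ⟨8, 0, 0, 0, 0, 0, 0, 0⟩],
  [⟨8, 0, 0, 0, 0, 0, 0, 0⟩, ⟨0, 0, 0, 0, 0, 0, 0, 0⟩, ⟨0, 0, -8, 0, 0, 0, 0, 0⟩, ⟨0, 0, 0, 0, 0, 0, 0, 0⟩, ⟨0, 0, 0, 0, 0, 0, 0, 0⟩, ⟨0, 0, 0, 0, 0, 0, 0, 0⟩, ⟨0, 0, 8, 0, 0, 0, 0, 0⟩, ⟨0, 0, 0, 0, 0, 0, 0, 0⟩, ⟨8, 0, 0, 0, 0, 0, 0, 0⟩],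
  [⟨8, 0, 0, 0, 0, 0, 0, 0⟩, ⟨0, 0, 0, 0, 0, 0, 0, 0⟩, ⟨0, 0, 0, -8, 0, 0, 0, 0⟩, ⟨0, 0, 0, 0, 0, 0, 0, 0⟩, ⟨0, 0, 0, 0, 0, 0, 0, 0⟩, ⟨0, 0, 0, 0, 0, 0, 0, 0⟩, ⟨0, 0, 0, 8, 0, 0, 0, 0⟩, ⟨0, 0, 0, 0, 0, 0, 0, 0⟩, ⟨8, 0, 0, 0, 0, 0, 0, 0⟩],
  [⟨8, 0, 0, 0, 0, 0, 0, 0⟩, ⟨0, 0, 0, 0, 0, 0, 0, 0⟩, ⟨0, 0, 0, 8, 0, 0, 0, 0⟩, ⟨0, 0, 0, 0, 0, 0, 0, 0⟩, ⟨0, 0, 0, 0, 0, 0, 0, 0⟩, ⟨0, 0, 0, 0, 0, 0, 0, 0⟩, ⟨0, 0, 0, -8, 0, 0, 0, 0⟩, ⟨0, 0, 0, 0, 0, 0, 0, 0⟩, ⟨8, 0, 0, 0, 0, 0, 0, 0⟩],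
  [⟨8, 0, 0, 0, 0, 0, 0, 0⟩, ⟨0, 0, 0, 0, 0, 0, 0, 0⟩, ⟨0, 0, 8, 0, 0, 0, 0, 0⟩, ⟨0, 0, 0, 0, 0, 0, 0, 0⟩, ⟨0, 0, 0, 0, 0, 0, 0, 0⟩, ⟨0, 0, 0, 0, 0, 0, 0, 0⟩, ⟨0, 0, -8, 0, 0, 0, 0, 0⟩, ⟨0, 0, 0, 0, 0, 0, 0, 0⟩, ⟨8, 0, 0, 0, 0, 0, 0, 0⟩],
  [⟨8, 0, 0, 0, 0, 0, 0, 0⟩, ⟨0, 0, 0, 0, 0, 0, 0, 0⟩, ⟨0, 8, 0, 0, 0, 0, 0, 0⟩, ⟨0, 0, 0, 0, 0, 0, 0, 0⟩, ⟨0, 0, 0, 0, 0, 0, 0, 0⟩, ⟨0, 0, 0, 0, 0, 0, 0, 0⟩, ⟨0, -8, 0, 0, 0, 0, 0, 0⟩, ⟨0, 0, 0, 0, 0, 0, 0, 0⟩, ⟨8, 0, 0, 0, 0, 0, 0, 0⟩],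
  [⟨8, 0, 0, 0, 0, 0, 0, 0⟩, ⟨0, 0, 0, 0, 0, 0, 0, 0⟩, ⟨8, 0, 0, 0, 0, 0, 0, 0⟩, ⟨0, 0, 0, 0, 0, 0, 0, 0⟩, ⟨0, 0, 0, 0, 0, 0, 0, 0⟩, ⟨0, 0, 0, 0, 0, 0, 0, 0⟩, ⟨8, 0, 0, 0, 0, 0, 0, 0⟩, ⟨0, 0, 0, 0, 0, 0, 0, 0⟩, ⟨8, 0, 0, 0, 0, 0, 0, 0⟩],
  [⟨8, 0, 0, 0, 0, 0, 0, 0⟩, ⟨0, 0, 0, 8, 0, 0, 0, 0⟩, ⟨0, 0, 0, 0, 0, 0, 0, 0⟩, ⟨0, 0, 0, -8, 0, 0, 0, 0⟩, ⟨8, 0, 0, 0, 0, 0, 0, 0⟩, ⟨0, 0, 0, 0, 0, 0, 0, 0⟩, ⟨0, 0, 0, 0, 0, 0, 0, 0⟩, ⟨0, 0, 0, 0, 0, 0, 0, 0⟩, ⟨0, 0, 0, 0, 0, 0, 0, 0⟩],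
  [⟨8, 0, 0, 0, 0, 0, 0, 0⟩, ⟨0, 0, 8, 0, 0, 0, 0, 0⟩, ⟨0, 0, 0, 0, 0, 0, 0, 0⟩, ⟨0, 0, -8, 0, 0, 0, 0, 0⟩, ⟨8, 0, 0, 0, 0, 0, 0, 0⟩, ⟨0, 0, 0, 0, 0, 0, 0, 0⟩, ⟨0, 0, 0, 0, 0, 0, 0, 0⟩, ⟨0, 0, 0, 0, 0, 0, 0, 0⟩, ⟨0, 0, 0, 0, 0, 0, 0, 0⟩],
  [⟨8, 0, 0, 0, 0, 0, 0, 0⟩, ⟨0, 8, 0, 0, 0, 0, 0, 0⟩, ⟨0, 0, 0, 0, 0, 0, 0, 0⟩, ⟨0, -8, 0, 0, 0, 0, 0, 0⟩, ⟨8, 0, 0, 0, 0, 0, 0, 0⟩, ⟨0, 0, 0, 0, 0, 0, 0, 0⟩, ⟨0, 0, 0, 0, 0, 0, 0, 0⟩, ⟨0, 0, 0, 0, 0, 0, 0, 0⟩, ⟨0, 0, 0, 0, 0, 0, 0, 0⟩],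
  [⟨8, 0, 0, 0, 0, 0, 0, 0⟩, ⟨2, -2, -2, 2, -4, 0, 0, 0⟩, ⟨-2, -2, 2, 2, 0, 0, 0, -4⟩, ⟨2, 2, 2, -2, -4, 0, 0, 0⟩, ⟨4, 0, 0, 0, 0, 0, 0, 0⟩, ⟨0, 0, 0, 4, 0, 0, 0, 0⟩, ⟨-2, 2, -2, -2, 0, 0, 0, 4⟩, ⟨0, 0, 0, -4, 0, 0, 0, 0⟩, ⟨4, 0, 0, 0, 0, 0, 0, 0⟩],
  [⟨8, 0, 0, 0, 0, 0, 0, 0⟩, ⟨2, -2, -2, 2, -4, 0, 0, 0⟩, ⟨2, 2, -2, -2, 0, 0, 0, 4⟩, ⟨2, 2, 2, -2, -4, 0, 0, 0⟩, ⟨4, 0, 0, 0, 0, 0, 0, 0⟩, ⟨0, 0, 0, -4, 0, 0, 0, 0⟩, ⟨2, -2, 2, 2, 0, 0, 0, -4⟩, ⟨0, 0, 0, 4, 0, 0, 0, 0⟩, ⟨4, 0, 0, 0, 0, 0, 0, 0⟩],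
  [⟨8, 0, 0, 0, 0, 0, 0, 0⟩, ⟨2, -2, -2, 2, 0, 0, 0, -4⟩, ⟨-2, -2, -2, -2, 0, 0, 4, 0⟩, ⟨2, 2, 2, -2, 0, 0, 0, 4⟩, ⟨4, 0, 0, 0, 0, 0, 0, 0⟩, ⟨0, -4, 0, 0, 0, 0, 0, 0⟩, ⟨-2, 2, 2, 2, 0, 0, -4, 0⟩, ⟨0, 4, 0, 0, 0, 0, 0, 0⟩, ⟨4, 0, 0, 0, 0, 0, 0, 0⟩],
  [⟨8, 0, 0, 0, 0, 0, 0, 0⟩, ⟨2, -2, -2, 2, 0, 0, 0, -4⟩, ⟨2, 2, 2, 2, 0, 0, -4, 0⟩, ⟨2, 2, 2, -2, 0, 0, 0, 4⟩, ⟨4, 0, 0, 0, 0, 0, 0, 0⟩, ⟨0, 4, 0, 0, 0, 0, 0, 0⟩, ⟨2, -2, -2, -2, 0, 0, 4, 0⟩, ⟨0, -4, 0, 0, 0, 0, 0, 0⟩, ⟨4, 0, 0, 0, 0, 0, 0, 0⟩],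
  [⟨8, 0, 0, 0, 0, 0, 0, 0⟩, ⟨2, -2, -2, 2, 0, 0, 4, 0⟩, ⟨-2, 2, -2, 2, 4, 0, 0, 0⟩, ⟨2, 2, 2, -2, 0, 0, -4, 0⟩, ⟨4, 0, 0, 0, 0, 0, 0, 0⟩, ⟨0, 0, -4, 0, 0, 0, 0, 0⟩, ⟨-2, -2, 2, -2, 4, 0, 0, 0⟩, ⟨0, 0, 4, 0, 0, 0, 0, 0⟩, ⟨4, 0, 0, 0, 0, 0, 0, 0⟩],
  [⟨8, 0, 0, 0, 0, 0, 0, 0⟩, ⟨2, -2, -2, 2, 0, 0, 4, 0⟩, ⟨2, -2, 2, -2, -4, 0, 0, 0⟩, ⟨2, 2, 2, -2, 0, 0, -4, 0⟩, ⟨4, 0, 0, 0, 0, 0, 0, 0⟩, ⟨0, 0, 4, 0, 0, 0, 0, 0⟩, ⟨2, 2, -2, 2, -4, 0, 0, 0⟩, ⟨0, 0, -4, 0, 0, 0, 0, 0⟩, ⟨4, 0, 0, 0, 0, 0, 0, 0⟩],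
  [⟨8, 0, 0, 0, 0, 0, 0, 0⟩, ⟨2, -2, -2, 2, 0, 4, 0, 0⟩, ⟨-2, 2, 2, -2, 0, -4, 0, 0⟩, ⟨2, 2, 2, -2, 0, -4, 0, 0⟩, ⟨4, 0, 0, 0, 0, 0, 0, 0⟩, ⟨-4, 0, 0, 0, 0, 0, 0, 0⟩, ⟨-2, -2, -2, 2, 0, 4, 0, 0⟩, ⟨-4, 0, 0, 0, 0, 0, 0, 0⟩, ⟨4, 0, 0, 0, 0, 0, 0, 0⟩],
  [⟨8, 0, 0, 0, 0, 0, 0, 0⟩, ⟨2, -2, -2, 2, 0, 4, 0, 0⟩, ⟨2, -2, -2, 2, 0, 4, 0, 0⟩, ⟨2, 2, 2, -2, 0, -4, 0, 0⟩, ⟨4, 0, 0, 0, 0, 0, 0, 0⟩, ⟨4, 0, 0, 0, 0, 0, 0, 0⟩, ⟨2, 2, 2, -2, 0, -4, 0, 0⟩, ⟨4, 0, 0, 0, 0, 0, 0, 0⟩, ⟨4, 0, 0, 0, 0, 0, 0, 0⟩],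
  [⟨8, 0, 0, 0, 0, 0, 0, 0⟩, ⟨2, -2, 2, -2, -4, 0, 0, 0⟩, ⟨-2, 2, 2, -2, 0, 0, -4, 0⟩, ⟨2, 2, -2, 2, -4, 0, 0, 0⟩, ⟨4, 0, 0, 0, 0, 0, 0, 0⟩, ⟨0, 0, 4, 0, 0, 0, 0, 0⟩, ⟨-2, -2, -2, 2, 0, 0, 4, 0⟩, ⟨0, 0, -4, 0, 0, 0, 0, 0⟩, ⟨4, 0, 0, 0, 0, 0, 0, 0⟩],
  [⟨8, 0, 0, 0, 0, 0, 0, 0⟩, ⟨2, -2, 2, -2, -4, 0, 0, 0⟩, ⟨2, -2, -2, 2, 0, 0, 4, 0⟩, ⟨2, 2, -2, 2, -4, 0, 0, 0⟩, ⟨4, 0, 0, 0, 0, 0, 0, 0⟩, ⟨0, 0, -4, 0, 0, 0, 0, 0⟩, ⟨2, 2, 2, -2, 0, 0, -4, 0⟩, ⟨0, 0, 4, 0, 0, 0, 0, 0⟩, ⟨4, 0, 0, 0, 0, 0, 0, 0⟩],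
  [⟨8, 0, 0, 0, 0, 0, 0, 0⟩, ⟨2, -2, 2, -2, 0, 0, -4, 0⟩, ⟨-2, -2, -2, -2, 0, 4, 0, 0⟩, ⟨2, 2, -2, 2, 0, 0, 4, 0⟩, ⟨4, 0, 0, 0, 0, 0, 0, 0⟩, ⟨0, 0, 0, -4, 0, 0, 0, 0⟩, ⟨-2, 2, 2, 2, 0, -4, 0, 0⟩, ⟨0, 0, 0, 4, 0, 0, 0, 0⟩, ⟨4, 0, 0, 0, 0, 0, 0, 0⟩],
  [⟨8, 0, 0, 0, 0, 0, 0, 0⟩, ⟨2, -2, 2, -2, 0, 0, -4, 0⟩, ⟨2, 2, 2, 2, 0, -4, 0, 0⟩, ⟨2, 2, -2, 2, 0, 0, 4, 0⟩, ⟨4, 0, 0, 0, 0, 0, 0, 0⟩, ⟨0, 0, 0, 4, 0, 0, 0, 0⟩, ⟨2, -2, -2, -2, 0, 4, 0, 0⟩, ⟨0, 0, 0, -4, 0, 0, 0, 0⟩, ⟨4, 0, 0, 0, 0, 0, 0, 0⟩],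
  [⟨8, 0, 0, 0, 0, 0, 0, 0⟩, ⟨2, -2, 2, -2, 0, 0, 0, 4⟩, ⟨-2, 2, -2, 2, 0, 0, 0, -4⟩, ⟨2, 2, -2, 2, 0, 0, 0, -4⟩, ⟨4, 0, 0, 0, 0, 0, 0, 0⟩, ⟨-4, 0, 0, 0, 0, 0, 0, 0⟩, ⟨-2, -2, 2, -2, 0, 0, 0, 4⟩, ⟨-4, 0, 0, 0, 0, 0, 0, 0⟩, ⟨4, 0, 0, 0, 0, 0, 0, 0⟩],
  [⟨8, 0, 0, 0, 0, 0, 0, 0⟩, ⟨2, -2, 2, -2, 0, 0, 0, 4⟩, ⟨2, -2, 2, -2, 0, 0, 0, 4⟩, ⟨2, 2, -2, 2, 0, 0, 0, -4⟩, ⟨4, 0, 0, 0, 0, 0, 0, 0⟩, ⟨4, 0, 0, 0, 0, 0, 0, 0⟩, ⟨2, 2, -2, 2, 0, 0, 0, -4⟩, ⟨4, 0, 0, 0, 0, 0, 0, 0⟩, ⟨4, 0, 0, 0, 0, 0, 0, 0⟩],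
  [⟨8, 0, 0, 0, 0, 0, 0, 0⟩, ⟨2, -2, 2, -2, 0, 4, 0, 0⟩, ⟨-2, -2, 2, 2, 4, 0, 0, 0⟩, ⟨2, 2, -2, 2, 0, -4, 0, 0⟩, ⟨4, 0, 0, 0, 0, 0, 0, 0⟩, ⟨0, -4, 0, 0, 0, 0, 0, 0⟩, ⟨-2, 2, -2, -2, 4, 0, 0, 0⟩, ⟨0, 4, 0, 0, 0, 0, 0, 0⟩, ⟨4, 0, 0, 0, 0, 0, 0, 0⟩],
  [⟨8, 0, 0, 0, 0, 0, 0, 0⟩, ⟨2, -2, 2, -2, 0, 4, 0, 0⟩, ⟨2, 2, -2, -2, -4, 0, 0, 0⟩, ⟨2, 2, -2, 2, 0, -4, 0, 0⟩, ⟨4, 0, 0, 0, 0, 0, 0, 0⟩, ⟨0, 4, 0, 0, 0, 0, 0, 0⟩, ⟨2, -2, 2, 2, -4, 0, 0, 0⟩, ⟨0, -4, 0, 0, 0, 0, 0, 0⟩, ⟨4, 0, 0, 0, 0, 0, 0, 0⟩],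
  [⟨8, 0, 0, 0, 0, 0, 0, 0⟩, ⟨2, 2, -2, -2, -4, 0, 0, 0⟩, ⟨-2, 2, -2, 2, 0, -4, 0, 0⟩, ⟨2, -2, 2, 2, -4, 0, 0, 0⟩, ⟨4, 0, 0, 0, 0, 0, 0, 0⟩, ⟨0, 4, 0, 0, 0, 0, 0, 0⟩, ⟨-2, -2, 2, -2, 0, 4, 0, 0⟩, ⟨0, -4, 0, 0, 0, 0, 0, 0⟩, ⟨4, 0, 0, 0, 0, 0, 0, 0⟩],
  [⟨8, 0, 0, 0, 0, 0, 0, 0⟩, ⟨2, 2, -2, -2, -4, 0, 0, 0⟩, ⟨2, -2, 2, -2, 0, 4, 0, 0⟩, ⟨2, -2, 2, 2, -4, 0, 0, 0⟩, ⟨4, 0, 0, 0, 0, 0, 0, 0⟩, ⟨0, -4, 0, 0, 0, 0, 0, 0⟩, ⟨2, 2, -2, 2, 0, -4, 0, 0⟩, ⟨0, 4, 0, 0, 0, 0, 0, 0⟩, ⟨4, 0, 0, 0, 0, 0, 0, 0⟩],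
  [⟨8, 0, 0, 0, 0, 0, 0, 0⟩, ⟨2, 2, -2, -2, 0, -4, 0, 0⟩, ⟨-2, -2, -2, -2, 0, 0, 0, 4⟩, ⟨2, -2, 2, 2, 0, 4, 0, 0⟩, ⟨4, 0, 0, 0, 0, 0, 0, 0⟩, ⟨0, 0, -4, 0, 0, 0, 0, 0⟩, ⟨-2, 2, 2, 2, 0, 0, 0, -4⟩, ⟨0, 0, 4, 0, 0, 0, 0, 0⟩, ⟨4, 0, 0, 0, 0, 0, 0, 0⟩],
  [⟨8, 0, 0, 0, 0, 0, 0, 0⟩, ⟨2, 2, -2, -2, 0, -4, 0, 0⟩, ⟨2, 2, 2, 2, 0, 0, 0, -4⟩, ⟨2, -2, 2, 2, 0, 4, 0, 0⟩, ⟨4, 0, 0, 0, 0, 0, 0, 0⟩, ⟨0, 0, 4, 0, 0, 0, 0, 0⟩, ⟨2, -2, -2, -2, 0, 0, 0, 4⟩, ⟨0, 0, -4, 0, 0, 0, 0, 0⟩, ⟨4, 0, 0, 0, 0, 0, 0, 0⟩],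
  [⟨8, 0, 0, 0, 0, 0, 0, 0⟩, ⟨2, 2, -2, -2, 0, 0, 0, 4⟩, ⟨-2, 2, 2, -2, 4, 0, 0, 0⟩, ⟨2, -2, 2, 2, 0, 0, 0, -4⟩, ⟨4, 0, 0, 0, 0, 0, 0, 0⟩, ⟨0, 0, 0, -4, 0, 0, 0, 0⟩, ⟨-2, -2, -2, 2, 4, 0, 0, 0⟩, ⟨0, 0, 0, 4, 0, 0, 0, 0⟩, ⟨4, 0, 0, 0, 0, 0, 0, 0⟩],
  [⟨8, 0, 0, 0, 0, 0, 0, 0⟩, ⟨2, 2, -2, -2, 0, 0, 0, 4⟩, ⟨2, -2, -2, 2, -4, 0, 0, 0⟩, ⟨2, -2, 2, 2, 0, 0, 0, -4⟩, ⟨4, 0, 0, 0, 0, 0, 0, 0⟩, ⟨0, 0, 0, 4, 0, 0, 0, 0⟩, ⟨2, 2, 2, -2, -4, 0, 0, 0⟩, ⟨0, 0, 0, -4, 0, 0, 0, 0⟩, ⟨4, 0, 0, 0, 0, 0, 0, 0⟩],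
  [⟨8, 0, 0, 0, 0, 0, 0, 0⟩, ⟨2, 2, -2, -2, 0, 0, 4, 0⟩, ⟨-2, -2, 2, 2, 0, 0, -4, 0⟩, ⟨2, -2, 2, 2, 0, 0, -4, 0⟩, ⟨4, 0, 0, 0, 0, 0, 0, 0⟩, ⟨-4, 0, 0, 0, 0, 0, 0, 0⟩, ⟨-2, 2, -2, -2, 0, 0, 4, 0⟩, ⟨-4, 0, 0, 0, 0, 0, 0, 0⟩, ⟨4, 0, 0, 0, 0, 0, 0, 0⟩],
  [⟨8, 0, 0, 0, 0, 0, 0, 0⟩, ⟨2, 2, -2, -2, 0, 0, 4, 0⟩, ⟨2, 2, -2, -2, 0, 0, 4, 0⟩, ⟨2, -2, 2, 2, 0, 0, -4, 0⟩, ⟨4, 0, 0, 0, 0, 0, 0, 0⟩, ⟨4, 0, 0, 0, 0, 0, 0, 0⟩, ⟨2, -2, 2, 2, 0, 0, -4, 0⟩, ⟨4, 0, 0, 0, 0, 0, 0, 0⟩, ⟨4, 0, 0, 0, 0, 0, 0, 0⟩],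
  [⟨8, 0, 0, 0, 0, 0, 0, 0⟩, ⟨2, 2, 2, 2, -4, 0, 0, 0⟩, ⟨-2, -2, -2, -2, 4, 0, 0, 0⟩, ⟨2, -2, -2, -2, -4, 0, 0, 0⟩, ⟨4, 0, 0, 0, 0, 0, 0, 0⟩, ⟨-4, 0, 0, 0, 0, 0, 0, 0⟩, ⟨-2, 2, 2, 2, 4, 0, 0, 0⟩, ⟨-4, 0, 0, 0, 0, 0, 0, 0⟩, ⟨4, 0, 0, 0, 0, 0, 0, 0⟩],
  [⟨8, 0, 0, 0, 0, 0, 0, 0⟩, ⟨2, 2, 2, 2, -4, 0, 0, 0⟩, ⟨2, 2, 2, 2, -4, 0, 0, 0⟩, ⟨2, -2, -2, -2, -4, 0, 0, 0⟩, ⟨4, 0, 0, 0, 0, 0, 0, 0⟩, ⟨4, 0, 0, 0, 0, 0, 0, 0⟩, ⟨2, -2, -2, -2, -4, 0, 0, 0⟩, ⟨4, 0, 0, 0, 0, 0, 0, 0⟩, ⟨4, 0, 0, 0, 0, 0, 0, 0⟩],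
  [⟨8, 0, 0, 0, 0, 0, 0, 0⟩, ⟨2, 2, 2, 2, 0, -4, 0, 0⟩, ⟨-2, 2, -2, 2, 0, 0, 4, 0⟩, ⟨2, -2, -2, -2, 0, 4, 0, 0⟩, ⟨4, 0, 0, 0, 0, 0, 0, 0⟩, ⟨0, 0, 0, 4, 0, 0, 0, 0⟩, ⟨-2, -2, 2, -2, 0, 0, -4, 0⟩, ⟨0, 0, 0, -4, 0, 0, 0, 0⟩, ⟨4, 0, 0, 0, 0, 0, 0, 0⟩],
  [⟨8, 0, 0, 0, 0, 0, 0, 0⟩, ⟨2, 2, 2, 2, 0, -4, 0, 0⟩, ⟨2, -2, 2, -2, 0, 0, -4, 0⟩, ⟨2, -2, -2, -2, 0, 4, 0, 0⟩, ⟨4, 0, 0, 0, 0, 0, 0, 0⟩, ⟨0, 0, 0, -4, 0, 0, 0, 0⟩, ⟨2, 2, -2, 2, 0, 0, 4, 0⟩, ⟨0, 0, 0, 4, 0, 0, 0, 0⟩, ⟨4, 0, 0, 0, 0, 0, 0, 0⟩],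
  [⟨8, 0, 0, 0, 0, 0, 0, 0⟩, ⟨2, 2, 2, 2, 0, 0, -4, 0⟩, ⟨-2, 2, 2, -2, 0, 0, 0, 4⟩, ⟨2, -2, -2, -2, 0, 0, 4, 0⟩, ⟨4, 0, 0, 0, 0, 0, 0, 0⟩, ⟨0, 4, 0, 0, 0, 0, 0, 0⟩, ⟨-2, -2, -2, 2, 0, 0, 0, -4⟩, ⟨0, -4, 0, 0, 0, 0, 0, 0⟩, ⟨4, 0, 0, 0, 0, 0, 0, 0⟩],
  [⟨8, 0, 0, 0, 0, 0, 0, 0⟩, ⟨2, 2, 2, 2, 0, 0, -4, 0⟩, ⟨2, -2, -2, 2, 0, 0, 0, -4⟩, ⟨2, -2, -2, -2, 0, 0, 4, 0⟩, ⟨4, 0, 0, 0, 0, 0, 0, 0⟩, ⟨0, -4, 0, 0, 0, 0, 0, 0⟩, ⟨2, 2, 2, -2, 0, 0, 0, 4⟩, ⟨0, 4, 0, 0, 0, 0, 0, 0⟩, ⟨4, 0, 0, 0, 0, 0, 0, 0⟩],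
  [⟨8, 0, 0, 0, 0, 0, 0, 0⟩, ⟨2, 2, 2, 2, 0, 0, 0, -4⟩, ⟨-2, -2, 2, 2, 0, 4, 0, 0⟩, ⟨2, -2, -2, -2, 0, 0, 0, 4⟩, ⟨4, 0, 0, 0, 0, 0, 0, 0⟩, ⟨0, 0, 4, 0, 0, 0, 0, 0⟩, ⟨-2, 2, -2, -2, 0, -4, 0, 0⟩, ⟨0, 0, -4, 0, 0, 0, 0, 0⟩, ⟨4, 0, 0, 0, 0, 0, 0, 0⟩],
  [⟨8, 0, 0, 0, 0, 0, 0, 0⟩, ⟨2, 2, 2, 2, 0, 0, 0, -4⟩, ⟨2, 2, -2, -2, 0, -4, 0, 0⟩, ⟨2, -2, -2, -2, 0, 0, 0, 4⟩, ⟨4, 0, 0, 0, 0, 0, 0, 0⟩, ⟨0, 0, -4, 0, 0, 0, 0, 0⟩, ⟨2, -2, 2, 2, 0, 4, 0, 0⟩, ⟨0, 0, 4, 0, 0, 0, 0, 0⟩, ⟨4, 0, 0, 0, 0, 0, 0, 0⟩],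
  [⟨8, 0, 0, 0, 0, 0, 0, 0⟩, ⟨8, 0, 0, 0, 0, 0, 0, 0⟩, ⟨0, 0, 0, 0, 0, 0, 0, 0⟩, ⟨8, 0, 0, 0, 0, 0, 0, 0⟩, ⟨8, 0, 0, 0, 0, 0, 0, 0⟩, ⟨0, 0, 0, 0, 0, 0, 0, 0⟩, ⟨0, 0, 0, 0, 0, 0, 0, 0⟩, ⟨0, 0, 0, 0, 0, 0, 0, 0⟩, ⟨0, 0, 0, 0, 0, 0, 0, 0⟩],
  [⟨16, 0, 0, 0, 0, 0, 0, 0⟩, ⟨0, 0, 0, 0, 0, 0, 0, 0⟩, ⟨0, 0, 0, 0, 0, 0, 0, 0⟩, ⟨0, 0, 0, 0, 0, 0, 0, 0⟩, ⟨0, 0, 0, 0, 0, 0, 0, 0⟩, ⟨0, 0, 0, 0, 0, 0, 0, 0⟩, ⟨0, 0, 0, 0, 0, 0, 0, 0⟩, ⟨0, 0, 0, 0, 0, 0, 0, 0⟩, ⟨0, 0, 0, 0, 0, 0, 0, 0⟩]]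
noncomputable def ks : List (List Q) := ks0 ++ ks1 ++ ks2 ++ ks3 ++ ks4 ++ ks5 ++ ks6
theorem mn_ok : allL pts (fun P => decide (MnB P)) = true := by decide +kernel
theorem ks_eq : pts.map key = ks := by decide +kernel
theorem ks_nd : ks.Nodup := by decide +kernel
theorem e_0_0 : allSq 6 (8 - 0 - 0) (fun l => decide (ChkE B ks (Q.ofL (0 :: 0 :: l)))) = true := by decide +kernel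
theorem e_0_1 : allSq 6 (8 - 0 - 1) (fun l => decide (ChkE B ks (Q.ofL (0 :: 1 :: l)))) = true := by decide +kernel
theorem e_0_m1 : allSq 6 (8 - 0 - 1) (fun l => decide (ChkE B ks (Q.ofL (0 :: -1 :: l)))) = true := by decide +kernel
theorem e_0_2 : allSq 6 (8 - 0 - 4) (fun l => decide (ChkE B ks (Q.ofL (0 :: 2 :: l)))) = true := by decide +kernel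
theorem e_0_m2 : allSq 6 (8 - 0 - 4) (fun l => decide (ChkE B ks (Q.ofL (0 :: -2 :: l)))) = true := by decide +kernel
theorem e_1_0 : allSq 6 (8 - 1 - 0) (fun l => decide (ChkE B ks (Q.ofL (1 :: 0 :: l)))) = true := by decide +kernel
theorem e_1_1 : allSq 6 (8 - 1 - 1) (fun l => decide (ChkE B ks (Q.ofL (1 :: 1 :: l)))) = true := by decide +kernel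
theorem e_1_m1 : allSq 6 (8 - 1 - 1) (fun l => decide (ChkE B ks (Q.ofL (1 :: -1 :: l)))) = true := by decide +kernel
theorem e_1_2 : allSq 6 (8 - 1 - 4) (fun l => decide (ChkE B ks (Q.ofL (1 :: 2 :: l)))) = true := by decide +kernel
theorem e_1_m2 : allSq 6 (8 - 1 - 4) (fun l => decide (ChkE B ks (Q.ofL (1 :: -2 :: l)))) = true := by decide +kernel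
theorem e_m1_0 : allSq 6 (8 - 1 - 0) (fun l => decide (ChkE B ks (Q.ofL (-1 :: 0 :: l)))) = true := by decide +kernel
theorem e_m1_1 : allSq 6 (8 - 1 - 1) (fun l => decide (ChkE B ks (Q.ofL (-1 :: 1 :: l)))) = true := by decide +kernel
theorem e_m1_m1 : allSq 6 (8 - 1 - 1) (fun l => decide (ChkE B ks (Q.ofL (-1 :: -1 :: l)))) = true := by decide +kernel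
theorem e_m1_2 : allSq 6 (8 - 1 - 4) (fun l => decide (ChkE B ks (Q.ofL (-1 :: 2 :: l)))) = true := by decide +kernel
theorem e_m1_m2 : allSq 6 (8 - 1 - 4) (fun l => decide (ChkE B ks (Q.ofL (-1 :: -2 :: l)))) = true := by decide +kernel
theorem e_2_0 : allSq 6 (8 - 4 - 0) (fun l => decide (ChkE B ks (Q.ofL (2 :: 0 :: l)))) = true := by decide +kernel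
theorem e_2_1 : allSq 6 (8 - 4 - 1) (fun l => decide (ChkE B ks (Q.ofL (2 :: 1 :: l)))) = true := by decide +kernel
theorem e_2_m1 : allSq 6 (8 - 4 - 1) (fun l => decide (ChkE B ks (Q.ofL (2 :: -1 :: l)))) = true := by decide +kernel
theorem e_2_2 : allSq 6 (8 - 4 - 4) (fun l => decide (ChkE B ks (Q.ofL (2 :: 2 :: l)))) = true := by decide +kernel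
theorem e_2_m2 : allSq 6 (8 - 4 - 4) (fun l => decide (ChkE B ks (Q.ofL (2 :: -2 :: l)))) = true := by decide +kernel
theorem e_m2_0 : allSq 6 (8 - 4 - 0) (fun l => decide (ChkE B ks (Q.ofL (-2 :: 0 :: l)))) = true := by decide +kernel
theorem e_m2_1 : allSq 6 (8 - 4 - 1) (fun l => decide (ChkE B ks (Q.ofL (-2 :: 1 :: l)))) = true := by decide +kernel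
theorem e_m2_m1 : allSq 6 (8 - 4 - 1) (fun l => decide (ChkE B ks (Q.ofL (-2 :: -1 :: l)))) = true := by decide +kernel
theorem e_m2_2 : allSq 6 (8 - 4 - 4) (fun l => decide (ChkE B ks (Q.ofL (-2 :: 2 :: l)))) = true := by decide +kernel
theorem e_m2_m2 : allSq 6 (8 - 4 - 4) (fun l => decide (ChkE B ks (Q.ofL (-2 :: -2 :: l)))) = true := by decide +kernel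
theorem chkE : allSq 8 8 (fun l => decide (ChkE B ks (Q.ofL l))) = true :=
  allSq_succ (allSq_succ e_0_0 e_0_1 e_0_m1 e_0_2 e_0_m2) (allSq_succ e_1_0 e_1_1 e_1_m1 e_1_2 e_1_m2) (allSq_succ e_m1_0 e_m1_1 e_m1_m1 e_m1_2 e_m1_m2) (allSq_succ e_2_0 e_2_1 e_2_m1 e_2_2 e_2_m2) (allSq_succ e_m2_0 e_m2_1 e_m2_m1 e_m2_2 e_m2_m2)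
theorem c_0 : Chk2 B ks ⟨-2, 0, 0, 0, 0, 0, 0, 0⟩ := by decide +kernel
theorem c_1 : Chk2 B ks ⟨0, -2, 0, 0, 0, 0, 0, 0⟩ := by decide +kernel
theorem c_2 : Chk2 B ks ⟨0, 0, -2, 0, 0, 0, 0, 0⟩ := by decide +kernel
theorem c_3 : Chk2 B ks ⟨0, 0, 0, -2, 0, 0, 0, 0⟩ := by decide +kernel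
theorem c_4 : Chk2 B ks ⟨0, 0, 0, 0, -1, -1, -1, 1⟩ := by decide +kernel
theorem c_5 : Chk2 B ks ⟨0, 0, 0, 0, -1, -1, 1, -1⟩ := by decide +kernel
theorem c_6 : Chk2 B ks ⟨0, 0, 0, 0, -1, 1, -1, -1⟩ := by decide +kernel
theorem c_7 : Chk2 B ks ⟨0, 0, 0, 0, -1, 1, 1, 1⟩ := by decide +kernel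
theorem c_8 : Chk2 B ks ⟨0, 0, 0, 0, 1, -1, -1, -1⟩ := by decide +kernel
theorem c_9 : Chk2 B ks ⟨0, 0, 0, 0, 1, -1, 1, 1⟩ := by decide +kernel
theorem c_10 : Chk2 B ks ⟨0, 0, 0, 0, 1, 1, -1, 1⟩ := by decide +kernel
theorem c_11 : Chk2 B ks ⟨0, 0, 0, 0, 1, 1, 1, -1⟩ := by decide +kernel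
theorem c_12 : Chk2 B ks ⟨0, 0, 0, 2, 0, 0, 0, 0⟩ := by decide +kernel
theorem c_13 : Chk2 B ks ⟨0, 0, 2, 0, 0, 0, 0, 0⟩ := by decide +kernel
theorem c_14 : Chk2 B ks ⟨0, 2, 0, 0, 0, 0, 0, 0⟩ := by decide +kernel
theorem c_15 : Chk2 B ks ⟨2, 0, 0, 0, 0, 0, 0, 0⟩ := by decide +kernel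
theorem B4 : ∀ Y ∈ B, Y.p = 4 → Y ∈ [⟨-2, 0, 0, 0, 0, 0, 0, 0⟩, ⟨0, -2, 0, 0, 0, 0, 0, 0⟩, ⟨0, 0, -2, 0, 0, 0, 0, 0⟩, ⟨0, 0, 0, -2, 0, 0, 0, 0⟩, ⟨0, 0, 0, 0, -1, -1, -1, 1⟩, ⟨0, 0, 0, 0, -1, -1, 1, -1⟩, ⟨0, 0, 0, 0, -1, 1, -1, -1⟩, ⟨0, 0, 0, 0, -1, 1, 1, 1⟩, ⟨0, 0, 0, 0, 1, -1, -1, -1⟩, ⟨0, 0, 0, 0, 1, -1, 1, 1⟩, ⟨0, 0, 0, 0, 1, 1, -1, 1⟩, ⟨0, 0, 0, 0, 1, 1, 1, -1⟩, ⟨0, 0, 0, 2, 0, 0, 0, 0⟩, ⟨0, 0, 2, 0, 0, 0, 0, 0⟩, ⟨0, 2, 0, 0, 0, 0, 0, 0⟩, ⟨2, 0, 0, 0, 0, 0, 0, 0⟩] := by decide +kernel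
theorem chk1 : Chk1 B ks := fun Y h1 h2 => by
  have h := B4 Y h1 h2
  simp only [List.mem_cons, List.not_mem_nil, or_false] at h
  rcases h with rfl | rfl | rfl | rfl | rfl | rfl | rfl | rfl | rfl | rfl | rfl | rfl | rfl | rfl | rfl | rfl
  exacts [c_0, c_1, c_2, c_3, c_4, c_5, c_6, c_7, c_8, c_9, c_10, c_11, c_12, c_13, c_14, c_15]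

end Cfsg.Agent.J2C
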